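import Cfsg.Agent.Mrg.Omega.TC.Crit_m3
import Cfsg.Agent.Mrg.Omega.NO3S.Fit.PlaneAct_m3
import Cfsg.Agent.Mrg.Omega.S5.Syl_m3
import Cfsg.Agent.Mrg.Omega.ML.MinIrr
import Cfsg.Agent.OddCyclic.GamFar_m3
import Cfsg.Agent.FastGrp
import Cfsg.Agent.Prune
set_option linter.all false

section
prune_inst 0x7ff0fefbaffcbddfffff7fffffffdffdddfdfffffffffdcbffe1ebffffff6befefe5fbaf8ffedafedff6e3bc14f87b53fdffcabfeb6bdc7ffffd5ff45fffff9fffffbfad71f6bc3e1ffe6ffffbf37fee7f3fffffffffffffffffffffffffffffffffffffffff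

-- part: Mrg/Omega/NO3S/TwoOne/Bridge
section
set_option linter.all false
open scoped Cfsg.Agent.FastGrp


/-!
# NO-3S, `q = 2`: bridge from `Hyp S P` to `CaseL.Ln` and to `One`

* `Hyp.ln_four` : `|V_P| = 4`: `Ln S V z`, `V = zl S P`, `1 ≠ z ∈ Ω₁(Z(S))`;
* `Hyp.ws_four` : `ws V z = WW S P`;
* `Hyp.one_of_crit` : a critical pair at distance 1 and (F1) give `One S V z`.
-/

set_option autoImplicit false

namespace Cfsg.Agent.Omega.NO3S.TwoOne

open Subgroup Cfsg Cfsg.Agent.Omega.MinPar Cfsg.Agent.Omega.Frame Cfsg.Agent.Omega.FrameNOFF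
open Cfsg.Agent.ZN (zl zc o2)
open Cfsg.Agent.Omega.NoFF.Lines
open Cfsg.Agent.MinSimple.VModule
open scoped Pointwise

universe u

variable {G : Type u} [Group G]

theorem conj_smul_eq_cj (g : G) (H : Subgroup G) : MulAut.conj g • H = MinSimple.Geo.cj g H := by
  ext x
  rw [NoFF.Basic.mem_conj, MinSimple.Geo.mem_cj]

variable [Finite G] {S : Sylow 2 G} {P : Subgroup G}

theorem centralizer_singleton_eq_CZ (h : Hyp S P) (hc : Nat.card (zl (S : Subgroup G) P) = 4) {z : G}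
    (hz : z ∈ zc (S : Subgroup G)) (hz1 : z ≠ 1) : centralizer ({z} : Set G) = CZ (S : Subgroup G) := by
  ext g
  rw [mem_centralizer_singleton_iff, mem_CZ_four h.ctx h.star h.nonLoc hc hz hz1]

/-- `|V_P| = 4`: the flag `(z, V_P)`. -/
theorem ln_four (h : Hyp S P) (hc : Nat.card (zl (S : Subgroup G) P) = 4) {z : G}
    (hz : z ∈ zc (S : Subgroup G)) (hz1 : z ≠ 1) : CaseL.Ln (S : Subgroup G) (zl (S : Subgroup G) P) z := by
  have hVz := h.star.isLoc.zl_le S h.ctx.char2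
  have hSC : (S : Subgroup G) ≤ centralizer ({z} : Set G) := by
    rw [centralizer_singleton_eq_CZ h hc hz hz1]; exact le_centralizer_zc _
  have hSN : (S : Subgroup G) ≤ normalizer (zl (S : Subgroup G) P : Set G) :=
    h.star.isLoc.le.trans (le_normalizer_zl _ _)
  exact
    { charTwo := h.ctx.char2
      two := S.isPGroup'
      T_le := hSC
      T_syl := MinSimple.Basic.not_dvd_relIndex S hSC
      V_le := (hVz.trans (zc_le _)).trans (h.star.isLoc.o2_le S)
      T_norm := hSN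
      T_syl' := MinSimple.Basic.not_dvd_relIndex S hSN
      card_V := hc
      sq := fun v hv => by
        have := zl_sq_four h.ctx h.star v hv
        rwa [pow_two] at this
      z_mem := zc_le_zl _ _ hz
      z_ne := hz1
      trans := by
        intro v hv hv1
        obtain ⟨p, hp, hpz⟩ := exists_conj_four h.ctx h.star h.nonLoc hc hz hz1 hv hv1
        exact ⟨p, le_normalizer_zl _ _ hp, hpz⟩
      soc := by
        intro t ht ht2 htc
        by_cases ht1 : t = 1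
        · exact Or.inl ht1
        · right
          refine eq_of_zc_four h.ctx h.star h.nonLoc hc hz hz1 (mem_zc.mpr ⟨ht, ?_, ?_⟩) ht1
          · exact fun s hs => htc s hs
          · rw [pow_two]; exact ht2 }

/-- `|V_P| = 4`: `W_z` -/
theorem ws_four (h : Hyp S P) (hc : Nat.card (zl (S : Subgroup G) P) = 4) {z : G}
    (hz : z ∈ zc (S : Subgroup G)) (hz1 : z ≠ 1) :
    MinSimple.Geo.ws (zl (S : Subgroup G) P) z = WW (S : Subgroup G) P := by
  have hl := ln_four h hc hz hz1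
  have hC := centralizer_singleton_eq_CZ h hc hz hz1
  apply le_antisymm
  · refine MinSimple.Geo.ws_le fun L hL => ?_
    obtain ⟨c, hc', rfl⟩ := hl.exists_of_mem_lines hL
    rw [hC] at hc'
    rw [← conj_smul_eq_cj]
    exact conj_zl_le_WW hc'
  · refine W_le fun Q hQ c hc' => ?_
    rw [Set.mem_singleton_iff.1 hQ]
    rw [← hC] at hc'
    have := MinSimple.Geo.le_ws (hl.cj_mem_lines hc')
    rw [← conj_smul_eq_cj] at this
    exact this

/-- `|V_P| = 4`, critical distance 1, (F1). -/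
theorem one_of_crit (h : Hyp S P) (hc : Nat.card (zl (S : Subgroup G) P) = 4) {z : G}
    (hz : z ∈ zc (S : Subgroup G)) (hz1 : z ≠ 1) {y : G} (hy : CritP (S : Subgroup G) P 1 1 y)
    (f1 : ∃ k ∈ MinSimple.Geo.kq (zl (S : Subgroup G) P) z,
      k ∉ centralizer (zl (S : Subgroup G) P : Set G)) :
    One (S : Subgroup G) (zl (S : Subgroup G) P) z := by
  have hl := ln_four h hc hz hz1
  have hC := centralizer_singleton_eq_CZ h hc hz hz1
  have hw := ws_four h hc hz hz1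
  have hab : ∀ a ∈ MinSimple.Geo.ws (zl (S : Subgroup G) P) z,
      ∀ b ∈ MinSimple.Geo.ws (zl (S : Subgroup G) P) z, a * b = b * a := by
    intro a ha b hb
    rw [hw] at ha hb
    exact mem_centralizer_iff.1 (h.W_comm hb) a ha
  refine ⟨hl, hab, ?_, f1⟩
  obtain ⟨u, p, c, Q, hQ, hp, hc', hu, hyu, -, -⟩ := hy.last
  rw [Set.mem_singleton_iff] at hQ
  subst hQ
  have huC : u ∈ CZ (S : Subgroup G) := by
    cases hu with
    | zero g hg => simpa using hg
  have hne := hy.ne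
  -- `z^p` is another point
  have hzV := hl.z_mem
  have hyV : p * z * p⁻¹ ∈ zl (S : Subgroup G) Q :=
    (mem_normalizer_iff.1 (le_normalizer_zl _ _ hp) z).1 hzV
  have key : p ∉ CZ (S : Subgroup G) := by
    intro hpC
    apply hne
    have h1 : y ∈ CZ (S : Subgroup G) := by rw [hyu]; exact mul_mem (mul_mem huC hpC) hc'
    unfold Com
    rw [W_conj h1, map_one, one_smul]
    exact h.W_comm
  refine ⟨p * z * p⁻¹, hyV, fun e => hz1 (conj_eq_one_iff.1 e), fun e => key ?_, ?_⟩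
  · rw [← hC, mem_centralizer_singleton_iff]
    exact CaseL.comm_of_conj_eq e
  · by_contra hcon
    push Not at hcon
    apply hne
    have h2 : y = u * (p * c) := by rw [hyu, mul_assoc]
    have h3 : (1 : G) = u * u⁻¹ := by group
    unfold Com
    rw [h2, ← NoFF.Basic.conj_conj, map_one, one_smul]
    have h4 : WW (S : Subgroup G) Q = MulAut.conj u • WW (S : Subgroup G) Q := (W_conj huC).symm
    rw [show WW (S : Subgroup G) Q = W (zc (S : Subgroup G)) (CZ (S : Subgroup G)) {Q} from rfl] at h4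
    rw [h4]
    conv_rhs => rw [← h4]
    refine NoFF.Basic.conj_le_centralizer ?_
    rw [W_mul hc']
    intro a ha
    rw [mem_centralizer_iff]
    intro b hb
    have ha' : a ∈ MinSimple.Geo.ws (zl (S : Subgroup G) Q) z := by rw [hw]; exact ha
    have hb' : b ∈ MinSimple.Geo.ws (zl (S : Subgroup G) Q) (p * z * p⁻¹) := by
      have hb1 : b ∈ MulAut.conj p • W (zc (S : Subgroup G)) (CZ (S : Subgroup G)) {Q} := hb
      rw [NoFF.Basic.mem_conj] at hb1
      have hb2 : p⁻¹ * b * p ∈ MinSimple.Geo.ws (zl (S : Subgroup G) Q) z := by rw [hw]; exact hb1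
      have := CaseL.conj_mem_ws p hb2
      have e : p * (p⁻¹ * b * p) * p⁻¹ = b := by group
      rwa [e] at this
    exact (hcon a ha' b hb').symm

end Cfsg.Agent.Omega.NO3S.TwoOne
end

-- part: Mrg/Omega/NOThree/LL/InstOne
section
prune_inst 0x4400000000000000000000000000000000000000000000000000000000000000000000000000000000000000000000000000000
set_option linter.all false
open scoped Cfsg.Agent.FastGrp

-- part: Mrg/Omega/NOThree/TF/ULam
section
-- merged: Cfsg.Agent.Mrg.Omega.NO3S.Pt.Plug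
section

/-!
# NO-3S, `|V_P| = 4`: from `Hyp S P` to `Fr` and `Cr`

* `fr_four` : `Fr S V z` from `Hyp S P`, `|V_P| = 4` and (F1);
* `cr_of_crit` : a critical pair `CritP S P n 1 y` gives `Cr V n z (y z y⁻¹)`.
-/

set_option autoImplicit false

namespace Cfsg.Agent.Omega.NO3S.Pt

open Subgroup Cfsg Cfsg.Agent.Omega.MinPar Cfsg.Agent.Omega.Frame Cfsg.Agent.Omega.FrameNOFF
open Cfsg.Agent.ZN (zl zc o2)
open Cfsg.Agent.Omega.NoFF.Lines Cfsg.Agent.Omega.NO3S.TwoOne
open Cfsg.Agent.MinSimple.VModule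
open scoped Pointwise

universe u

variable {G : Type u} [Group G] [Finite G] {S : Sylow 2 G} {P : Subgroup G}

/-- `|V_P| = 4` and (F1) -/
theorem fr_four (h : Hyp S P) (hc : Nat.card (zl (S : Subgroup G) P) = 4) {z : G}
    (hz : z ∈ zc (S : Subgroup G)) (hz1 : z ≠ 1)
    (f1 : ∃ k ∈ MinSimple.Geo.kq (zl (S : Subgroup G) P) z,
      k ∉ centralizer (zl (S : Subgroup G) P : Set G)) :
    Fr (S : Subgroup G) (zl (S : Subgroup G) P) z := by
  refine ⟨ln_four h hc hz hz1, ?_, f1⟩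
  intro a ha b hb
  rw [ws_four h hc hz hz1] at ha hb
  exact mem_centralizer_iff.1 (h.W_comm hb) a ha

/-- `W_x` in both languages -/
theorem conj_WW (h : Hyp S P) (hc : Nat.card (zl (S : Subgroup G) P) = 4) {z : G}
    (hz : z ∈ zc (S : Subgroup G)) (hz1 : z ≠ 1) (x : G) :
    MulAut.conj x • WW (S : Subgroup G) P = MinSimple.Geo.ws (zl (S : Subgroup G) P) (x * z * x⁻¹) := by
  rw [conj_smul_eq_cj, ← ws_four h hc hz hz1, MinSimple.Geo.cj_ws]

theorem com_iff (h : Hyp S P) (hc : Nat.card (zl (S : Subgroup G) P) = 4) {z : G}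
    (hz : z ∈ zc (S : Subgroup G)) (hz1 : z ≠ 1) (x y : G) :
    NoFF.Lines.Com (zc (S : Subgroup G)) (CZ (S : Subgroup G)) {P} x y ↔
      Com (zl (S : Subgroup G) P) (x * z * x⁻¹) (y * z * y⁻¹) := by
  have h1 := conj_WW h hc hz hz1 x
  have h2 := conj_WW h hc hz hz1 y
  unfold NoFF.Lines.Com Com
  constructor
  · intro hcom a ha b hb
    rw [← h1] at ha
    rw [← h2] at hb
    exact (mem_centralizer_iff.1 (hcom ha) b hb).symm
  · intro hcom a ha
    rw [mem_centralizer_iff]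
    intro b hb
    refine (hcom a ?_ b ?_).symm
    · rw [← h1]; exact ha
    · rw [← h2]; exact hb

/-- a path of points gives a path of cosets -/
theorem path_of_pth (h : Hyp S P) (hc : Nat.card (zl (S : Subgroup G) P) = 4) {z : G}
    (hz : z ∈ zc (S : Subgroup G)) (hz1 : z ≠ 1)
    (hf : Fr (S : Subgroup G) (zl (S : Subgroup G) P) z) {k : ℕ} {a b : G}
    (hp : Pth (zl (S : Subgroup G) P) k a b) :
    ∃ x y, x * z * x⁻¹ = a ∧ y * z * y⁻¹ = b ∧
      NoFF.Lines.Path (CZ (S : Subgroup G)) {P} k x y := by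
  induction hp with
  | zero hx =>
    obtain ⟨x, hx⟩ := hf.isPt hx
    exact ⟨x, x, hx, hx, NoFF.Lines.Path.refl x⟩
  | step _ c ih =>
    rename_i k a b w _
    obtain ⟨x, m, hx, hm, hpath⟩ := ih
    obtain ⟨g, hb, hw, -, hw1⟩ := c
    have hl := ln_four h hc hz hz1
    have hmem : MinSimple.Geo.cj (m⁻¹ * g) (zl (S : Subgroup G) P) ∈
        MinSimple.Geo.lines (zl (S : Subgroup G) P) z := by
      refine ⟨⟨_, rfl⟩, ?_⟩
      rw [MinSimple.Geo.mem_cj] at hb ⊢
      have e : (m⁻¹ * g)⁻¹ * z * (m⁻¹ * g) = g⁻¹ * (m * z * m⁻¹) * g := by group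
      rw [e, hm]; exact hb
    obtain ⟨c, hcz, hce⟩ := hl.exists_of_mem_lines hmem
    have hwc : (m * c)⁻¹ * w * (m * c) ∈ zl (S : Subgroup G) P := by
      rw [← MinSimple.Geo.mem_cj, ← MinSimple.Geo.cj_cj, ← hce, MinSimple.Geo.cj_cj]
      have e : m * (m⁻¹ * g) = g := by group
      rw [e]; exact hw
    have hwc1 : (m * c)⁻¹ * w * (m * c) ≠ 1 := fun e => hw1 (by
      have : w = (m * c) * ((m * c)⁻¹ * w * (m * c)) * (m * c)⁻¹ := by group
      rw [this, e]; group)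
    obtain ⟨p, hp, hpz⟩ := exists_conj_four h.ctx h.star h.nonLoc hc hz hz1 hwc hwc1
    refine ⟨x, m * c * p * 1, hx, ?_, ?_⟩
    · calc m * c * p * 1 * z * (m * c * p * 1)⁻¹ = (m * c) * (p * z * p⁻¹) * (m * c)⁻¹ := by group
        _ = w := by rw [hpz]; group
    · refine (hpath.mul_right ?_).step rfl hp (one_mem _)
      rw [← centralizer_singleton_eq_CZ h hc hz hz1]
      exact hcz

/-- a path of cosets gives a path of points -/
theorem pth_of_path (h : Hyp S P) (hc : Nat.card (zl (S : Subgroup G) P) = 4) {z : G}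
    (hz : z ∈ zc (S : Subgroup G)) (hz1 : z ≠ 1)
    (hf : Fr (S : Subgroup G) (zl (S : Subgroup G) P) z) {k : ℕ} {x y : G}
    (hp : NoFF.Lines.Path (CZ (S : Subgroup G)) {P} k x y) :
    Pth (zl (S : Subgroup G) P) k (x * z * x⁻¹) (y * z * y⁻¹) := by
  have hfix : ∀ c ∈ CZ (S : Subgroup G), c * z * c⁻¹ = z := by
    intro c hcC
    rw [← centralizer_singleton_eq_CZ h hc hz hz1, mem_centralizer_singleton_iff] at hcC
    rw [hcC]; group
  induction hp with
  | @zero g c hcC =>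
    have e : g * c * z * (g * c)⁻¹ = g * (c * z * c⁻¹) * g⁻¹ := by group
    rw [e, hfix c hcC]
    exact Pth.zero (hf.col_conj_z g)
  | @step k g m p c Q _ hQ hp hcC ih =>
    rw [Set.mem_singleton_iff] at hQ
    subst hQ
    have e : m * p * c * z * (m * p * c)⁻¹ = (m * p) * (c * z * c⁻¹) * (m * p)⁻¹ := by group
    rw [e, hfix c hcC]
    refine ih.step ⟨m, MinSimple.Geo.conj_mem_cj hf.ln.z_mem, ?_, fun e => hz1 (conj_eq_one_iff.1 e),
      fun e => hz1 (conj_eq_one_iff.1 e)⟩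
    rw [MinSimple.Geo.mem_cj]
    have e : m⁻¹ * (m * p * z * (m * p)⁻¹) * m = p * z * p⁻¹ := by group
    rw [e]
    exact (mem_normalizer_iff.1 (Cfsg.Agent.ZN.le_normalizer_zl _ _ hp) z).1 hf.ln.z_mem

/-- **critical pairs in the language of points** -/
theorem cr_of_crit (h : Hyp S P) (hc : Nat.card (zl (S : Subgroup G) P) = 4) {z : G}
    (hz : z ∈ zc (S : Subgroup G)) (hz1 : z ≠ 1)
    (hf : Fr (S : Subgroup G) (zl (S : Subgroup G) P) z) {n : ℕ} {y : G}
    (hy : CritP (S : Subgroup G) P n 1 y) : Cr (zl (S : Subgroup G) P) n z (y * z * y⁻¹) := by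
  have e1 : (1 : G) * z * (1 : G)⁻¹ = z := by group
  refine ⟨?_, ?_, ?_⟩
  · have := pth_of_path h hc hz hz1 hf hy.path
    rwa [e1] at this
  · have := hy.ne
    rw [com_iff h hc hz hz1, e1] at this
    exact this
  · intro k hk a b hab
    obtain ⟨x, y, rfl, rfl, hp⟩ := path_of_pth h hc hz hz1 hf hab
    rw [← com_iff h hc hz hz1]
    exact hy.min k hk x y hp

end Cfsg.Agent.Omega.NO3S.Pt

end

-- merged: Cfsg.Agent.Mrg.Omega.NO3S.TwoFar.Inst
section

section


/-!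
# NO-3S, `|V_P| = 4`: the instance `Pt.Fr ⟹ Pts.Geom` (`s = 2`)

* `PT V` : the points (the involutions of the conjugates of `V`), `LT V` : the conjugates of `V`, with the
  conjugation actions (`PT.smul_val`, `LT.smul_val`); `inc x l := x ∈ l`, `RR x = ⟨x⟩`, `WS x = W_x`, `VL l = l`;
* `geom` : `Pt.Fr T V z` gives `NOThree.Pts.Geom inc RR WS VL 2 t`, `t = |W_z : ii V|`;
* `walk_iff`, `com_iff'`, `crit_iff` : walks, commuting, critical pairs in both languages;
* `stab_eq` : the stabiliser of the point `x` is `C_G(x)`;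
* `exists_crit` : from `Hyp S P`, `|V_P| = 4`, (F1) and a critical pair of cosets.
-/

set_option autoImplicit false

namespace Cfsg.Agent.Omega.NO3S.TwoFar

open Subgroup Cfsg Cfsg.Agent.ZN Cfsg.Agent.MinSimple.Geo Cfsg.Agent.Omega.CaseL Cfsg.Agent.Omega.NO3S.TwoOne
open Cfsg.Agent.Omega.NO3S.Pt
open Cfsg.Agent.Omega.NOThree (Pts.Geom)
open Cfsg.Agent.ZN.Block (conj_mem_of_normalizer conj_mem_of_normalizer' le_normalizer_of_forall
  mem_normalizer_of)

universe u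

variable {G : Type u} [Group G]

/-- the points -/
def PT (V : Subgroup G) : Type u := {x : G // Col V x x}

/-- the lines -/
def LT (V : Subgroup G) : Type u := {l : Subgroup G // ∃ g : G, l = cj g V}

instance (V : Subgroup G) : MulAction G (PT V) where
  smul g x := ⟨g * x.1 * g⁻¹, x.2.conj g⟩
  one_smul x := Subtype.ext (by change 1 * x.1 * 1⁻¹ = x.1; group)
  mul_smul g h x := Subtype.ext (by
    change g * h * x.1 * (g * h)⁻¹ = g * (h * x.1 * h⁻¹) * g⁻¹
    group)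

instance (V : Subgroup G) : MulAction G (LT V) where
  smul g l := ⟨cj g l.1, by obtain ⟨k, hk⟩ := l.2; exact ⟨g * k, by rw [hk, cj_cj]⟩⟩
  one_smul l := Subtype.ext (cj_one _)
  mul_smul g h l := Subtype.ext (cj_cj g h l.1).symm

theorem PT.smul_val {V : Subgroup G} (g : G) (x : PT V) : (g • x).1 = g * x.1 * g⁻¹ := rfl

theorem LT.smul_val {V : Subgroup G} (g : G) (l : LT V) : (g • l).1 = cj g l.1 := rfl

theorem PT.ext {V : Subgroup G} {x y : PT V} (h : x.1 = y.1) : x = y := Subtype.ext h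

theorem LT.ext {V : Subgroup G} {x y : LT V} (h : x.1 = y.1) : x = y := Subtype.ext h

/-- incidence -/
def inc {V : Subgroup G} (x : PT V) (l : LT V) : Prop := x.1 ∈ l.1

/-- the point as a subgroup -/
def RR {V : Subgroup G} (x : PT V) : Subgroup G := zpowers x.1

/-- `W_x` -/
def WS {V : Subgroup G} (x : PT V) : Subgroup G := ws V x.1

/-- the line as a subgroup -/
def VL {V : Subgroup G} (l : LT V) : Subgroup G := l.1

theorem PT.ne_one {V : Subgroup G} (x : PT V) : x.1 ≠ 1 := x.2.ne_one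

/-- a point from a nontrivial element of a line -/
def pt {V : Subgroup G} {g x : G} (hx : x ∈ cj g V) (hx1 : x ≠ 1) : PT V := ⟨x, g, hx, hx, hx1, hx1⟩

/-- a line -/
def ln (V : Subgroup G) (g : G) : LT V := ⟨cj g V, g, rfl⟩

section

variable {T V : Subgroup G} {z : G}

theorem mem_RR (h : Fr T V z) {x : PT V} {a : G} : a ∈ RR x ↔ a = 1 ∨ a = x.1 :=
  mem_zpowers_iff_of_mul_self (h.pt_sq x.2)

theorem cj_ii (g : G) (V : Subgroup G) : cj g (ii V) = ii (cj g V) := by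
  have key : ∀ (g : G) (V : Subgroup G), cj g (ii V) ≤ ii (cj g V) := by
    intro g V u hu p hp hp1
    rw [mem_cj] at hu hp
    have hp1' : g⁻¹ * p * g ≠ 1 := fun e => hp1 (by
      have : p = g * (g⁻¹ * p * g) * g⁻¹ := by group
      rw [this, e]; group)
    have h1 := conj_mem_ws g (hu _ hp hp1')
    have e1 : g * (g⁻¹ * u * g) * g⁻¹ = u := by group
    have e2 : g * (g⁻¹ * p * g) * g⁻¹ = p := by group
    rw [e1, e2] at h1
    rwa [ws_cj]
  refine le_antisymm (key g V) ?_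
  have := key g⁻¹ (cj g V)
  rwa [cj_inv_cj, cj_le_iff, inv_inv] at this

/-- `W_x ∩ W_y = I_l` -/
theorem inf_eq (h : Fr T V z) {l : LT V} {x y : PT V} (hx : inc x l) (hy : inc y l) (hxy : x ≠ y) :
    WS x ⊓ WS y = ii l.1 := by
  obtain ⟨g, hg⟩ := l.2
  have hx' : x.1 ∈ cj g V := hg ▸ hx
  have hy' : y.1 ∈ cj g V := hg ▸ hy
  rw [hg]
  refine le_antisymm (fun u hu => ?_) (le_inf (h.ii_cj_le hx' x.ne_one) (h.ii_cj_le hy' y.ne_one))
  exact h.mem_ii_cj hx' x.ne_one hy' y.ne_one (fun e => hxy (PT.ext e.symm)) hu.1 hu.2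

theorem index_eq (h : Fr T V z) {l : LT V} {x : PT V} (hx : inc x l) :
    (ii l.1).relIndex (WS x) = (ii V).relIndex (ws V z) := by
  obtain ⟨g, hg⟩ := l.2
  have hx' : x.1 ∈ cj g V := hg ▸ hx
  obtain ⟨k, hk, hkz, -⟩ := h.flag hx' x.ne_one
  rw [hg, ← hk, ← cj_ii]
  have e : WS x = cj k (ws V z) := by
    rw [cj_ws, hkz]; rfl
  rw [e, relIndex_cj]

/-- **the instance** -/
theorem geom [Finite G] (h : Fr T V z) :
    NOThree.Pts.Geom (inc (V := V)) RR WS VL 2 ((ii V).relIndex (ws V z)) where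
  inc_smul g x l hx := conj_mem_cj hx
  R_smul g x a ha := by
    rw [mem_RR h] at ha ⊢
    rcases ha with rfl | rfl
    · left; group
    · right; rfl
  W_smul g x a ha := conj_mem_ws g ha
  V_smul g l a ha := conj_mem_cj ha
  two_le := le_rfl
  card x := by
    change Nat.card (zpowers x.1) = 2
    rw [Nat.card_zpowers, orderOf_eq_prime_iff]
    exact ⟨by rw [pow_two]; exact h.pt_sq x.2, x.ne_one⟩
  ti x y a hx hy ha := by
    rw [mem_RR h] at hx hy
    rcases hx with e | e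
    · exact absurd e ha
    rcases hy with e' | e'
    · exact absurd e' ha
    exact PT.ext (e.symm.trans e')
  R_le x l hx a ha := by
    rw [mem_RR h] at ha
    rcases ha with rfl | rfl
    · exact one_mem _
    · exact hx
  V_le x l hx := le_ws ⟨l.2, hx⟩
  W_le x A hA := ws_le fun L hL => hA ⟨L, hL.1⟩ hL.2
  cover l a ha := by
    obtain ⟨g, hg⟩ := l.2
    by_cases ha1 : a = 1
    · refine ⟨pt (g := g) (conj_mem_cj h.ln.z_mem) (fun e => h.ln.z_ne (conj_eq_one_iff.mp e)), ?_, ?_⟩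
      · change g * z * g⁻¹ ∈ l.1
        rw [hg]
        exact conj_mem_cj h.ln.z_mem
      · rw [ha1]; exact one_mem _
    · have ha' : a ∈ cj g V := hg ▸ ha
      exact ⟨pt ha' ha1, ha, mem_zpowers _⟩
  exists_line x := by
    obtain ⟨g, hg, -⟩ := x.2
    exact ⟨ln V g, hg⟩
  comm x := h.ws_comm x.2
  sq x := h.ws_sq x.2
  F1 x y w l hx hy hw hxy hxw := by rw [inf_eq h hx hy hxy, inf_eq h hx hw hxw]
  index x y l hx hy hxy := by rw [inf_eq h hx hy hxy, index_eq h hx]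
  F2 x y w l hx hy hw hxy u hux huy huV := by
    obtain ⟨g, hg⟩ := l.2
    have hu : u ∈ WS x ⊓ WS y := ⟨hux, huy⟩
    rw [inf_eq h hx hy hxy, hg] at hu
    have hx' : x.1 ∈ cj g V := hg ▸ hx
    have hw' : w.1 ∈ cj g V := hg ▸ hw
    have huV' : u ∉ cj g V := hg ▸ huV
    obtain ⟨c, hc, hcu, hcx⟩ := h.ftwo_cj hu huV' hx' x.ne_one hw' w.ne_one
    refine ⟨c, hcu, LT.ext ?_, PT.ext hcx⟩
    rw [LT.smul_val, hg]
    exact cj_eq_of_mem_normalizer hc

theorem walk_of_pth {k : ℕ} {a b : G} (hp : Pth V k a b) :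
    ∀ (ha : Col V a a) (hb : Col V b b), NOThree.Pts.Walk (inc (V := V)) k ⟨a, ha⟩ ⟨b, hb⟩ := by
  induction hp with
  | zero _ => exact fun _ _ => .zero _
  | step hp c ih =>
    intro ha hb
    obtain ⟨g, h1, h2, -, -⟩ := id c
    exact (ih ha hp.right).step (l := ln V g) h1 h2

theorem pth_of_walk {k : ℕ} {x y : PT V} (hp : NOThree.Pts.Walk (inc (V := V)) k x y) : Pth V k x.1 y.1 := by
  induction hp with
  | zero x => exact .zero x.2
  | @step k x y w l _ hy hw ih =>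
    obtain ⟨g, hg⟩ := l.2
    exact ih.step ⟨g, hg ▸ hy, hg ▸ hw, y.ne_one, w.ne_one⟩

theorem walk_iff {k : ℕ} {x y : PT V} :
    NOThree.Pts.Walk (inc (V := V)) k x y ↔ Pth V k x.1 y.1 :=
  ⟨pth_of_walk, fun hp => walk_of_pth hp x.2 y.2⟩

theorem crit_iff {n : ℕ} {x y : PT V} :
    NOThree.Pts.Crit (inc (V := V)) WS n x y ↔ Cr V n x.1 y.1 := by
  constructor
  · rintro ⟨h1, h2, h3⟩
    refine ⟨pth_of_walk h1, h2, fun k hk a b hab => ?_⟩
    exact h3 k hk ⟨a, hab.left⟩ ⟨b, hab.right⟩ (walk_of_pth hab _ _)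
  · rintro ⟨h1, h2, h3⟩
    exact ⟨walk_iff.2 h1, h2, fun k hk a b hab => h3 k hk _ _ (pth_of_walk hab)⟩

/-- the stabiliser of a point -/
theorem stab_eq (x : PT V) : MulAction.stabilizer G x = centralizer ({x.1} : Set G) := by
  ext g
  rw [MulAction.mem_stabilizer_iff, mem_centralizer_singleton_iff]
  constructor
  · intro h
    have h1 : g * x.1 * g⁻¹ = x.1 := congrArg Subtype.val h
    exact mul_inv_eq_iff_eq_mul.1 h1
  · intro h
    refine PT.ext ?_
    change g * x.1 * g⁻¹ = x.1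
    rw [h]; group

end

end Cfsg.Agent.Omega.NO3S.TwoFar

end

section


/-!
# NO-3S, TwoFar (`|V_P| = 4`, `n ≥ 3`): section 1 of #16267 (helper292), K-free

* `lemM` : LEMMA (M) (`LemmaM.MDat.index_le`, `alpha`, `beta`) in the language of `Pt.Fr`;
* `no_le` : (NO) for a critical pair;
* `Exact V p q` : exact pairs; `Goal V n p x q` : goal pairs, `x` the second point of the path;
* `exact_of_typeI` : (1.1);
* `exact_or_goal` : (1.2).
-/

set_option autoImplicit false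

namespace Cfsg.Agent.Omega.NOThree.SecOne

open Subgroup Cfsg Cfsg.Agent.ZN Cfsg.Agent.MinSimple.Geo Cfsg.Agent.Omega.CaseL Cfsg.Agent.Omega.NO3S.TwoOne
open Cfsg.Agent.Omega.NO3S.Pt Cfsg.Agent.Omega.NO3S.TwoFar
open Cfsg.Agent.Omega.NOThree.LemmaM (NoOver MDat cm mem_cm)

universe u

variable {G : Type u} [Group G] {T V : Subgroup G} {z p q r x f : G} {n : ℕ}

/-- A goal pair `(p, q)`: critical of type I, `[W_p, W_q] ≤ W_p ∩ W_x`, `x` the second point of a geodesic. -/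
structure Goal (V : Subgroup G) (n : ℕ) (p x q : G) : Prop where
  crit : Cr V n p q
  col : Col V p x
  ne : x ≠ p
  path : Pth V (n - 1) x q
  not_mem : p ∉ ws V q
  not_mem' : q ∉ ws V p
  le : ∀ a ∈ ws V p, ∀ b ∈ ws V q, a * b * a⁻¹ * b⁻¹ ∈ ws V p ⊓ ws V x

/-- `C_{W_p}(W_q)` -/
def ee (V : Subgroup G) (p q : G) : Subgroup G := ws V p ⊓ centralizer (ws V q : Set G)

theorem mem_ee {a : G} : a ∈ ee V p q ↔ a ∈ ws V p ∧ ∀ b ∈ ws V q, a * b = b * a := by
  unfold ee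
  rw [mem_inf, mem_centralizer_iff]
  exact and_congr_right fun _ => ⟨fun h b hb => (h b hb).symm, fun h b hb => (h b hb).symm⟩

theorem ee_le : ee V p q ≤ ws V p := inf_le_left

/-- An exact pair. -/
structure Exact (V : Subgroup G) (p q : G) : Prop where
  /-- `W_q ∩ K_p = C_{W_q}(W_p)` -/
  kq : ∀ b ∈ ws V q, b ∈ kq V p → b ∈ ee V q p
  /-- `W_p ∩ K_q = C_{W_p}(W_q)` -/
  kq' : ∀ w ∈ ws V p, w ∈ MinSimple.Geo.kq V q → w ∈ ee V p q
  /-- `C_{W_p}(W_q mod p) = C_{W_p}(W_q)` -/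
  cent : ∀ w ∈ ws V p, (∀ b ∈ ws V q, b * w * b⁻¹ * w⁻¹ ∈ zpowers p) → w ∈ ee V p q
  cent' : ∀ b ∈ ws V q, (∀ w ∈ ws V p, w * b * w⁻¹ * b⁻¹ ∈ zpowers q) → b ∈ ee V q p
  card : (ee V p q).relIndex (ws V p) = (ee V q p).relIndex (ws V q)

namespace Exact

theorem symm (h : Exact V p q) : Exact V q p := ⟨h.kq', h.kq, h.cent', h.cent, h.card.symm⟩

end Exact

/-- `a * b = b * a` from `[a, b] = 1` -/
theorem comm_of_comm_eq_one {a b : G} (h : a * b * a⁻¹ * b⁻¹ = 1) : a * b = b * a := by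
  calc a * b = (a * b * a⁻¹ * b⁻¹) * (b * a) := by group
    _ = b * a := by rw [h, one_mul]

theorem comm_eq_one {a b : G} (h : a * b = b * a) : a * b * a⁻¹ * b⁻¹ = 1 := by
  rw [h]; group

theorem comm_inv_eq (a b : G) : a * b * a⁻¹ * b⁻¹ = (b * a * b⁻¹ * a⁻¹)⁻¹ := by group

/-- elements of `K_x`: one condition is enough -/
theorem mem_kq_of {c : G} (hc : c ∈ centralizer ({x} : Set G))
    (hw : ∀ w ∈ ws V x, c * w * c⁻¹ * w⁻¹ ∈ zpowers x) : c ∈ kq V x := by
  refine ⟨hc, hw, fun w hw' => ?_⟩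
  have hn := centralizer_le_normalizer_ws V x hc
  have h1 : c⁻¹ * w * c ∈ ws V x := by
    have := (mem_normalizer_iff''.1 hn w).1 hw'
    exact this
  have h2 := hw _ h1
  have e : c * (c⁻¹ * w * c) * c⁻¹ * (c⁻¹ * w * c)⁻¹ = w * (c⁻¹ * w * c)⁻¹ := by group
  rw [e] at h2
  have h3 : c⁻¹ * w * c * w⁻¹ = (w * (c⁻¹ * w * c)⁻¹)⁻¹ := by group
  rw [h3]
  exact inv_mem h2

/-- **LEMMA (M)** in the language of `Pt.Fr`. -/
theorem mdat [Finite G] (h : Fr T V z) (hn : 3 ≤ n) (hc : Cr V n p q) (hr : Pth V (n - 1) p r)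
    (hrq : Col V r q) (hx : Col V x p) (hf : f ∈ ws V q) (hfx : f * x * f⁻¹ ≠ x)
    (hD : ws V x ⊓ ws V (f * x * f⁻¹) ≤ ws V p) :
    ∃ l m : NO3S.TwoFar.LT V, MDat (inc (V := V)) RR WS VL 2 ((ii V).relIndex (ws V z)) n
      ⟨p, hc.path.left⟩ ⟨q, hc.path.right⟩ ⟨r, hr.right⟩ ⟨x, hx.left⟩ l m f := by
  obtain ⟨g, hg1, hg2, -, -⟩ := id hrq
  obtain ⟨k, hk1, hk2, -, -⟩ := id hx
  refine ⟨ln V g, ln V k, ⟨geom h, hn, crit_iff.2 hc, walk_of_pth hr _ _, hg1, hg2, hk1, hk2, hf, ?_, ?_⟩⟩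
  · intro e
    exact hfx (congrArg Subtype.val e)
  · exact fun a ha ha' => hD ⟨ha, ha'⟩

/-- **LEMMA (M)** in the language of `Pt.Fr`: `x ∼ p`, `f ∈ W_q` moves `x`, and (D). -/
theorem lemM [Finite G] (h : Fr T V z) (hn : 3 ≤ n) (hNO : NoOver (inc (V := V)) RR WS VL)
    (hc : Cr V n p q) (hr : Pth V (n - 1) p r) (hrq : Col V r q) (hx : Col V x p) (hf : f ∈ ws V q)
    (hfx : f * x * f⁻¹ ≠ x) (hD : ws V x ⊓ ws V (f * x * f⁻¹) ≤ ws V p) :
    2 * (ii V).relIndex (ws V z) ≤ (ws V x ⊓ centralizer ({f} : Set G)).relIndex (ws V x) ∧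
      (Goal V n x p r ∨
        (Com V x r ∧ p ∉ ws V q ∧ ∀ a ∈ ws V x, ∀ u ∈ ws V q, a * u * a⁻¹ * u⁻¹ ∈ ws V r)) := by
  obtain ⟨l, m, hM⟩ := mdat h hn hc hr hrq hx hf hfx hD
  refine ⟨hM.index_le _ fun a => ?_, ?_⟩
  · rw [mem_inf, mem_centralizer_singleton_iff]
    exact ⟨fun h => ⟨h.1, h.2.symm⟩, fun h => ⟨h.1, h.2.symm⟩⟩
  · by_cases hxr : Com V x r
    · right
      obtain ⟨-, h2, h3⟩ := hM.beta hxr hNO
      refine ⟨hxr, fun hp => ?_, h3⟩
      exact hc.path.left.ne_one (h2 p ((mem_RR h).2 (Or.inr rfl)) hp)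
    · left
      obtain ⟨h1, h2, h3, h4⟩ := hM.alpha hxr
      refine ⟨crit_iff.1 h1, hx, fun e => ?_, hr, fun hx' => ?_, fun hr' => ?_, h4⟩
      · exact hM.ne (PT.ext e.symm)
      · exact hx.ne_one (h2 x ((mem_RR h).2 (Or.inr rfl)) hx')
      · exact hr.right.ne_one (h3 r ((mem_RR h).2 (Or.inr rfl)) hr')

/-- **(NO)** for a critical pair `(p, q)`, `W_p` acting on `W_q`. -/
theorem no_le [Finite G] (h : Fr T V z) (hn : 3 ≤ n) (hNO : NoOver (inc (V := V)) RR WS VL)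
    (hc : Cr V n p q) {N C : Subgroup G}
    (hN : ∀ a, a ∈ N ↔ a ∈ ws V p ∧ ∀ u ∈ ws V q, a * u * a⁻¹ * u⁻¹ ∈ zpowers q)
    (hC : ∀ u, u ∈ C ↔ u ∈ ws V q ∧ ∀ a ∈ ws V p, a * u * a⁻¹ * u⁻¹ ∈ zpowers q) :
    N.relIndex (ws V p) ≤ C.relIndex (ws V q) := by
  obtain ⟨m, rfl⟩ : ∃ m, n = m + 1 := ⟨n - 1, by omega⟩
  obtain ⟨y', g, h1, h2, h3, h4, h5, h6, h7⟩ := hc.last h
  have hcom : Com V p y' := hc.min m (by omega) p y' h1
  refine hNO ⟨q, hc.path.right⟩ (ln V g) h3 (ws V p) h7 (h.ws_comm hc.path.left) (h.ws_sq hc.path.left) ?_ ?_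
    N C hN hC
  · intro y hy hyq a ha u hu huy
    have hy' : y.1 ∈ cj g V := hy
    have h8 : u ∈ ii (cj g V) := h.mem_ii_cj h3 h5 hy' y.ne_one (fun e => hyq (PT.ext e)) hu huy
    exact hcom a ha u (h.ii_cj_le h2 h4 h8)
  · intro a ha b hb u hu
    have h8 : a * u * a⁻¹ * u⁻¹ ∈ ws V p := hc.comm_mem_left h ha hu
    exact h.ws_comm hc.path.left b hb _ h8

theorem cent_zpowers {A : Subgroup G} {c : G} (h : ∀ a ∈ A, a * c = c * a) :
    ∀ a ∈ A, ∀ d ∈ zpowers c, a * d = d * a := by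
  intro a ha d hd
  obtain ⟨k, rfl⟩ := mem_zpowers_iff.1 hd
  exact ((show Commute a c from h a ha).zpow_right k).eq

/-- (NO) in the form `|W_p : W_p ∩ K_q| ≤ |W_q : C_{W_q}(W_p mod q)|`. -/
theorem no_le' [Finite G] (h : Fr T V z) (hn : 3 ≤ n) (hNO : NoOver (inc (V := V)) RR WS VL)
    (hc : Cr V n p q) :
    ∃ N C : Subgroup G, (∀ a, a ∈ N ↔ a ∈ ws V p ∧ a ∈ kq V q) ∧
      (∀ u, u ∈ C ↔ u ∈ ws V q ∧ ∀ a ∈ ws V p, a * u * a⁻¹ * u⁻¹ ∈ zpowers q) ∧
      N.relIndex (ws V p) ≤ C.relIndex (ws V q) := by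
  obtain ⟨m, rfl⟩ : ∃ m, n = m + 1 := ⟨n - 1, by omega⟩
  have hpq : ∀ a ∈ ws V p, a * q = q * a := fun a ha => mem_centralizer_singleton_iff.1 (hc.cent h ha)
  have hqq : ∀ a ∈ ws V q, a * q = q * a := fun a ha =>
    h.ws_comm hc.path.right a ha q (h.mem_ws_self hc.path.right)
  have hN1 := cent_zpowers hpq
  have hC1 := cent_zpowers hqq
  have hN : ∀ a, a ∈ _root_.Cfsg.Agent.Omega.NOThree.LemmaM.cm (ws V p) (ws V q) (zpowers q) hN1 ↔
      a ∈ ws V p ∧ ∀ u ∈ ws V q, a * u * a⁻¹ * u⁻¹ ∈ zpowers q := fun a => mem_cm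
  have hC : ∀ u, u ∈ _root_.Cfsg.Agent.Omega.NOThree.LemmaM.cm (ws V q) (ws V p) (zpowers q) hC1 ↔
      u ∈ ws V q ∧ ∀ a ∈ ws V p, a * u * a⁻¹ * u⁻¹ ∈ zpowers q := by
    intro u
    rw [mem_cm]
    refine and_congr_right fun hu => forall₂_congr fun a ha => ?_
    rw [comm_inv_eq a u, inv_mem_iff]
  refine ⟨_, _, fun a => ?_, hC, no_le h hn hNO hc hN hC⟩
  rw [hN]
  refine and_congr_right fun ha => ⟨fun h' => ?_, fun h' => h'.2.1⟩
  exact mem_kq_of (hc.cent h ha) h'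

/-- **(1.1)**: pairs of type I are exact. -/
theorem exact_of_typeI [Finite G] (h : Fr T V z) (hn : 3 ≤ n) (hNO : NoOver (inc (V := V)) RR WS VL)
    (hc : Cr V n p q) (hp : p ∉ ws V q) (hq : q ∉ ws V p) : Exact V p q := by
  have key : ∀ p q : G, Cr V n p q → q ∉ ws V p → ∀ a ∈ ws V p, ∀ b ∈ ws V q,
      a * b * a⁻¹ * b⁻¹ ∈ zpowers q → a * b = b * a := by
    intro p q hc hq a ha b hb hab
    obtain ⟨m, rfl⟩ : ∃ m, n = m + 1 := ⟨n - 1, by omega⟩
    refine comm_of_comm_eq_one ?_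
    rcases (mem_zpowers_iff_of_mul_self (h.pt_sq hc.path.right)).1 hab with e | e
    · exact e
    · exact absurd (e ▸ hc.comm_mem_left h ha hb) hq
  have hle : ∀ p q : G, Cr V n p q → q ∉ ws V p →
      (ee V p q).relIndex (ws V p) ≤ (ee V q p).relIndex (ws V q) := by
    intro p q hc hq
    refine no_le h hn hNO hc (fun a => ?_) fun u => ?_
    · rw [mem_ee]
      refine and_congr_right fun ha => ⟨fun h' b hb => ?_, fun h' b hb => key p q hc hq a ha b hb (h' b hb)⟩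
      rw [comm_eq_one (h' b hb)]
      exact one_mem _
    · rw [mem_ee]
      refine and_congr_right fun hu => ⟨fun h' a ha => ?_, fun h' a ha =>
        (key p q hc hq a ha u hu (h' a ha)).symm⟩
      rw [comm_eq_one (h' a ha).symm]
      exact one_mem _
  refine ⟨fun b hb hk => ?_, fun w hw hk => ?_, fun w hw hk => ?_, fun b hb hk => ?_,
    le_antisymm (hle p q hc hq) (hle q p hc.symm hp)⟩
  · exact mem_ee.2 ⟨hb, fun w hw => key q p hc.symm hp b hb w hw (hk.2.1 w hw)⟩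
  · exact mem_ee.2 ⟨hw, fun b hb => key p q hc hq w hw b hb (hk.2.1 b hb)⟩
  · exact mem_ee.2 ⟨hw, fun b hb => (key q p hc.symm hp b hb w hw (hk b hb)).symm⟩
  · exact mem_ee.2 ⟨hb, fun w hw => (key p q hc hq w hw b hb (hk w hw)).symm⟩

/-- Without goal pairs `x^b = p x` never happens. -/
theorem no_mul [Finite G] (h : Fr T V z) (hn : 3 ≤ n) (hNO : NoOver (inc (V := V)) RR WS VL)
    (hG : ¬ ∃ p x q, Goal V n p x q) (hc : Cr V n p q) (hx : Col V x p) (hxp : x ≠ p) {b : G}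
    (hb : b ∈ ws V q) : b * x * b⁻¹ ≠ p * x := by
  intro e
  obtain ⟨m, rfl⟩ : ∃ m, n = m + 1 := ⟨n - 1, by omega⟩
  obtain ⟨r, g, h1, h2, h3, h4, h5, h6, -⟩ := hc.last h
  have hp1 : p ≠ 1 := hc.path.left.ne_one
  rcases (lemM h hn hNO hc (r := r) h1 (Col.of_mem h2 h3 h4 h5) hx hb (by
    rw [e]
    intro e'
    exact hp1 (by simpa using e')) (by
    rw [e]
    exact h.inf_mul_le hx.symm hxp)).2 with hg | ⟨-, hpq, -⟩
  · exact hG ⟨_, _, _, hg⟩
  · apply hpq
    have h7 : b * x * b⁻¹ * x⁻¹ ∈ ws V q := by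
      rw [comm_inv_eq b x]
      exact inv_mem (hc.comm_mem_right h (h.mem_ws_of_col hx.symm) hb)
    rw [e, mul_inv_cancel_right] at h7
    exact h7

/-- Without goal pairs `W_q ∩ K_p = C_{W_q}(W_p)`. -/
theorem kq_cent [Finite G] (h : Fr T V z) (hn : 3 ≤ n) (hNO : NoOver (inc (V := V)) RR WS VL)
    (hG : ¬ ∃ p x q, Goal V n p x q) (hc : Cr V n p q) {b : G} (hb : b ∈ ws V q) (hbk : b ∈ kq V p) :
    b ∈ ee V q p := by
  rw [mem_ee]
  refine ⟨hb, ?_⟩
  have h1 : ws V p ≤ centralizer ({b} : Set G) := by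
    refine ws_le fun L hL a ha => ?_
    rw [mem_centralizer_singleton_iff]
    obtain ⟨⟨g, rfl⟩, hpL⟩ := hL
    by_cases ha1 : a = 1
    · rw [ha1]; simp
    have hap : Col V a p := ⟨g, ha, hpL, ha1, hc.path.left.ne_one⟩
    by_cases hap' : a = p
    · rw [hap']
      exact (kq_p' hbk).symm
    rcases h.kq_cases' hc.path.left hbk (h.mem_ws_of_col hap.symm) with e | e
    · exact (comm_of_conj_eq e).symm
    · exact absurd e (no_mul h hn hNO hG hc hap hap' hb)
  intro w hw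
  exact (mem_centralizer_singleton_iff.1 (h1 hw)).symm
where
  kq_p' {V : Subgroup G} {p b : G} (hbk : b ∈ kq V p) : b * p = p * b :=
    mem_centralizer_singleton_iff.1 (kq_le_centralizer V p hbk)

/-- **(1.2)** -/
theorem exact_or_goal [Finite G] (h : Fr T V z) (hn : 3 ≤ n) (hNO : NoOver (inc (V := V)) RR WS VL) :
    (∃ p x q, Goal V n p x q) ∨
      ((∀ p q, Cr V n p q → Exact V p q) ∧
        ∀ p q, Cr V n p q → ∀ x, Col V x p → x ≠ p → ∀ b ∈ ws V q, b * x * b⁻¹ ≠ p * x) := by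
  by_cases hG : ∃ p x q, Goal V n p x q
  · exact Or.inl hG
  refine Or.inr ⟨?_, fun p q hc x hx hxp b hb => no_mul h hn hNO hG hc hx hxp hb⟩
  have key : ∀ p q : G, Cr V n p q → ∃ C : Subgroup G,
      (∀ u, u ∈ C ↔ u ∈ ws V q ∧ ∀ a ∈ ws V p, a * u * a⁻¹ * u⁻¹ ∈ zpowers q) ∧ ee V q p ≤ C ∧
      (ee V p q).relIndex (ws V p) ≤ C.relIndex (ws V q) ∧
      C.relIndex (ws V q) ≤ (ee V q p).relIndex (ws V q) := by
    intro p q hc
    obtain ⟨N, C, hN, hC, hle⟩ := no_le' h hn hNO hc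
    have hNe : N = ee V p q := by
      ext a
      rw [hN]
      refine ⟨fun ha => kq_cent h hn hNO hG hc.symm ha.1 ha.2, fun ha => ⟨ha.1, ?_⟩⟩
      obtain ⟨m, rfl⟩ : ∃ m, n = m + 1 := ⟨n - 1, by omega⟩
      refine mem_kq_of (hc.cent h ha.1) fun b hb => ?_
      rw [comm_eq_one ((mem_ee.1 ha).2 b hb)]
      exact one_mem _
    have hCe : ee V q p ≤ C := by
      intro u hu
      rw [hC]
      refine ⟨hu.1, fun a ha => ?_⟩
      rw [comm_eq_one ((mem_ee.1 hu).2 a ha).symm]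
      exact one_mem _
    rw [hNe] at hle
    exact ⟨C, hC, hCe, hle, relIndex_le_of_le_left hCe index_ne_zero_of_finite⟩
  intro p q hc
  obtain ⟨C, hC, hC1, hC2, hC3⟩ := key p q hc
  obtain ⟨C', hC', hC1', hC2', hC3'⟩ := key q p hc.symm
  have hcard : (ee V p q).relIndex (ws V p) = (ee V q p).relIndex (ws V q) := by omega
  have h1 : C ≤ ee V q p := by
    have e := relIndex_mul_relIndex (ee V q p) C (ws V q) hC1 fun u hu => ((hC u).1 hu).1
    have e2 : C.relIndex (ws V q) = (ee V q p).relIndex (ws V q) := by omega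
    rw [← e2] at e
    have e3 : C.relIndex (ws V q) ≠ 0 := index_ne_zero_of_finite
    have e4 : (ee V q p).relIndex C = 1 := Nat.eq_of_mul_eq_mul_right (Nat.pos_of_ne_zero e3) (by rw [e, one_mul])
    exact relIndex_eq_one.1 e4
  have h1' : C' ≤ ee V p q := by
    have e := relIndex_mul_relIndex (ee V p q) C' (ws V p) hC1' fun u hu => ((hC' u).1 hu).1
    have e2 : C'.relIndex (ws V p) = (ee V p q).relIndex (ws V p) := by omega
    rw [← e2] at e
    have e3 : C'.relIndex (ws V p) ≠ 0 := index_ne_zero_of_finite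
    have e4 : (ee V p q).relIndex C' = 1 := Nat.eq_of_mul_eq_mul_right (Nat.pos_of_ne_zero e3) (by rw [e, one_mul])
    exact relIndex_eq_one.1 e4
  exact ⟨fun b hb hk => kq_cent h hn hNO hG hc hb hk, fun w hw hk => kq_cent h hn hNO hG hc.symm hw hk,
    fun w hw hk => h1' ((hC' w).2 ⟨hw, hk⟩), fun b hb hk => h1 ((hC b).2 ⟨hb, hk⟩), hcard⟩

end Cfsg.Agent.Omega.NOThree.SecOne

end

section


/-!
# THEOREM LL (helper975 #18157): the language

`y : ℕ → G` is a geodesic `y 0, y 1, .., y n`, `n ≥ 3`.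

* `GG V n y` : GOAL, `(y 0, y n)` critical of type I with `[W_{y 0}, W_{y n}] ≤ W_{y 1}`;
* `ch x y` : the path `x, y 0, y 1, ..`;
* `Mv V n y x f` : mover: `x ∼ y 0`, `f ∈ W_{y n}` moves `x` (mod `y 0`), the elements of `W_x ∩ W_{y 0}` centralised by
  `f` lie in `W_{y 1}`;
* `Child V n y x f` : `(x, y (n-1))` is GOAL with the path `ch x y`, `(x, f)` is a mover with (D);
* `RedF`, `Term` : terminal pairs.
-/

set_option autoImplicit false
set_option linter.unusedSectionVars false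

namespace Cfsg.Agent.Omega.NOThree.LL

open Subgroup Cfsg Cfsg.Agent.ZN Cfsg.Agent.MinSimple.Geo Cfsg.Agent.Omega.CaseL Cfsg.Agent.Omega.NO3S.TwoOne
open Cfsg.Agent.Omega.NO3S.Pt
open Cfsg.Agent.Omega.NO3S.TwoMid (rr comm_mem_rr rr_comm)

universe u

variable {G : Type u} [Group G] {T V : Subgroup G} {z : G} {n m : ℕ} {y : ℕ → G} {x f : G}

/-- **GOAL** with the geodesic `y 0, .., y n` -/
structure GG (V : Subgroup G) (n : ℕ) (y : ℕ → G) : Prop where
  cr : Cr V n (y 0) (y n)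
  path : ∀ i < n, Col V (y i) (y (i + 1))
  not_mem : y 0 ∉ ws V (y n)
  not_mem' : y n ∉ ws V (y 0)
  le : ∀ a ∈ ws V (y 0), ∀ b ∈ ws V (y n), a * b * a⁻¹ * b⁻¹ ∈ ws V (y 1)

/-- the path `x, y 0, y 1, ..` -/
def ch (x : G) (y : ℕ → G) : ℕ → G
  | 0 => x
  | i + 1 => y i

@[simp] theorem ch_zero (x : G) (y : ℕ → G) : ch x y 0 = x := rfl

@[simp] theorem ch_succ (x : G) (y : ℕ → G) (i : ℕ) : ch x y (i + 1) = y i := rfl

/-- **mover** `(x, f)` of the pair `(y 0, y n)` -/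
structure Mv (V : Subgroup G) (n : ℕ) (y : ℕ → G) (x f : G) : Prop where
  mem : f ∈ ws V (y n)
  col : Col V (y 0) x
  ne : x ≠ y 0
  mv : f * x * f⁻¹ ≠ x
  mv' : f * x * f⁻¹ ≠ y 0 * x
  /-- `C_{U_μ}(f) ≤ U_λ` -/
  cen : ∀ u ∈ ws V x, u ∈ ws V (y 0) → f * u = u * f → u ∈ ws V (y 1)

/-- (D) for `(x, f)` -/
def DD (V : Subgroup G) (p x f : G) : Prop := ws V x ⊓ ws V (f * x * f⁻¹) ≤ ws V p

/-- **child** of the GOAL pair `(y 0, y n; y)`, `n = m + 3` -/
structure Child (V : Subgroup G) (m : ℕ) (y : ℕ → G) (x f : G) : Prop where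
  gg : GG V (m + 3) (ch x y)
  mv : Mv V (m + 3) y x f
  low : DD V (y 0) x f

/-- **terminal**: every mover with (D) is of type (β) -/
def Term (V : Subgroup G) (m : ℕ) (y : ℕ → G) : Prop :=
  ∀ x f, Mv V (m + 3) y x f → DD V (y 0) x f → Com V x (y (m + 2))

/-! ### paths -/

theorem pth_of_path (h : ∀ i < n, Col V (y i) (y (i + 1))) {i j : ℕ} (hij : i ≤ j) (hj : j ≤ n) (hi : i < n) :
    Pth V (j - i) (y i) (y j) := by
  induction j, hij using Nat.le_induction with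
  | base => rw [Nat.sub_self]; exact .zero (h i hi).left
  | succ j hij ih =>
    have h1 := ih (by omega)
    have e : j + 1 - i = j - i + 1 := by omega
    rw [e]
    exact h1.step (h j (by omega))

namespace GG

/-- the path from `y i` to `y j` -/
theorem pth (h : GG V n y) {i j : ℕ} (hij : i ≤ j) (hj : j ≤ n) (hi : i < n) : Pth V (j - i) (y i) (y j) :=
  pth_of_path h.path hij hj hi

theorem com (h : GG V n y) {i j : ℕ} (hij : i ≤ j) (hj : j ≤ n) (hi : i < n) (hn : j - i < n) :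
    Com V (y i) (y j) := h.cr.min _ hn _ _ (h.pth hij hj hi)

theorem no_pth (h : GG V n y) {k : ℕ} (hk : k < n) : ¬ Pth V k (y 0) (y n) := fun h1 => h.cr.ne (h.cr.min k hk _ _ h1)

/-- `d(y i, y j) = j - i` -/
theorem dist (h : GG V n y) {i j k : ℕ} (hij : i ≤ j) (hj : j ≤ n) (hi : i < n) (hk : k < j - i) :
    ¬ Pth V k (y i) (y j) := by
  intro h1
  have h2 : Pth V i (y 0) (y i) := by
    have := h.pth (Nat.zero_le i) hi.le (by omega)
    rwa [Nat.sub_zero] at this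
  rcases Nat.lt_or_ge j n with h3 | h3
  · have h4 := h.pth h3.le le_rfl h3
    exact h.no_pth (k := i + k + (n - j)) (by omega) ((h2.trans h1).trans h4)
  · obtain rfl : j = n := le_antisymm hj h3
    exact h.no_pth (k := i + k) (by omega) (h2.trans h1)

theorem col0 (h : GG V (m + 3) y) : Col V (y 0) (y 1) := h.path 0 (by omega)

theorem ne_succ (h : GG V n y) {i : ℕ} (hi : i < n) : y i ≠ y (i + 1) := by
  intro e
  refine h.dist (Nat.le_succ i) hi hi (k := 0) (by omega) ?_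
  rw [← e]
  exact .zero (h.path i hi).left

/-- type I pairs are exact, and `x^b = p x` never happens -/
theorem exact [Finite G] (hf : Fr T V z)
    (hNO : LemmaM.NoOver (NO3S.TwoFar.inc (V := V)) NO3S.TwoFar.RR NO3S.TwoFar.WS NO3S.TwoFar.VL)
    (h : GG V (m + 3) y) : SecOne.Exact V (y 0) (y (m + 3)) :=
  SecOne.exact_of_typeI hf (by omega) hNO h.cr h.not_mem h.not_mem'

end GG

end Cfsg.Agent.Omega.NOThree.LL

end

section


/-!
# NO-3S, TwoFar (`|V_P| = 4`, `n ≥ 3`): section 5 of #16267 (helper292): a goal pair exists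

* `Sp V p q x` : `x ∼ p` is special for the critical pair `(p, q)`: some `f ∈ W_q` moves `x` and
  `W_x ∩ W_{x^f} ≤ W_p`, that is, (D);
* `DGen V n` : the output of (4.2): for an exact critical pair `(p, q)` the special points generate `W_p` modulo
  `C_{W_p}(W_q)`;
* `exists_goal` : (NO) and (4.2) give a goal pair;
* `le_of_beta` : the same step for one pair: if (α) never occurs for `(p, q)`, then `[W_p, W_q] ≤ W_r`.
-/

set_option autoImplicit false

namespace Cfsg.Agent.Omega.NOThree.SecFive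

open Subgroup Cfsg Cfsg.Agent.ZN Cfsg.Agent.MinSimple.Geo Cfsg.Agent.Omega.CaseL Cfsg.Agent.Omega.NO3S.TwoOne
open Cfsg.Agent.Omega.NO3S.Pt Cfsg.Agent.Omega.NO3S.TwoFar
open Cfsg.Agent.Omega.NOThree.LemmaM (NoOver cm mem_cm)
open Cfsg.Agent.Omega.NOThree.SecOne

universe u

variable {G : Type u} [Group G] {T V : Subgroup G} {z p q r x f : G} {n : ℕ}

/-- `x` is special for the pair `(p, q)`. -/
def Sp (V : Subgroup G) (p q x : G) : Prop :=
  Col V x p ∧ ∃ f ∈ ws V q, f * x * f⁻¹ ≠ x ∧ ws V x ⊓ ws V (f * x * f⁻¹) ≤ ws V p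

/-- The output of (4.2). -/
def DGen (V : Subgroup G) (n : ℕ) : Prop :=
  ∀ p q, Cr V n p q → Exact V p q → ws V p ≤ ee V p q ⊔ _root_.Subgroup.closure {x | Sp V p q x}

/-- If the special points generate `W_p` modulo `C_{W_p}(W_q)` there is a special point. -/
theorem exists_sp (hc : Cr V n p q) (hg : ws V p ≤ ee V p q ⊔ _root_.Subgroup.closure {x | Sp V p q x}) : ∃ x, Sp V p q x := by
  by_contra hcon
  push Not at hcon
  have h1 : {x | Sp V p q x} = ∅ := by
    ext x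
    exact ⟨fun hx => absurd hx (hcon x), fun hx => absurd hx (Set.notMem_empty x)⟩
  rw [h1, Subgroup.closure_empty, sup_bot_eq] at hg
  exact hc.ne fun a ha b hb => (mem_ee.1 (hg ha)).2 b hb

/-- If (α) never occurs for the pair `(p, q)` and the special points generate `W_p` modulo `C_{W_p}(W_q)`, then
`p ∉ W_q` and `[W_p, W_q] ≤ W_r`, `r` the last point of the path before `q`. -/
theorem le_of_beta [Finite G] (h : Fr T V z) (hn : 3 ≤ n) (hNO : NoOver (inc (V := V)) RR WS VL)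
    (hc : Cr V n p q) (hr : Pth V (n - 1) p r) (hrq : Col V r q)
    (hG : ∀ x, Sp V p q x → ¬ Goal V n x p r)
    (hg : ws V p ≤ ee V p q ⊔ _root_.Subgroup.closure {x | Sp V p q x}) :
    p ∉ ws V q ∧ ∀ a ∈ ws V p, ∀ b ∈ ws V q, a * b * a⁻¹ * b⁻¹ ∈ ws V r := by
  have key : ∀ x, Sp V p q x → p ∉ ws V q ∧ ∀ a ∈ ws V x, ∀ u ∈ ws V q, a * u * a⁻¹ * u⁻¹ ∈ ws V r := by
    intro x hx
    obtain ⟨hxp, f, hf, hfx, hD⟩ := id hx
    rcases (lemM h hn hNO hc hr hrq hxp hf hfx hD).2 with h1 | ⟨-, h1, h2⟩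
    · exact absurd h1 (hG x hx)
    · exact ⟨h1, h2⟩
  refine ⟨(key _ (exists_sp hc hg).choose_spec).1, ?_⟩
  have hcom : Com V p r := hc.min (n - 1) (by omega) p r hr
  have h1 : ws V p ≤ _root_.Cfsg.Agent.Omega.NOThree.LemmaM.cm (ws V p) (ws V q) (ws V r) hcom := by
    refine hg.trans (sup_le ?_ ?_)
    · intro a ha
      refine mem_cm.2 ⟨ha.1, fun b hb => ?_⟩
      rw [comm_eq_one ((mem_ee.1 ha).2 b hb)]
      exact one_mem _
    · rw [closure_le]
      intro x hx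
      refine mem_cm.2 ⟨h.mem_ws_of_col hx.1.symm, fun b hb => ?_⟩
      exact (key x hx).2 x (h.mem_ws_self hx.1.left) b hb
  exact fun a ha => (mem_cm.1 (h1 ha)).2

/-- **Section 5**: a goal pair exists. -/
theorem exists_goal [Finite G] (h : Fr T V z) (hn : 3 ≤ n) (hNO : NoOver (inc (V := V)) RR WS VL)
    (hD : DGen V n) (hex : ∃ p q, Cr V n p q) : ∃ p x q, Goal V n p x q := by
  rcases exact_or_goal h hn hNO with hG | ⟨hE, -⟩
  · exact hG
  by_contra hG
  obtain ⟨p, q, hc⟩ := hex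
  obtain ⟨m, rfl⟩ : ∃ m, n = m + 1 := ⟨n - 1, by omega⟩
  obtain ⟨r, g, h1, h2, h3, h4, h5, h6, -⟩ := hc.last h
  obtain ⟨r', g', h1', h2', h3', h4', h5', h6', -⟩ := hc.symm.last h
  have ha := le_of_beta h hn hNO hc (r := r) h1 (Col.of_mem h2 h3 h4 h5)
    (fun x _ hx => hG ⟨_, _, _, hx⟩) (hD p q hc (hE p q hc))
  have hb := le_of_beta h hn hNO hc.symm (r := r') h1' (Col.of_mem h2' h3' h4' h5')
    (fun x _ hx => hG ⟨_, _, _, hx⟩) (hD q p hc.symm (hE q p hc.symm))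
  refine hG ⟨q, r, p, hc.symm, Col.of_mem h3 h2 h5 h4, h6, h1.symm, hb.1, ha.1, fun a ha' b hb' => ⟨?_, ?_⟩⟩
  · exact hc.symm.comm_mem_left h ha' hb'
  · rw [comm_inv_eq a b]
    exact (ws V r).inv_mem (ha.2 b hb' a ha')

end Cfsg.Agent.Omega.NOThree.SecFive

end

section


/-!
# LEMMA M+ of helper626 (#17440), K-free, all `s`, `n ≥ 3`

`(p, q)` critical, `r` the last point of the walk before `q`, `x ∼ p`, `f ∈ W_q` moves `x`, `W_x ∩ W_{x^f} ≤ W_p`
(`LemmaM.MDat`), and `[W_x, W_r] = 1` (case (β)): then the whole `[W_p, W_q]` lies in `W_r`.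

* `beta_full` : LEMMA M+ over `Pts.Geom`;
* `lemMplus` : the same in the language of `Pt.Fr`, with (α);
* `exists_goal_one` : a goal pair exists if every (exact) critical pair has one special point.
-/

set_option autoImplicit false

namespace Cfsg.Agent.Omega.NOThree.MPlus

open Subgroup Cfsg Cfsg.Agent.ZN Cfsg.Agent.MinSimple.VModule Cfsg.Agent.Omega.NOThree.Pts
open Cfsg.Agent.Omega.NOThree.LemmaM

section pts

variable {G X L : Type*} [Group G] [MulAction G X] [MulAction G L]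
variable {inc : X → L → Prop} {R W : X → Subgroup G} {V : L → Subgroup G} {s t n : ℕ}
variable {p q r x : X} {l m : L} {f : G}

theorem comm_split {a w u : G} (h : a * (w * u * w⁻¹ * u⁻¹) = (w * u * w⁻¹ * u⁻¹) * a) :
    a * w * u * (a * w)⁻¹ * u⁻¹ = (w * u * w⁻¹ * u⁻¹) * (a * u * a⁻¹ * u⁻¹) := by
  calc a * w * u * (a * w)⁻¹ * u⁻¹ = a * (w * u * w⁻¹ * u⁻¹) * (u * a⁻¹ * u⁻¹) := by group
    _ = (w * u * w⁻¹ * u⁻¹) * (a * u * a⁻¹ * u⁻¹) := by rw [h]; group

/-- **LEMMA M+** -/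
theorem beta_full [Finite G] (h : MDat inc R W V s t n p q r x l m f) (hc : Com W x r)
    (hNO : NoOver inc R W V) : ∀ a ∈ W p, ∀ u ∈ W q, a * u * a⁻¹ * u⁻¹ ∈ W r := by
  have h3 := h.three
  have hrq : r ≠ q := h.crit.ne_last (by omega) h.walk
  have hxp : Com W x p := h.crit.min 1 (by omega) _ _ (Walk.one h.xm h.pm)
  have hpr : Com W p r := h.crit.com_last (by omega) h.walk
  obtain ⟨hb1, -, hb3⟩ := h.beta hc hNO
  -- `B = W_x W_p`
  let B : Subgroup G :=
    { carrier := {g | ∃ a ∈ W x, ∃ w ∈ W p, g = a * w}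
      one_mem' := ⟨1, one_mem _, 1, one_mem _, by simp⟩
      mul_mem' := by
        rintro _ _ ⟨a, ha, w, hw, rfl⟩ ⟨a', ha', w', hw', rfl⟩
        refine ⟨a * a', mul_mem ha ha', w * w', mul_mem hw hw', ?_⟩
        calc a * w * (a' * w') = a * (w * a') * w' := by group
          _ = a * a' * (w * w') := by rw [← hxp a' ha' w hw]; group
      inv_mem' := by
        rintro _ ⟨a, ha, w, hw, rfl⟩
        refine ⟨a⁻¹, inv_mem ha, w⁻¹, inv_mem hw, ?_⟩
        rw [hxp a ha w hw]; group }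
  have hxB : W x ≤ B := fun a ha => ⟨a, ha, 1, one_mem _, by simp⟩
  have hpB : W p ≤ B := fun w hw => ⟨1, one_mem _, w, hw, by simp⟩
  -- a subgroup containing `W_x`, `W_p` contains `B`
  have hBle : ∀ Z : Subgroup G, W x ≤ Z → W p ≤ Z → B ≤ Z := by
    rintro Z h1 h2 _ ⟨a, ha, w, hw, rfl⟩
    exact mul_mem (h1 ha) (h2 hw)
  have hBcomm : ∀ a ∈ B, ∀ b ∈ B, a * b = b * a := by
    rintro _ ⟨a, ha, w, hw, rfl⟩ _ ⟨a', ha', w', hw', rfl⟩
    calc a * w * (a' * w') = a * (w * a') * w' := by group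
      _ = (a * a') * (w * w') := by rw [← hxp a' ha' w hw]; group
      _ = (a' * a) * (w' * w) := by rw [h.D.comm x a ha a' ha', h.D.comm p w hw w' hw']
      _ = a' * (a * w') * w := by group
      _ = a' * w' * (a * w) := by rw [hxp a ha w' hw']; group
  have hBsq : ∀ a ∈ B, a * a = 1 := by
    rintro _ ⟨a, ha, w, hw, rfl⟩
    calc a * w * (a * w) = a * (w * a) * w := by group
      _ = (a * a) * (w * w) := by rw [← hxp a ha w hw]; group
      _ = 1 := by rw [h.D.sq x a ha, h.D.sq p w hw, one_mul]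
  have hBr : ∀ b ∈ B, ∀ c ∈ W r, b * c = c * b := by
    rintro _ ⟨a, ha, w, hw, rfl⟩ c hcr
    rw [mul_assoc, hpr w hw c hcr, ← mul_assoc, hc a ha c hcr, mul_assoc]
  have hRr : R q ≤ W r := h.R_le_r
  -- commutators of `W_x`, `W_p` with `W_q`
  have hwq : ∀ w ∈ W p, ∀ u ∈ W q, w * u * w⁻¹ * u⁻¹ ∈ W p := by
    intro w hw u hu
    have e : w * u * w⁻¹ * u⁻¹ = w * (u * w⁻¹ * u⁻¹) := by group
    rw [e]
    exact mul_mem hw (h.D.norm_W (h.fix_p hu) (inv_mem hw))
  have hxq : ∀ a ∈ W x, ∀ u ∈ W q, ∀ b ∈ B, b * (a * u * a⁻¹ * u⁻¹) = (a * u * a⁻¹ * u⁻¹) * b := by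
    intro a ha u hu
    have hup : Com W (u • x) p := by
      refine h.crit.min 1 (by omega) _ _ (Walk.one (l := u • m) (h.D.inc_smul u _ _ h.xm) ?_)
      have := h.D.inc_smul u _ _ h.pm
      rwa [h.fix_p hu] at this
    have h1 : u * a⁻¹ * u⁻¹ ∈ W (u • x) := h.D.W_smul u x _ (inv_mem ha)
    have e : a * u * a⁻¹ * u⁻¹ = a * (u * a⁻¹ * u⁻¹) := by group
    have hp' : ∀ w ∈ W p, w * (a * u * a⁻¹ * u⁻¹) = (a * u * a⁻¹ * u⁻¹) * w := by
      intro w hw
      rw [e, ← mul_assoc, ← hxp a ha w hw, mul_assoc, ← hup _ h1 w hw, ← mul_assoc]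
    rintro _ ⟨a', ha', w, hw, rfl⟩
    rw [mul_assoc, hp' w hw, ← mul_assoc, h.comm_comm hu ha ha', mul_assoc]
  have hBq : ∀ g ∈ B, ∀ u ∈ W q, ∀ b ∈ B, b * (g * u * g⁻¹ * u⁻¹) = (g * u * g⁻¹ * u⁻¹) * b := by
    rintro _ ⟨a, ha, w, hw, rfl⟩ u hu b hb
    have h1 := hwq w hw u hu
    have h2 := hxq a ha u hu b hb
    have h4 := hBcomm b hb _ (hpB h1)
    rw [comm_split (hxp a ha _ h1), ← mul_assoc, h4, mul_assoc, h2, ← mul_assoc]
  -- `N`, `C`
  have hBR : ∀ a ∈ B, ∀ c ∈ R q, a * c = c * a := fun a ha c hcc => hBr a ha c (hRr hcc)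
  have hqR : ∀ a ∈ W q, ∀ c ∈ R q, a * c = c * a := fun a ha c hcc => h.D.comm q a ha c (h.D.R_le_W q hcc)
  have hC : ∀ u, u ∈ cm (W q) B (R q) hqR ↔ u ∈ W q ∧ ∀ a ∈ B, a * u * a⁻¹ * u⁻¹ ∈ R q := by
    intro u
    rw [mem_cm]
    refine and_congr_right fun hu => forall₂_congr fun a ha => ?_
    have e : a * u * a⁻¹ * u⁻¹ = (u * a * u⁻¹ * a⁻¹)⁻¹ := by group
    rw [e, inv_mem_iff]
  set N := cm B (W q) (R q) hBR with hNdef
  set C := cm (W q) B (R q) hqR with hCdef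
  have hNB : N ≤ B := fun a ha => (mem_cm.1 ha).1
  have hno : N.relIndex B ≤ C.relIndex (W q) := by
    refine hNO q l h.ql B ?_ hBcomm hBsq ?_ ?_ N C (fun a => mem_cm) hC
    · exact hBle _ (h.D.low_line h.crit.min h.walk' le_rfl hc h.rl)
        (h.D.low_line h.crit.min h.walk (by omega) hpr h.rl)
    · intro y hy hyq a ha u hu huy
      exact hBr a ha u (h.D.inf_le h.ql hy h.rl hyq.symm ⟨hu, huy⟩)
    · exact fun a ha b hb u hu => hBq a ha u hu b hb
  have hCe : C.relIndex (W q) ≤ t := by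
    rw [← h.D.index q r l h.ql h.rl hrq.symm]
    refine relIndex_le_of_le_left ?_ (relIndex_ne_zero' _ _)
    intro u hu
    rw [hC]
    refine ⟨hu.1, fun a ha => ?_⟩
    have e : a * u * a⁻¹ * u⁻¹ = 1 := by rw [hBr a ha u hu.2]; group
    rw [e]; exact one_mem _
  have hNx : t ≤ N.relIndex (W x) := by
    rw [← inf_relIndex_right]
    refine h.t_le hc _ fun a => ?_
    rw [mem_inf, mem_cm]
    exact ⟨fun h => ⟨h.2, h.1.2⟩, fun h => ⟨⟨hxB h.1, h.2⟩, h.1⟩⟩
  have hB : B ≤ W x ⊔ N := by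
    rw [← relIndex_eq_one]
    have e1 := relIndex_mul_relIndex N (W x ⊔ N) B le_sup_right (sup_le hxB hNB)
    have e2 : N.relIndex (W x) ≤ N.relIndex (W x ⊔ N) :=
      relIndex_le_of_le_right le_sup_left (relIndex_ne_zero' _ _)
    have e3 := relIndex_ne_zero' N (W x ⊔ N)
    have e4 := relIndex_ne_zero' (W x ⊔ N) B
    have e5 : N.relIndex (W x ⊔ N) * (W x ⊔ N).relIndex B ≤ N.relIndex (W x ⊔ N) * 1 := by
      rw [e1, mul_one]; omega
    have e6 := Nat.le_of_mul_le_mul_left e5 (Nat.pos_of_ne_zero e3)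
    omega
  have hZ : B ≤ cm B (W q) (W r) hBr := by
    refine hB.trans (sup_le (fun a ha => ?_) fun a ha => ?_)
    · exact mem_cm.2 ⟨hxB ha, fun u hu => hb3 a ha u hu⟩
    · exact mem_cm.2 ⟨hNB ha, fun u hu => hRr ((mem_cm.1 ha).2 u hu)⟩
  exact fun a ha => (mem_cm.1 (hZ (hpB ha))).2

end pts

/-! ### In the language of `Pt.Fr` -/

section fr

open Cfsg.Agent.MinSimple.Geo Cfsg.Agent.Omega.CaseL Cfsg.Agent.Omega.NO3S.TwoOne
open Cfsg.Agent.Omega.NO3S.Pt Cfsg.Agent.Omega.NO3S.TwoFar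
open Cfsg.Agent.Omega.NOThree.SecOne Cfsg.Agent.Omega.NOThree.SecFive

universe u

variable {G : Type u} [Group G] {T V : Subgroup G} {z p q r x f : G} {n : ℕ}

/-- **LEMMA M+** : (α), or `p ∉ W_q` and `[W_p, W_q] ≤ W_r`. -/
theorem lemMplus [Finite G] (h : Fr T V z) (hn : 3 ≤ n)
    (hNO : LemmaM.NoOver (NO3S.TwoFar.inc (V := V)) RR WS VL)
    (hc : Cr V n p q) (hr : Pth V (n - 1) p r) (hrq : Col V r q) (hx : Col V x p) (hf : f ∈ ws V q)
    (hfx : f * x * f⁻¹ ≠ x) (hD : ws V x ⊓ ws V (f * x * f⁻¹) ≤ ws V p) :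
    Goal V n x p r ∨ (NO3S.Pt.Com V x r ∧ p ∉ ws V q ∧ ∀ a ∈ ws V p, ∀ u ∈ ws V q, a * u * a⁻¹ * u⁻¹ ∈ ws V r) := by
  rcases (lemM h hn hNO hc hr hrq hx hf hfx hD).2 with h1 | ⟨h1, h2, -⟩
  · exact Or.inl h1
  · obtain ⟨l, m, hM⟩ := mdat h hn hc hr hrq hx hf hfx hD
    have h3 := beta_full hM h1 hNO
    exact Or.inr ⟨h1, h2, h3⟩

/-- One special point: if (α) never occurs, `p ∉ W_q` and `[W_p, W_q] ≤ W_r`. -/
theorem le_of_beta_one [Finite G] (h : Fr T V z) (hn : 3 ≤ n)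
    (hNO : LemmaM.NoOver (NO3S.TwoFar.inc (V := V)) RR WS VL)
    (hc : Cr V n p q) (hr : Pth V (n - 1) p r) (hrq : Col V r q)
    (hG : ∀ x, Sp V p q x → ¬ Goal V n x p r) (hg : ∃ x, Sp V p q x) :
    p ∉ ws V q ∧ ∀ a ∈ ws V p, ∀ b ∈ ws V q, a * b * a⁻¹ * b⁻¹ ∈ ws V r := by
  obtain ⟨x, hx⟩ := hg
  obtain ⟨hxp, f, hf, hfx, hD⟩ := id hx
  rcases lemMplus h hn hNO hc hr hrq hxp hf hfx hD with h1 | ⟨-, h1⟩
  · exact absurd h1 (hG x hx)
  · exact h1

/-- **A goal pair exists** if every exact critical pair with `x^b ≠ p x` has a special point. -/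
theorem exists_goal_one [Finite G] (h : Fr T V z) (hn : 3 ≤ n)
    (hNO : LemmaM.NoOver (NO3S.TwoFar.inc (V := V)) RR WS VL)
    (hD : (∀ p q, Cr V n p q → Exact V p q) →
      (∀ p q, Cr V n p q → ∀ x, Col V x p → x ≠ p → ∀ b ∈ ws V q, b * x * b⁻¹ ≠ p * x) →
      ∀ p q, Cr V n p q → ∃ x, Sp V p q x)
    (hex : ∃ p q, Cr V n p q) : ∃ p x q, Goal V n p x q := by
  rcases exact_or_goal h hn hNO with hG | ⟨hE, hE'⟩
  · exact hG
  by_contra hG
  obtain ⟨p, q, hc⟩ := hex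
  obtain ⟨m, rfl⟩ : ∃ m, n = m + 1 := ⟨n - 1, by omega⟩
  obtain ⟨r, g, h1, h2, h3, h4, h5, h6, -⟩ := hc.last h
  obtain ⟨r', g', h1', h2', h3', h4', h5', h6', -⟩ := hc.symm.last h
  have ha := le_of_beta_one h hn hNO hc (r := r) h1 (Col.of_mem h2 h3 h4 h5)
    (fun x _ hx => hG ⟨_, _, _, hx⟩) (hD hE hE' p q hc)
  have hb := le_of_beta_one h hn hNO hc.symm (r := r') h1' (Col.of_mem h2' h3' h4' h5')
    (fun x _ hx => hG ⟨_, _, _, hx⟩) (hD hE hE' q p hc.symm)
  refine hG ⟨q, r, p, hc.symm, Col.of_mem h3 h2 h5 h4, h6, h1.symm, hb.1, ha.1, fun a ha' b hb' => ⟨?_, ?_⟩⟩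
  · exact hc.symm.comm_mem_left h ha' hb'
  · rw [comm_inv_eq a b]
    exact (ws V r).inv_mem (ha.2 b hb' a ha')

end fr

end Cfsg.Agent.Omega.NOThree.MPlus

end

end

-- merged: Cfsg.Agent.Mrg.Omega.NOThree.TF.ULam
section

section


/-!
# `U_λ = I_l/p` in `M_p` (NO-3S TwoFar, text #16267, section 0)

`p`, `p₁` on the line `cj g V`, `λ = π p₁`, `U` = the image of `I_l = ii (cj g V)` (any `U` with
`hU : ∀ m, m ∈ U ↔ ∃ a ∈ ii (cj g V), π a = m`).

* `Md.mem_U`, `Md.lam_mem_U`, `Md.index_U` : `|M : U| = |W_z : I_V|`;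
* `Md.stab_U` : the stabiliser of `λ` normalises `U`;
* `Md.mv_U` : (F2') for `u ∈ U`, `u ≠ 0`, `u ≠ λ` some `k ∈ Stab(λ)` has `k u = u + λ`;
* `Md.fix_U` : `[W_q, W_{p₁}] = 1` : `W_q` fixes `U`.
-/

set_option autoImplicit false
set_option linter.unusedSectionVars false

namespace Cfsg.Agent.Omega.NOThree.TF

open Subgroup Cfsg Cfsg.Agent.ZN Cfsg.Agent.MinSimple.Geo Cfsg.Agent.Omega.CaseL Cfsg.Agent.Omega.NO3S.TwoOne
open Cfsg.Agent.Omega.NO3S.Pt
open Cfsg.Agent.ZN.Block (conj_mem_of_normalizer conj_mem_of_normalizer' le_normalizer_of_forall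
  mem_normalizer_of)

universe u v

variable {G : Type u} [Group G] {M : Type v} [AddCommGroup M]

namespace Md

variable {T V : Subgroup G} {z p p₁ g : G} [DistribMulAction (centralizer ({p} : Set G)) M] {π : G → M}
  {U : AddSubgroup M}

/-- the elements of the line -/
theorem four_cj (h : Fr T V z) (hp : p ∈ cj g V) (hp1 : p ≠ 1) (hq : p₁ ∈ cj g V) (hq1 : p₁ ≠ 1) (hne : p₁ ≠ p)
    {a : G} (ha : a ∈ cj g V) : a = 1 ∨ a = p ∨ a = p₁ ∨ a = p * p₁ := by
  obtain ⟨k, -, -, hf⟩ := h.flag hp hp1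
  exact hf.ln.four hp hq hp1 hq1 (Ne.symm hne) ha

/-- `D ≤ M` is the image of `E ∩ W_p` : `|M : D| = |W_p : W_p ∩ E|` -/
theorem index_eq_relIndex (md : Md V p π) {D : AddSubgroup M} {E : Subgroup G}
    (hDE : ∀ a ∈ ws V p, π a ∈ D ↔ a ∈ E) : D.index = E.relIndex (ws V p) := by
  let φ : ws V p →* Multiplicative (M ⧸ D) :=
    { toFun := fun a => Multiplicative.ofAdd (QuotientAddGroup.mk (π a))
      map_one' := by
        change Multiplicative.ofAdd ((QuotientAddGroup.mk (π (1 : G)) : M ⧸ D)) = 1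
        rw [md.map_one]
        rfl
      map_mul' := by
        rintro ⟨a, ha⟩ ⟨b, hb⟩
        change Multiplicative.ofAdd ((QuotientAddGroup.mk (π (a * b)) : M ⧸ D)) = _
        rw [md.map_mul a ha b hb]
        rfl }
  have hφ : Function.Surjective φ := by
    intro x
    obtain ⟨m, hm⟩ := QuotientAddGroup.mk_surjective (Multiplicative.toAdd x)
    obtain ⟨a, ha, rfl⟩ := md.surj m
    exact ⟨⟨a, ha⟩, by
      change Multiplicative.ofAdd ((QuotientAddGroup.mk (π a) : M ⧸ D)) = x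
      rw [hm]
      rfl⟩
  have hk : φ.ker = E.subgroupOf (ws V p) := by
    ext ⟨a, ha⟩
    rw [MonoidHom.mem_ker, mem_subgroupOf]
    change Multiplicative.ofAdd ((QuotientAddGroup.mk (π a) : M ⧸ D)) = 1 ↔ a ∈ E
    rw [← hDE a ha]
    exact QuotientAddGroup.eq_zero_iff (π a)
  have h1 : φ.ker.index = Nat.card (M ⧸ D) := by
    rw [index_ker, MonoidHom.range_eq_top.2 hφ]
    exact Nat.card_congr (Equiv.Set.univ _) |>.trans rfl
  rw [hk] at h1
  exact h1.symm

/-- the subgroup `U` -/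
theorem exists_U (h : Fr T V z) (md : Md V p π) (hp : p ∈ cj g V) (hp1 : p ≠ 1) :
    ∃ U : AddSubgroup M, ∀ m, m ∈ U ↔ ∃ a ∈ ii (cj g V), π a = m := by
  have hle := h.ii_cj_le hp hp1
  have hpc : Col V p p := Col.of_mem hp hp hp1 hp1
  refine ⟨{ carrier := {m | ∃ a ∈ ii (cj g V), π a = m}
            add_mem' := ?_
            zero_mem' := ⟨1, one_mem _, md.map_one⟩
            neg_mem' := ?_ }, fun m => Iff.rfl⟩
  · rintro _ _ ⟨a, ha, rfl⟩ ⟨b, hb, rfl⟩
    exact ⟨a * b, mul_mem ha hb, md.map_mul a (hle ha) b (hle hb)⟩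
  · rintro _ ⟨a, ha, rfl⟩
    exact ⟨a, ha, (md.neg_eq h hpc _).symm⟩

section

variable (h : Fr T V z) (md : Md V p π) (hp : p ∈ cj g V) (hp1 : p ≠ 1)
  (hU : ∀ m, m ∈ U ↔ ∃ a ∈ ii (cj g V), π a = m)
include h md hp hp1 hU

theorem π_mem_U {a : G} (ha : a ∈ ws V p) : π a ∈ U ↔ a ∈ ii (cj g V) := by
  have hpc : Col V p p := Col.of_mem hp hp hp1 hp1
  rw [hU]
  constructor
  · rintro ⟨b, hb, e⟩
    rcases (md.eq_iff h hpc ha (h.ii_cj_le hp hp1 hb)).1 e.symm with e | e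
    · rwa [e]
    · rw [e]
      refine mul_mem ?_ hb
      intro r hr hr1
      rw [ws_cj]
      exact h.line_le_ws hr hp
  · exact fun ha' => ⟨a, ha', rfl⟩

/-- `|M : U| = |W_z : I_V|` -/
theorem index_U : U.index = (ii V).relIndex (ws V z) := by
  rw [md.index_eq_relIndex (D := U) (E := ii (cj g V)) fun a ha => π_mem_U h md hp hp1 hU ha]
  exact NO3S.TwoFar.index_eq h (l := NO3S.TwoFar.ln V g) (x := NO3S.TwoFar.pt hp hp1) hp

end

section

variable (h : Fr T V z) (md : Md V p π) (hp : p ∈ cj g V) (hp1 : p ≠ 1) (hq : p₁ ∈ cj g V) (hq1 : p₁ ≠ 1)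
  (hne : p₁ ≠ p) (hU : ∀ m, m ∈ U ↔ ∃ a ∈ ii (cj g V), π a = m)
include h md hp hp1 hq hq1 hne

/-- the stabiliser of `λ` normalises the line -/
theorem norm_line {c : centralizer ({p} : Set G)} (hc : c • π p₁ = π p₁) :
    (c : G) ∈ normalizer ((cj g V : Subgroup G) : Set G) := by
  have hpc : Col V p p := Col.of_mem hp hp hp1 hp1
  have hqw : p₁ ∈ ws V p := h.line_le_ws hp hq
  have key : ∀ c : centralizer ({p} : Set G), c • π p₁ = π p₁ → ∀ a ∈ cj g V, (c : G) * a * (c : G)⁻¹ ∈ cj g V := by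
    intro c hc a ha
    rw [← md.smul c p₁ hqw, md.eq_iff h hpc (conj_mem_ws_of_mem c.2 hqw) hqw] at hc
    have e1 : (c : G) * p₁ * (c : G)⁻¹ ∈ cj g V := by
      rcases hc with e | e
      · rw [e]; exact hq
      · rw [e]; exact mul_mem hp hq
    have e2 : (c : G) * p * (c : G)⁻¹ = p :=
      NO3S.Dual.conj_eq_of_comm (mem_centralizer_singleton_iff.1 c.2)
    rcases four_cj h hp hp1 hq hq1 hne ha with e | e | e | e
    · rw [e]; simp
    · rw [e, e2]; exact hp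
    · rw [e]; exact e1
    · rw [e]
      have e3 : (c : G) * (p * p₁) * (c : G)⁻¹ = ((c : G) * p * (c : G)⁻¹) * ((c : G) * p₁ * (c : G)⁻¹) := by group
      rw [e3, e2]
      exact mul_mem hp e1
  refine mem_normalizer_of (fun a ha => key c hc a ha) fun a ha => ?_
  have := key c⁻¹ (by rw [inv_smul_eq_iff, hc]) a ha
  simpa only [_root_.Subgroup.mem_map, _root_.MulEquiv.toMonoidHom_eq_coe, _root_.MonoidHom.coe_coe, _root_.MulAut.conj_apply, _root_.InvMemClass.coe_inv, _root_.inv_inv] using this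

include hU

/-- the stabiliser of `λ` normalises `U` -/
theorem stab_U {c : centralizer ({p} : Set G)} (hc : c • π p₁ = π p₁) {u : M} (hu : u ∈ U) : c • u ∈ U := by
  obtain ⟨a, ha, rfl⟩ := (hU u).1 hu
  rw [← md.smul c a (h.ii_cj_le hp hp1 ha), hU]
  exact ⟨_, conj_mem_of_normalizer (normalizer_le_normalizer_ii _) (norm_line h md hp hp1 hq hq1 hne hc) ha, rfl⟩

omit hq1 hne in
theorem lam_mem_U : π p₁ ∈ U := by
  rw [hU]
  refine ⟨p₁, ?_, rfl⟩
  intro r hr hr1
  rw [ws_cj]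
  exact h.line_le_ws hr hq

/-- **(F2')** -/
theorem mv_U [Finite G] {u : M} (hu : u ∈ U) (hu0 : u ≠ 0) (hul : u ≠ π p₁) :
    ∃ k : centralizer ({p} : Set G), k • π p₁ = π p₁ ∧ k • u = u + π p₁ := by
  have hpc : Col V p p := Col.of_mem hp hp hp1 hp1
  have hle := h.ii_cj_le hp hp1
  obtain ⟨a, ha, rfl⟩ := (hU u).1 hu
  have hqw : p₁ ∈ ws V p := h.line_le_ws hp hq
  have hpw : p ∈ ws V p := h.line_le_ws hp hp
  have haV : a ∉ cj g V := by
    intro haV
    rcases four_cj h hp hp1 hq hq1 hne haV with e | e | e | e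
    · exact hu0 (by rw [e, md.map_one])
    · exact hu0 (by rw [e, md.map_p h hpc])
    · exact hul (by rw [e])
    · exact hul (by rw [e, md.map_mul p hpw p₁ hqw, md.map_p h hpc, zero_add])
  obtain ⟨k, -, hk, hka⟩ := h.fu_cj ha haV hq hq1
  have hkp : k ∈ centralizer ({p} : Set G) := by
    rw [mem_centralizer_singleton_iff]
    exact (mem_centralizer_iff.1 hk p hp).symm
  refine ⟨⟨k, hkp⟩, ?_, ?_⟩
  · rw [← md.smul ⟨k, hkp⟩ p₁ hqw]
    congr 1
    exact NO3S.Dual.conj_eq_of_comm (mem_centralizer_iff.1 hk p₁ hq).symm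
  · rw [← md.smul ⟨k, hkp⟩ a (hle ha)]
    change π (k * a * k⁻¹) = _
    rw [hka, md.map_mul p₁ hqw a (hle ha), add_comm]

omit hp1 hne in
/-- `W_q` fixes `U`, if `[W_{p₁}, W_q] = 1`. -/
theorem fix_U {q : G} (hcom : NO3S.Pt.Com V p₁ q) {f : centralizer ({p} : Set G)} (hf : (f : G) ∈ ws V q)
    (hp1 : p ≠ 1) {u : M} (hu : u ∈ U) : f • u = u := by
  obtain ⟨a, ha, rfl⟩ := (hU u).1 hu
  rw [← md.smul f a (h.ii_cj_le hp hp1 ha)]
  congr 1
  exact NO3S.Dual.conj_eq_of_comm (hcom a (h.ii_cj_le hq hq1 ha) f hf).symm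

end

end Md

end Cfsg.Agent.Omega.NOThree.TF

end

section


/-!
# TwoFar, THEOREM LL (#18157): `O₂(C_G(p)/K_p) = 1` for `M_p`, the data `BD` (section 4)

* `Md.pt_conj` : the line vectors of `M_p` are conjugate; `Md.span_pt` : they span; `Md.redM` : `O₂(C_G(p)/K_p) = 1`;
* `Md.bd` : the data of `BD` (section 4) for a transvection with centre `c ∈ U_λ` which is not a line vector.
-/

set_option autoImplicit false
set_option linter.unusedSectionVars false

namespace Cfsg.Agent.Omega.NOThree.LL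

open Subgroup Cfsg Cfsg.Agent.ZN Cfsg.Agent.MinSimple.Geo Cfsg.Agent.Omega.CaseL Cfsg.Agent.Omega.NO3S.TwoOne
open Cfsg.Agent.Omega.NO3S.Pt
open Cfsg.Agent.Omega.NOThree.TF (Md conj_mem_ws_of_mem exists_T)

universe u v

variable {G : Type u} [Group G] {T V : Subgroup G} {z p x : G} {M : Type v} [AddCommGroup M]
  [DistribMulAction (centralizer ({p} : Set G)) M] {π : G → M}

/-- the line vectors of `M_p` are conjugate -/
theorem pt_conj (h : Fr T V z) (md : Md V p π) (hx : Col V p x) (hne : x ≠ p) {e : G} (he : Col V p e)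
    (hne' : e ≠ p) : ∃ g : centralizer ({p} : Set G), g • π x = π e := by
  obtain ⟨g₁, p1, x1, hp1, hx1⟩ := id hx
  obtain ⟨g₂, p2, e2, -, he1⟩ := id he
  obtain ⟨k₁, a1, b1, -⟩ := h.flag p1 hp1
  obtain ⟨k₂, a2, b2, hf⟩ := h.flag p2 hp1
  have hc : (k₂ * k₁⁻¹) * p * (k₂ * k₁⁻¹)⁻¹ = p := by
    nth_rewrite 1 [← b1]
    rw [← b2]
    group
  have hcp : k₂ * k₁⁻¹ ∈ centralizer ({p} : Set G) := by
    rw [mem_centralizer_singleton_iff]
    exact mul_inv_eq_iff_eq_mul.1 hc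
  refine ⟨⟨k₂ * k₁⁻¹, hcp⟩, ?_⟩
  have hm : (k₂ * k₁⁻¹) * x * (k₂ * k₁⁻¹)⁻¹ ∈ cj g₂ V := by
    have h1 : (k₂ * k₁⁻¹) * x * (k₂ * k₁⁻¹)⁻¹ ∈ cj (k₂ * k₁⁻¹) (cj k₁ V) := by
      rw [a1]
      exact conj_mem_cj x1
    rwa [cj_cj, inv_mul_cancel_right, a2] at h1
  rw [← md.smul ⟨k₂ * k₁⁻¹, hcp⟩ x (h.mem_ws_of_col hx)]
  have hne2 : (k₂ * k₁⁻¹) * x * (k₂ * k₁⁻¹)⁻¹ ≠ p := by
    intro e'
    apply hne
    have h2 := e'.trans hc.symm
    exact mul_left_cancel (mul_right_cancel h2)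
  rcases hf.ln.four p2 e2 hp1 he1 (Ne.symm hne') hm with e' | e' | e' | e'
  · exact absurd (conj_eq_one_iff.1 e') hx1
  · exact absurd e' hne2
  · change π ((k₂ * k₁⁻¹) * x * (k₂ * k₁⁻¹)⁻¹) = _
    rw [e']
  · change π ((k₂ * k₁⁻¹) * x * (k₂ * k₁⁻¹)⁻¹) = _
    rw [e', md.map_mul p (h.mem_ws_self hx.left) e (h.mem_ws_of_col he), md.map_p h hx.left, zero_add]

/-- `M = ⟨λ^H⟩` -/
theorem span_pt (h : Fr T V z) (md : Md V p π) (hx : Col V p x) (hne : x ≠ p) (m : M) :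
    m ∈ AddSubgroup.closure {v | ∃ g : centralizer ({p} : Set G), v = g • π x} := by
  set D := AddSubgroup.closure {v | ∃ g : centralizer ({p} : Set G), v = g • π x} with hD
  obtain ⟨a, ha, rfl⟩ := md.surj m
  have h1 : ws V p ≤
      { carrier := {a | a ∈ ws V p ∧ π a ∈ D}
        one_mem' := ⟨one_mem _, by rw [md.map_one]; exact zero_mem _⟩
        mul_mem' := fun {a b} ha hb => ⟨mul_mem ha.1 hb.1, by
          rw [md.map_mul a ha.1 b hb.1]; exact add_mem ha.2 hb.2⟩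
        inv_mem' := fun {a} ha => ⟨inv_mem ha.1, by
          rw [inv_eq_of_mul_eq_one_left (h.ws_sq hx.left a ha.1)]; exact ha.2⟩ } := by
    refine ws_le ?_
    rintro _ ⟨⟨g, rfl⟩, hp⟩ a ha
    have hle := h.line_le_ws hp
    refine ⟨hle ha, ?_⟩
    by_cases ha1 : a = 1
    · rw [ha1, md.map_one]; exact zero_mem _
    by_cases hap : a = p
    · rw [hap, md.map_p h hx.left]; exact zero_mem _
    obtain ⟨c, hc⟩ := pt_conj h md hx hne (Col.of_mem hp ha hx.ne_one ha1) hap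
    rw [← hc]
    exact AddSubgroup.subset_closure ⟨c, rfl⟩
  exact (h1 ha).2

/-- `O₂(C_G(p)/K_p) = 1` -/
theorem redM_pt [Finite G] (h : Fr T V z) (md : Md V p π) (hx : Col V p x) (hne : x ≠ p) :
    RedM (centralizer ({p} : Set G)) M := by
  obtain ⟨T', h1, h2, h3, h4, -, -⟩ := exists_T h hx hne
  refine redM_of (T := T'.subgroupOf (centralizer ({p} : Set G))) h3 (lam := π x) ?_ (span_pt h md hx hne)
  intro t ht
  rw [← md.smul t x (h.mem_ws_of_col hx)]
  rcases h4 t (mem_subgroupOf.1 ht) with e | e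
  · rw [e]
  · rw [e, md.map_mul p (h.mem_ws_self hx.left) x (h.mem_ws_of_col hx), md.map_p h hx.left, zero_add]

/-- `M_p` is finite -/
theorem finite_Md [Finite G] (md : Md V p π) : Finite M := by
  refine Finite.of_surjective (fun a : ws V p => π a) fun v => ?_
  obtain ⟨a, ha, e⟩ := md.surj v
  exact ⟨⟨a, ha⟩, e⟩

/-- **the data of section 4** -/
theorem bd_of_tr [Finite G] (h : Fr T V z) (md : Md V p π) {g p₁ : G} (hp : p ∈ cj g V) (hp1 : p ≠ 1)
    (hq : p₁ ∈ cj g V) (hq1 : p₁ ≠ 1) (hne : p₁ ≠ p) {U : AddSubgroup M}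
    (hU : ∀ m, m ∈ U ↔ ∃ a ∈ ii (cj g V), π a = m) {c : M} (hc : c ∈ U)
    (hcl : ∀ g : centralizer ({p} : Set G), g • π p₁ ≠ c)
    (ht : ∃ t : centralizer ({p} : Set G), Tr c t ∧ ∀ u ∈ U, t • u = u) :
    BD (centralizer ({p} : Set G)) (π p₁) U c where
  two := md.two h (Col.of_mem hp hp hp1 hp1)
  red := redM_pt h md (Col.of_mem hp hq hp1 hq1) hne
  span := span_pt h md (Col.of_mem hp hq hp1 hq1) hne
  lamU := md.lam_mem_U h hp hp1 hq hU
  inv := fun c hc u hu => md.stab_U h hp hp1 hq hq1 hne hU hc hu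
  F2 := fun u hu h0 h1 => md.mv_U h hp hp1 hq hq1 hne hU hu h0 h1
  cU := hc
  cl := hcl
  tr := ht

end Cfsg.Agent.Omega.NOThree.LL

end

end
end

-- part: Mrg/Omega/NOThree/LL/Mover
section
-- merged: Cfsg.Agent.Mrg.Omega.NOThree.TF.Trans
section

/-!
# Transport from `p` to `q = g p g⁻¹` (NO-3S TwoFar, text #16267)

* `ce e : C(p) ≃* C(q)`, `e : g p g⁻¹ = q`; `cm e J` the image of `J ≤ C(p)`;
* `Md.tr : M_p ≃+ M_q` with `tr (π a) = π' (g a g⁻¹)` (`tr_π`), `tr (c • m) = ce e c • tr m` (`tr_smul`);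
* `Md.mem_BJ_tr`, `Md.mem_CC_tr`;
* `exists_flag2` : some `g` maps `(p, p₁)` to `(q, q₁)`.
-/

set_option autoImplicit false
set_option linter.unusedSectionVars false

namespace Cfsg.Agent.Omega.NOThree.TF

open Subgroup Cfsg Cfsg.Agent.ZN Cfsg.Agent.MinSimple.Geo Cfsg.Agent.Omega.CaseL Cfsg.Agent.Omega.NO3S.TwoOne
open Cfsg.Agent.Omega.NO3S.Pt
open Cfsg.Agent.Omega.NO3S.Dual (nn mem_nn DW)
open Cfsg.Agent.ZN.Block (conj_mem_of_normalizer conj_mem_of_normalizer' le_normalizer_of_forall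
  mem_normalizer_of)

universe u v w

variable {G : Type u} [Group G]

section ce

variable {g p q : G}

theorem conj_mem_cent_singleton (e : g * p * g⁻¹ = q) {c : G} (hc : c ∈ centralizer ({p} : Set G)) :
    g * c * g⁻¹ ∈ centralizer ({q} : Set G) := by
  rw [mem_centralizer_singleton_iff] at hc ⊢
  rw [← e]
  calc g * c * g⁻¹ * (g * p * g⁻¹) = g * (c * p) * g⁻¹ := by group
    _ = g * p * g⁻¹ * (g * c * g⁻¹) := by rw [hc]; group

theorem inv_rel (e : g * p * g⁻¹ = q) : g⁻¹ * q * g⁻¹⁻¹ = p := by rw [← e]; group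

/-- conjugation by `g` as an isomorphism `C(p) ≃* C(q)`, `g p g⁻¹ = q` -/
def ce (e : g * p * g⁻¹ = q) : centralizer ({p} : Set G) ≃* centralizer ({q} : Set G) where
  toFun c := ⟨g * c * g⁻¹, conj_mem_cent_singleton e c.2⟩
  invFun c := ⟨g⁻¹ * c * g, by
    have := conj_mem_cent_singleton (inv_rel e) c.2
    rwa [inv_inv] at this⟩
  left_inv c := Subtype.ext (by
    change g⁻¹ * (g * (c : G) * g⁻¹) * g = c
    group)
  right_inv c := Subtype.ext (by
    change g * (g⁻¹ * (c : G) * g) * g⁻¹ = c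
    group)
  map_mul' a b := Subtype.ext (by
    change g * ((a : G) * b) * g⁻¹ = g * a * g⁻¹ * (g * b * g⁻¹)
    group)

theorem ce_val (e : g * p * g⁻¹ = q) (c : centralizer ({p} : Set G)) : (ce e c : G) = g * c * g⁻¹ := rfl

/-- the image of a subgroup of `C(p)` -/
def cm (e : g * p * g⁻¹ = q) (J : Subgroup (centralizer ({p} : Set G))) :
    Subgroup (centralizer ({q} : Set G)) := J.map (ce e).toMonoidHom

theorem mem_cm (e : g * p * g⁻¹ = q) {J : Subgroup (centralizer ({p} : Set G))}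
    {c : centralizer ({p} : Set G)} : ce e c ∈ cm e J ↔ c ∈ J := by
  unfold cm
  rw [mem_map]
  constructor
  · rintro ⟨x, hx, h⟩
    have : x = c := (ce e).injective h
    exact this ▸ hx
  · exact fun h => ⟨c, h, rfl⟩

end ce

namespace Md

variable {T V : Subgroup G} {z p q g : G} {M : Type v} [AddCommGroup M] {M' : Type w} [AddCommGroup M']
  [DistribMulAction (centralizer ({p} : Set G)) M] [DistribMulAction (centralizer ({q} : Set G)) M']
  {π : G → M} {π' : G → M'}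

theorem col_of_conj (e : g * p * g⁻¹ = q) (hp : Col V p p) : Col V q q := by
  have := hp.conj g
  rwa [e] at this

theorem conj_mem_ws' (e : g * p * g⁻¹ = q) {a : G} (ha : a ∈ ws V p) : g * a * g⁻¹ ∈ ws V q := by
  have := conj_mem_ws g ha
  rwa [e] at this

theorem eq_of_eq (h : Fr T V z) (hp : Col V p p) (md : Md V p π) (md' : Md V q π') (e : g * p * g⁻¹ = q)
    {a b : G} (ha : a ∈ ws V p) (hb : b ∈ ws V p) : π a = π b ↔ π' (g * a * g⁻¹) = π' (g * b * g⁻¹) := by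
  rw [md.eq_iff h hp ha hb, md'.eq_iff h (col_of_conj e hp) (conj_mem_ws' e ha) (conj_mem_ws' e hb)]
  refine or_congr ⟨fun h1 => by rw [h1], fun h1 => ?_⟩ ⟨fun h1 => by rw [h1, ← e]; group, fun h1 => ?_⟩
  · calc a = g⁻¹ * (g * a * g⁻¹) * g := by group
      _ = b := by rw [h1]; group
  · calc a = g⁻¹ * (g * a * g⁻¹) * g := by group
      _ = p * b := by rw [h1, ← e]; group

/-- the map underlying `tr` -/
noncomputable def trFun (md : Md V p π) (π' : G → M') (g : G) (m : M) : M' :=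
  π' (g * Classical.choose (md.surj m) * g⁻¹)

theorem trFun_π (h : Fr T V z) (hp : Col V p p) (md : Md V p π) (md' : Md V q π') (e : g * p * g⁻¹ = q)
    {a : G} (ha : a ∈ ws V p) : trFun md π' g (π a) = π' (g * a * g⁻¹) := by
  unfold trFun
  obtain ⟨h1, h2⟩ := Classical.choose_spec (md.surj (π a))
  exact (eq_of_eq h hp md md' e h1 ha).1 h2

/-- **the transport** `M_p ≃+ M_q` -/
noncomputable def tr (h : Fr T V z) (hp : Col V p p) (md : Md V p π) (md' : Md V q π')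
    (e : g * p * g⁻¹ = q) : M ≃+ M' :=
  AddEquiv.ofBijective
    ({ toFun := trFun md π' g
       map_zero' := by
         have h1 := trFun_π h hp md md' e (one_mem (ws V p))
         rw [md.map_one] at h1
         rw [h1, mul_one, mul_inv_cancel, md'.map_one]
       map_add' := by
         intro m m'
         obtain ⟨a, ha, rfl⟩ := md.surj m
         obtain ⟨b, hb, rfl⟩ := md.surj m'
         rw [← md.map_mul a ha b hb, trFun_π h hp md md' e (mul_mem ha hb), trFun_π h hp md md' e ha,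
           trFun_π h hp md md' e hb, ← md'.map_mul _ (conj_mem_ws' e ha) _ (conj_mem_ws' e hb)]
         congr 1
         group } : M →+ M')
    (by
      constructor
      · intro m m' hm
        obtain ⟨a, ha, rfl⟩ := md.surj m
        obtain ⟨b, hb, rfl⟩ := md.surj m'
        change trFun md π' g (π a) = trFun md π' g (π b) at hm
        rw [trFun_π h hp md md' e ha, trFun_π h hp md md' e hb] at hm
        exact (eq_of_eq h hp md md' e ha hb).2 hm
      · intro m'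
        obtain ⟨b, hb, rfl⟩ := md'.surj m'
        have hb' : g⁻¹ * b * g ∈ ws V p := by
          have := conj_mem_ws' (inv_rel e) hb
          rwa [inv_inv] at this
        refine ⟨π (g⁻¹ * b * g), ?_⟩
        change trFun md π' g (π (g⁻¹ * b * g)) = π' b
        rw [trFun_π h hp md md' e hb']
        congr 1
        group)

variable (h : Fr T V z) (hp : Col V p p) (md : Md V p π) (md' : Md V q π') (e : g * p * g⁻¹ = q)

theorem tr_π {a : G} (ha : a ∈ ws V p) : tr h hp md md' e (π a) = π' (g * a * g⁻¹) :=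
  trFun_π h hp md md' e ha

theorem tr_smul (c : centralizer ({p} : Set G)) (m : M) :
    tr h hp md md' e (c • m) = ce e c • tr h hp md md' e m := by
  obtain ⟨a, ha, rfl⟩ := md.surj m
  rw [← md.smul c a ha, tr_π h hp md md' e (conj_mem_ws_of_mem c.2 ha), tr_π h hp md md' e ha,
    ← md'.smul _ _ (conj_mem_ws' e ha), ce_val]
  congr 1
  group

end Md

/-- some element maps the flag `(p, p₁)` to `(q, q₁)` -/
theorem exists_flag2 {T V : Subgroup G} {z p q p₁ q₁ : G} (h : Fr T V z) (hp : Col V p p₁) (hne : p₁ ≠ p)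
    (hq : Col V q q₁) (hne' : q₁ ≠ q) : ∃ g : G, g * p * g⁻¹ = q ∧ g * p₁ * g⁻¹ = q₁ := by
  obtain ⟨a, h1, h2, h3, h4⟩ := hp
  obtain ⟨b, h5, h6, h7, h8⟩ := hq
  obtain ⟨k, hk, hkz, -⟩ := h.flag h1 h3
  obtain ⟨k', hk', hkz', hf⟩ := h.flag h5 h7
  set c := k' * k⁻¹ with hc
  have e1 : c * p * c⁻¹ = q := by rw [hc, ← hkz, ← hkz']; group
  have e2 : c * p₁ * c⁻¹ ∈ cj b V := by
    have h9 : p₁ ∈ cj k V := hk ▸ h2
    have h10 := conj_mem_cj (g := c) h9
    rw [cj_cj] at h10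
    have : c * k = k' := by rw [hc]; group
    rw [this, hk'] at h10
    exact h10
  have e3 : c * p₁ * c⁻¹ ≠ 1 := fun e => h4 (conj_eq_one_iff.1 e)
  have e4 : c * p₁ * c⁻¹ ≠ q := by
    rw [← e1]
    intro e
    apply hne
    calc p₁ = c⁻¹ * (c * p₁ * c⁻¹) * c := by group
      _ = p := by rw [e]; group
  rcases hf.ln.four h5 h6 h7 h8 (Ne.symm hne') e2 with e | e | e | e
  · exact absurd e e3
  · exact absurd e e4
  · exact ⟨c, e1, e⟩
  · obtain ⟨m, hm, -, hmv⟩ := h.mover_cj h5 h7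
    have hqq : q * q = 1 := hf.ln.zz
    have h11 : m * (q * q₁) * m⁻¹ = q * (q * q₁) := by
      refine hmv _ (mul_mem h5 h6) ?_ ?_
      · rw [← e]; exact e3
      · rw [← e]; exact e4
    have h12 : m * q * m⁻¹ = q :=
      NO3S.Dual.conj_eq_of_comm (mem_centralizer_singleton_iff.1 (kq_le_centralizer V q hm))
    refine ⟨m * c, ?_, ?_⟩
    · calc m * c * p * (m * c)⁻¹ = m * (c * p * c⁻¹) * m⁻¹ := by group
        _ = q := by rw [e1, h12]
    · calc m * c * p₁ * (m * c)⁻¹ = m * (c * p₁ * c⁻¹) * m⁻¹ := by group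
        _ = q₁ := by rw [e, h11, ← mul_assoc, hqq, one_mul]

end Cfsg.Agent.Omega.NOThree.TF

end

-- merged: Cfsg.Agent.Mrg.Omega.NOThree.LL.Mover
section

section


/-!
# THEOREM LL (helper975 #18157), section 1: movers, (D) in goal pairs

`St` : the setting, a goal pair `(y 0, y (m+3))` with its geodesic, (NO), the module `M = W_p/p`, `p = y 0`.

* `St.redM` : `O₂(C(p)/K_p) = 1`; `St.moves`, `St.exists_mover` : every `f ∈ W_q`, `f ∉ C(W_p)`, has a mover;
* `St.one_one` (1.1): a mover without (D): `[x, f] ∈ {y 1, y 0 * y 1}` and `[μ, C_λ] ≤ ⟨λ⟩ + N`.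
-/

set_option autoImplicit false
set_option linter.unusedSectionVars false

namespace Cfsg.Agent.Omega.NOThree.LL

open Subgroup Cfsg Cfsg.Agent.ZN Cfsg.Agent.MinSimple.Geo Cfsg.Agent.Omega.CaseL Cfsg.Agent.Omega.NO3S.TwoOne
open Cfsg.Agent.Omega.NO3S.Pt
open Cfsg.Agent.Omega.NO3S.Dual (nn mem_nn DW)
open Cfsg.Agent.Omega.NO3S.TwoMid (rr comm_mem_rr rr_comm)
open Cfsg.Agent.Omega.NOThree.TF (Md conj_mem_ws_of_mem exists_T exists_flag2)
open Cfsg.Agent.Omega.NOThree.SecOne (Exact ee mem_ee)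
open Cfsg.Agent.ZN.Block (conj_mem_of_normalizer conj_mem_of_normalizer' le_normalizer_of_forall
  mem_normalizer_of)

universe u v

/-! ### more on `Inv` -/

namespace Inv

variable {H : Type u} [Group H] {M : Type v} [AddCommGroup M] [DistribMulAction H M] {f h : H}

/-- a subgroup of `M` invariant under `f` and `h f h⁻¹` is invariant under `h` -/
theorem pres (i : Inv M f h) (hf2 : ∀ m : M, f • f • m = m) {D : AddSubgroup M} (h1 : ∀ m ∈ D, f • m ∈ D)
    (h2 : ∀ m ∈ D, h • f • h⁻¹ • m ∈ D) : (∀ m ∈ D, h • m ∈ D) ∧ ∀ m ∈ D, h⁻¹ • m ∈ D := by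
  have h3 : ∀ m ∈ D, h • h • m ∈ D := by
    intro m hm
    have := h2 _ (h1 m hm)
    rw [i.conj_smul', hf2] at this
    exact this
  obtain ⟨k, ⟨j, rfl⟩, hk⟩ := i.odd
  have h4 : ∀ j : ℕ, ∀ m ∈ D, (h ^ (2 * j)) • m ∈ D := by
    intro j
    induction j with
    | zero => intro m hm; simpa using hm
    | succ j ih =>
      intro m hm
      have e : h ^ (2 * (j + 1)) = h * h * h ^ (2 * j) := by
        rw [Nat.mul_succ, add_comm, pow_add, pow_two]
      rw [e, mul_smul, mul_smul]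
      exact h3 _ (ih m hm)
  refine ⟨fun m hm => ?_, fun m hm => ?_⟩
  · have e : h • m = h • h • (h ^ (2 * j)) • m := by
      conv_lhs => rw [← hk m, pow_succ', mul_smul]
    rw [e]
    exact h3 _ (h4 j m hm)
  · have e : h⁻¹ • m = (h ^ (2 * j)) • m := by
      conv_lhs => rw [← hk m, pow_succ', mul_smul, inv_smul_smul]
    rw [e]
    exact h4 j m hm

/-- `h⁻²` is not a 2-element on `M` -/
theorem not_two (i : Inv M f h) {d : H} (hd : ∀ m : M, d • m = h⁻¹ • h⁻¹ • m) {j : ℕ}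
    (hj : ∀ m : M, (d ^ 2 ^ j) • m = m) : False := by
  set K := kerM H M with hK
  set π := QuotientGroup.mk' K with hπ
  have hπ1 : ∀ y : H, π y = 1 ↔ ∀ m : M, y • m = m := fun y => QuotientGroup.eq_one_iff (N := K) y
  have e1 : π d = (π h)⁻¹ * (π h)⁻¹ := by
    have h1 : π (d * h * h) = 1 := (hπ1 _).2 fun m => by
      rw [mul_smul, mul_smul, hd, inv_smul_smul, inv_smul_smul]
    rw [map_mul, map_mul] at h1
    calc π d = (π d * π h * π h) * ((π h)⁻¹ * (π h)⁻¹) := by group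
      _ = _ := by rw [h1, one_mul]
  have e2 : (π h) ^ (2 ^ (j + 1)) = 1 := by
    have h1 := (hπ1 _).2 hj
    rw [map_pow, e1, ← mul_inv_rev, ← pow_two, inv_pow, inv_eq_one, ← pow_mul] at h1
    rw [pow_succ', h1]
  obtain ⟨k, hko, hk⟩ := i.odd
  have e3 : (π h) ^ k = 1 := by
    rw [← map_pow]
    exact (hπ1 _).2 hk
  have e4 : orderOf (π h) ∣ 1 := by
    have h5 := Nat.dvd_gcd (orderOf_dvd_of_pow_eq_one e2) (orderOf_dvd_of_pow_eq_one e3)
    have h6 : Nat.gcd (2 ^ (j + 1)) k = 1 := Nat.Coprime.pow_left _ (Nat.coprime_two_left.2 hko)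
    rwa [h6] at h5
  have e5 : π h = 1 := orderOf_eq_one_iff.1 (Nat.dvd_one.1 e4)
  obtain ⟨m, hm⟩ := i.ne
  exact hm ((hπ1 h).1 e5 m)

end Inv

variable {G : Type u} [Group G] {M : Type v} [AddCommGroup M]

/-! ### the image of `N_p` -/

theorem nn_conj {V : Subgroup G} {p g a : G} (hg : g ∈ centralizer ({p} : Set G))
    (ha : a ∈ nn (ws V p) (kq V p)) : g * a * g⁻¹ ∈ nn (ws V p) (kq V p) := by
  have h1 : centralizer ({p} : Set G) ≤ normalizer ((nn (ws V p) (kq V p) : Subgroup G) : Set G) := by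
    refine le_trans (le_inf (centralizer_le_normalizer_ws V p)
      ((centralizer_le_normalizer_kq V p).trans (normalizer_le_normalizer_centralizer _))) ?_
    intro x hx
    refine mem_normalizer_iff.mpr fun y => ?_
    unfold nn
    rw [mem_inf, mem_inf, ← mem_normalizer_iff.mp hx.1 y, ← mem_normalizer_iff.mp hx.2 y]
  exact conj_mem_of_normalizer h1 hg ha

/-- the image of `N_p` in `M_p` -/
def NB (V : Subgroup G) (p : G) (π : G → M) : AddSubgroup M :=
  AddSubgroup.closure (π '' (nn (ws V p) (kq V p) : Set G))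

section md

variable {T V : Subgroup G} {z p x g : G} [DistribMulAction (centralizer ({p} : Set G)) M] {π : G → M}

theorem mem_NB (h : Fr T V z) (hp : Col V p p) (md : Md V p π) {m : M} :
    m ∈ NB V p π ↔ ∃ a ∈ nn (ws V p) (kq V p), π a = m := by
  constructor
  · intro hm
    induction hm using AddSubgroup.closure_induction with
    | mem x hx => exact hx
    | zero => exact ⟨1, one_mem _, md.map_one⟩
    | add x y _ _ hx hy =>
      obtain ⟨a, ha, rfl⟩ := hx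
      obtain ⟨b, hb, rfl⟩ := hy
      exact ⟨a * b, mul_mem ha hb, md.map_mul a ha.1 b hb.1⟩
    | neg x _ hx => rw [md.neg_eq h hp]; exact hx
  · rintro ⟨a, ha, rfl⟩
    exact AddSubgroup.subset_closure ⟨a, ha, rfl⟩

theorem smul_mem_NB (h : Fr T V z) (hp : Col V p p) (md : Md V p π) (c : centralizer ({p} : Set G)) {m : M}
    (hm : m ∈ NB V p π) : c • m ∈ NB V p π := by
  obtain ⟨a, ha, rfl⟩ := (mem_NB h hp md).1 hm
  rw [← md.smul c a ha.1]
  exact (mem_NB h hp md).2 ⟨_, nn_conj c.2 ha, rfl⟩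

/-- `{a ∈ W_p | π a ∈ D}` -/
def pre (md : Md V p π) (D : AddSubgroup M) : Subgroup G where
  carrier := {a | a ∈ ws V p ∧ π a ∈ D}
  one_mem' := ⟨one_mem _, by rw [md.map_one]; exact zero_mem _⟩
  mul_mem' := by
    rintro a b ⟨ha, h1⟩ ⟨hb, h2⟩
    exact ⟨mul_mem ha hb, by rw [md.map_mul a ha b hb]; exact add_mem h1 h2⟩
  inv_mem' := by
    rintro a ⟨ha, h1⟩
    refine ⟨inv_mem ha, ?_⟩
    have h2 := md.map_mul a ha a⁻¹ (inv_mem ha)
    rw [mul_inv_cancel, md.map_one] at h2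
    rw [eq_neg_of_add_eq_zero_right h2.symm]
    exact neg_mem h1

theorem mem_pre (md : Md V p π) {D : AddSubgroup M} {a : G} : a ∈ pre md D ↔ a ∈ ws V p ∧ π a ∈ D := Iff.rfl

/-- `U ∩ N = 0` -/
theorem inf_NB [Finite G] (h : Fr T V z) (md : Md V p π) (hp : p ∈ cj g V) (hp1 : p ≠ 1)
    {U : AddSubgroup M} (hU : ∀ m, m ∈ U ↔ ∃ a ∈ ii (cj g V), π a = m) {m : M}
    (hm : m ∈ U) (hn : m ∈ NB V p π) : m = 0 := by
  have hpc : Col V p p := Col.of_mem hp hp hp1 hp1
  obtain ⟨a, ha, rfl⟩ := (mem_NB h hpc md).1 hn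
  rw [TF.Md.π_mem_U h md hp hp1 hU ha.1] at hm
  rw [mem_nn] at ha
  have key : ∀ k ∈ kq V p, k * a * k⁻¹ ≠ p * a := by
    intro k hk e
    rw [NO3S.Dual.conj_eq_of_comm (ha.2 k hk)] at e
    exact hp1 (by simpa using e.symm)
  by_cases haV : a ∈ cj g V
  · obtain ⟨k, hk, -, hkm⟩ := h.mover_cj hp hp1
    rw [md.ker a ha.1]
    by_contra hcon
    push Not at hcon
    exact key k hk (hkm a haV hcon.1 hcon.2)
  · obtain ⟨k, hk, -, hka⟩ := h.fu_cj hm haV hp hp1
    exact absurd hka (key k hk)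

/-- `M` is spanned by the line vectors -/
theorem span_top [Finite G] (h : Fr T V z) (md : Md V p π) (hx : Col V p x) (hne : x ≠ p) (m : M) :
    m ∈ AddSubgroup.closure {v | ∃ c : centralizer ({p} : Set G), v = c • π x} := by
  set D := AddSubgroup.closure {v | ∃ c : centralizer ({p} : Set G), v = c • π x} with hD
  have h1 : ws V p ≤ pre md D := by
    refine ws_le fun L hL a ha => ?_
    obtain ⟨⟨g, rfl⟩, hpL⟩ := hL
    have haw : a ∈ ws V p := h.line_le_ws hpL ha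
    refine ⟨haw, ?_⟩
    by_cases h0 : a = 1 ∨ a = p
    · rw [(md.ker a haw).2 h0]
      exact zero_mem _
    · push Not at h0
      have hap : Col V p a := Col.of_mem hpL ha hx.ne_one h0.1
      obtain ⟨c, hc, hc'⟩ := exists_flag2 h hx hne hap h0.2
      have hcp : c ∈ centralizer ({p} : Set G) := by
        rw [mem_centralizer_singleton_iff]
        exact NO3S.Dual.comm_of_conj_eq hc
      refine AddSubgroup.subset_closure ⟨⟨c, hcp⟩, ?_⟩
      rw [← md.smul ⟨c, hcp⟩ x (h.mem_ws_of_col hx), ← hc']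
  obtain ⟨a, ha, rfl⟩ := md.surj m
  exact (h1 ha).2

/-- `O₂(C(p)/K_p) = 1` -/
theorem redM_md [Finite G] (h : Fr T V z) (md : Md V p π) (hx : Col V p x) (hne : x ≠ p) :
    RedM (centralizer ({p} : Set G)) M := by
  obtain ⟨T', hT', -, hT2, hT3, -, -⟩ := exists_T h hx hne
  refine redM_of (T := T'.subgroupOf (centralizer ({p} : Set G))) hT2 (lam := π x) (fun t ht => ?_)
    (span_top h md hx hne)
  have hxw := h.mem_ws_of_col hx
  rw [← md.smul t x hxw, md.eq_iff h hx.left (conj_mem_ws_of_mem t.2 hxw) hxw]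
  exact hT3 t (mem_subgroupOf.1 ht)

end md

/-- `W_q ≤ O₂(C(l))` for every line `l` on a point of distance `< n` -/
theorem ws_le_o2_line [Finite G] {T V : Subgroup G} {z : G} (h : Fr T V z) {n : ℕ} (hm : Mn V (n + 1))
    {q r g : G} (hp : Pth V n q r) (hr : r ∈ cj g V) :
    ws V q ≤ o2 (centralizer ((cj g V : Subgroup G) : Set G)) := by
  have h1 := h.ws_le_o2_of_pth hm n (by omega) q r hp
  have h2 : ws V q ≤ centralizer ((cj g V : Subgroup G) : Set G) := by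
    intro a ha
    rw [mem_centralizer_iff]
    intro b hb
    exact (hm n (by omega) q r hp a ha b (h.line_le_ws hr hb)).symm
  have h3 : centralizer ((cj g V : Subgroup G) : Set G) ≤ centralizer ({r} : Set G) := by
    intro c hc
    rw [mem_centralizer_singleton_iff]
    exact (mem_centralizer_iff.mp hc r hr).symm
  refine le_trans (le_inf h1 h2) (le_o2 inf_le_right ((isPGroup_o2 _).to_le inf_le_left) ?_)
  refine le_normalizer_of_forall fun c hc a ha => ?_
  exact ⟨conj_mem_of_normalizer (le_normalizer_o2 _) (h3 hc) ha.1, conj_mem_cent hc ha.2⟩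

/-! ### the setting -/

/-- the setting: a goal pair with its geodesic, (NO), the module `M = W_{y 0}/y 0` -/
structure St (T V : Subgroup G) (z : G) (m : ℕ) (y : ℕ → G) [DistribMulAction (centralizer ({y 0} : Set G)) M]
    (π : G → M) : Prop where
  fr : Fr T V z
  no : LemmaM.NoOver (NO3S.TwoFar.inc (V := V)) NO3S.TwoFar.RR NO3S.TwoFar.WS NO3S.TwoFar.VL
  gg : GG V (m + 3) y
  md : Md V (y 0) π

namespace St

variable {T V : Subgroup G} {z : G} {m : ℕ} {y : ℕ → G} [DistribMulAction (centralizer ({y 0} : Set G)) M]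
  {π : G → M} (s : St T V z m y π)
include s

theorem hp : Col V (y 0) (y 0) := s.gg.col0.left

theorem ne1 : y 1 ≠ y 0 := (s.gg.ne_succ (i := 0) (by omega)).symm

theorem wq_le [Finite G] : ws V (y (m + 3)) ≤ centralizer ({y 0} : Set G) := s.gg.cr.symm.cent s.fr

theorem com1 : Com V (y 1) (y (m + 3)) := s.gg.com (by omega) le_rfl (by omega) (by omega)

theorem p1_mem : y 1 ∈ ws V (y 0) := s.fr.mem_ws_of_col s.gg.col0

theorem p1_mem' : y 1 ∈ ws V (y 1) := s.fr.mem_ws_self s.gg.col0.right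

theorem p_mem : y 0 ∈ ws V (y 0) := s.fr.mem_ws_self s.hp

theorem fix_lam {f : centralizer ({y 0} : Set G)} (hf : (f : G) ∈ ws V (y (m + 3))) : f • π (y 1) = π (y 1) := by
  rw [← s.md.smul f _ s.p1_mem]
  congr 1
  exact NO3S.Dual.conj_eq_of_comm (s.com1 _ s.p1_mem' _ hf).symm

theorem two (m : M) : m + m = 0 := s.md.two s.fr s.hp m

theorem sub_eq (m m' : M) : m - m' = m + m' := s.md.sub_eq s.fr s.hp m m'

theorem f_sq {f : centralizer ({y 0} : Set G)} (hf : (f : G) ∈ ws V (y (m + 3))) (v : M) : f • f • v = v := by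
  have e : f * f = 1 := Subtype.ext (s.fr.ws_sq s.gg.cr.path.right _ hf)
  rw [← mul_smul, e, one_smul]

/-- `[W_q, W_p] ≤ ⟨p⟩` for one element -/
theorem moves_of_not_mem [Finite G] {f : centralizer ({y 0} : Set G)} (hf : (f : G) ∈ ws V (y (m + 3)))
    (hfc : (f : G) ∉ centralizer (ws V (y 0) : Set G)) : ∃ v : M, f • v ≠ v := by
  by_contra hcon
  push Not at hcon
  apply hfc
  have h1 := (s.gg.exact s.fr s.no).kq _ hf ((s.md.mem_kq_iff s.fr s.hp f).2 hcon)
  rw [mem_centralizer_iff]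
  exact fun a ha => ((mem_ee.1 h1).2 a ha).symm

/-- **`h` moves `λ`** -/
theorem moves [Finite G] {f h : centralizer ({y 0} : Set G)} (hf : (f : G) ∈ ws V (y (m + 3)))
    (i : Inv M f h) : h • π (y 1) ≠ π (y 1) := by
  intro e
  obtain ⟨k, hk, hkx⟩ := s.md.fix_lift s.fr s.gg.col0 s.ne1 e
  have hk1 : ∀ v : M, k • v = v := (s.md.mem_kq_iff s.fr s.hp k).1 hk
  obtain ⟨g, hp, hx, hp1, hx1⟩ := s.gg.col0
  set c : centralizer ({y 0} : Set G) := k * h with hc
  have hcv : ∀ v : M, c • v = h • v := fun v => by rw [hc, mul_smul, hk1]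
  have hcv' : ∀ v : M, c⁻¹ • v = h⁻¹ • v := fun v => by
    rw [inv_smul_eq_iff, hcv, smul_inv_smul]
  -- `c ∈ C(l)`
  have hcl : (c : G) ∈ centralizer ((cj g V : Subgroup G) : Set G) := by
    rw [mem_centralizer_iff]
    intro a ha
    have e0 : (c : G) * y 0 = y 0 * c := mem_centralizer_singleton_iff.1 c.2
    have e1 : (c : G) * y 1 = y 1 * c := NO3S.Dual.comm_of_conj_eq hkx
    rcases TF.Md.four_cj s.fr hp hp1 hx hx1 s.ne1 ha with e | e | e | e
    · rw [e]; simp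
    · rw [e, e0]
    · rw [e, e1]
    · rw [e]
      calc y 0 * y 1 * c = y 0 * (y 1 * c) := by group
        _ = (y 0 * c) * y 1 := by rw [← e1]; group
        _ = c * (y 0 * y 1) := by rw [← e0]; group
  -- `f ∈ O₂(C(l))`
  have h1 : (f : G) ∈ o2 (centralizer ((cj g V : Subgroup G) : Set G)) := by
    have hpth := (s.gg.pth (i := 1) (j := m + 3) (by omega) le_rfl (by omega)).symm
    exact ws_le_o2_line s.fr s.gg.cr.min (n := m + 2) hpth hx hf
  set d : centralizer ({y 0} : Set G) := f * (c * f⁻¹ * c⁻¹) with hd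
  have h2 : (d : G) ∈ o2 (centralizer ((cj g V : Subgroup G) : Set G)) :=
    mul_mem h1 (conj_mem_of_normalizer (le_normalizer_o2 _) hcl (inv_mem h1))
  obtain ⟨j, hj⟩ := isPGroup_o2 _ ⟨(d : G), h2⟩
  have hj' : d ^ 2 ^ j = 1 := by
    refine Subtype.ext ?_
    have := congrArg Subtype.val hj
    rw [SubgroupClass.coe_pow, OneMemClass.coe_one] at this ⊢
    exact this
  refine i.not_two (d := d) (j := j) (fun v => ?_) (fun v => by rw [hj', one_smul])
  rw [hd, mul_smul, mul_smul, mul_smul, hcv, hcv']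
  have h3 : f⁻¹ • h⁻¹ • v = h • f⁻¹ • v := by
    rw [inv_smul_eq_iff, i.conj_smul, smul_inv_smul]
  rw [h3, i.conj_smul, i.conj_smul, smul_inv_smul]

/-- **movers exist** -/
theorem exists_mover [Finite G] {f : centralizer ({y 0} : Set G)} (hf : (f : G) ∈ ws V (y (m + 3)))
    (hfc : (f : G) ∉ centralizer (ws V (y 0) : Set G)) :
    ∃ h : centralizer ({y 0} : Set G), Inv M f h ∧ Mv V (m + 3) y ((h : G) * y 1 * (h : G)⁻¹) f := by
  obtain ⟨h, i⟩ := exists_inv (redM_md s.fr s.md s.gg.col0 s.ne1) (s.f_sq hf) (s.moves_of_not_mem hf hfc)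
  have hp0 : (h : G) * y 0 * (h : G)⁻¹ = y 0 :=
    NO3S.Dual.conj_eq_of_comm (mem_centralizer_singleton_iff.1 h.2)
  set x := (h : G) * y 1 * (h : G)⁻¹ with hx
  have hcol : Col V (y 0) x := by
    have := s.gg.col0.conj (h : G)
    rwa [hp0] at this
  have hπ : π x = h • π (y 1) := s.md.smul h _ s.p1_mem
  have hxw : x ∈ ws V (y 0) := s.fr.mem_ws_of_col hcol
  have hmv : ¬ (f : G) * x * (f : G)⁻¹ = x ∧ ¬ (f : G) * x * (f : G)⁻¹ = y 0 * x := by
    rw [← not_or, ← s.md.eq_iff s.fr s.hp (conj_mem_ws_of_mem f.2 hxw) hxw, s.md.smul f x hxw, hπ]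
    intro e
    exact s.moves hf i (i.fix' (s.fix_lam hf) e)
  refine ⟨h, i, hf, hcol, ?_, hmv.1, hmv.2, ?_⟩
  · intro e
    apply s.ne1
    calc y 1 = (h : G)⁻¹ * ((h : G) * y 1 * (h : G)⁻¹) * h := by group
      _ = (h : G)⁻¹ * (h * y 0 * (h : G)⁻¹) * h := by rw [e, hp0]
      _ = y 0 := by group
  · intro u hux hup hfu
    -- `h` fixes `π u`
    have h1 : f • π u = π u := by
      rw [← s.md.smul f u hup, NO3S.Dual.conj_eq_of_comm hfu]
    have hu' : (h : G)⁻¹ * u * h ∈ ws V (y 1) := by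
      have := conj_mem_ws (h : G)⁻¹ hux
      have e : (h : G)⁻¹ * x * (h : G)⁻¹⁻¹ = y 1 := by rw [hx]; group
      rwa [e, inv_inv] at this
    have hu'' : (h : G)⁻¹ * u * h ∈ ws V (y 0) := by
      have := conj_mem_ws_of_mem (h⁻¹).2 hup
      simpa only [_root_.InvMemClass.coe_inv, _root_.inv_inv] using this
    have h2 : h⁻¹ • π u = π ((h : G)⁻¹ * u * h) := by
      rw [← s.md.smul h⁻¹ u hup]
      simp
    have h3 : h • f • h⁻¹ • π u = π u := by
      rw [h2, ← s.md.smul f _ hu'', NO3S.Dual.conj_eq_of_comm (s.com1 _ hu' _ hf).symm, ← s.md.smul h _ hu'']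
      congr 1
      group
    have h4 := i.fix h1 h3
    have h5 : π ((h : G)⁻¹ * u * h) = π u := by
      rw [← h2, inv_smul_eq_iff, h4]
    rcases (s.md.eq_iff s.fr s.hp hu'' hup).1 h5 with e | e
    · rwa [e] at hu'
    · have hp1' : y 0 ∈ ws V (y 1) := s.fr.mem_ws_of_col s.gg.col0.symm
      have e' : u = y 0 * ((h : G)⁻¹ * u * h) := by
        rw [e, ← mul_assoc, s.fr.pt_sq s.hp, one_mul]
      rw [e']
      exact mul_mem hp1' hu'

/-! ### (1.1) -/

omit s [DistribMulAction (centralizer ({y 0} : Set G)) M] in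
theorem mem_sup4 {N : AddSubgroup M} (two : ∀ v : M, v + v = 0) {a b v : M}
    (hv : v ∈ AddSubgroup.closure {a, b} ⊔ N) :
    ∃ w ∈ N, v = w ∨ v = a + w ∨ v = b + w ∨ v = a + b + w := by
  obtain ⟨c, hc, w, hw, rfl⟩ := AddSubgroup.mem_sup.1 hv
  refine ⟨w, hw, ?_⟩
  have key : ∀ (k : ℤ) (a : M), k • a = 0 ∨ k • a = a := by
    intro k a
    rcases Int.even_or_odd' k with ⟨j, rfl | rfl⟩
    · left
      rw [mul_comm, mul_smul, two_smul, two, smul_zero]
    · right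
      rw [add_smul, mul_comm, mul_smul, two_smul, two, smul_zero, one_smul, zero_add]
  obtain ⟨k, l, rfl⟩ := AddSubgroup.mem_closure_pair.1 hc
  rcases key k a with e | e <;> rcases key l b with e' | e' <;> rw [e, e']
  · left; rw [zero_add, zero_add]
  · right; right; left; rw [zero_add]
  · right; left; rw [add_zero]
  · right; right; right; rfl

omit s in
theorem cent_lift {x : G} {h g : centralizer ({y 0} : Set G)} (hx : x = (h : G) * y 1 * (h : G)⁻¹)
    (hg : (g : G) ∈ centralizer (ws V (y 1) : Set G)) :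
    ((h * g * h⁻¹ : centralizer ({y 0} : Set G)) : G) ∈ centralizer (ws V x : Set G) := by
  rw [mem_centralizer_iff] at hg ⊢
  intro a ha
  have h1 : (h : G)⁻¹ * a * h ∈ ws V (y 1) := by
    have := conj_mem_ws (h : G)⁻¹ ha
    have e : (h : G)⁻¹ * x * (h : G)⁻¹⁻¹ = y 1 := by rw [hx]; group
    rwa [e, inv_inv] at this
  have h2 := hg _ h1
  change a * ((h : G) * g * (h : G)⁻¹) = (h : G) * g * (h : G)⁻¹ * a
  calc a * ((h : G) * g * (h : G)⁻¹) = h * ((h : G)⁻¹ * a * h * g) * (h : G)⁻¹ := by group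
    _ = (h : G) * g * (h : G)⁻¹ * a := by rw [h2]; group

/-- **(1.1)** -/
theorem one_one [Finite G] {f h : centralizer ({y 0} : Set G)} {x : G} (hf : (f : G) ∈ ws V (y (m + 3)))
    (i : Inv M f h) (hx : x = (h : G) * y 1 * (h : G)⁻¹) (hmv : Mv V (m + 3) y x f) (hD : ¬ DD V (y 0) x f) :
    f • π x = π x + π (y 1) ∧ ∀ g : centralizer ({y 0} : Set G), (g : G) ∈ centralizer (ws V (y 1) : Set G) →
      g • π x - π x ∈ AddSubgroup.closure {π (y 1)} ⊔ NB V (y 0) π := by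
  have two := s.two
  obtain ⟨l, hp, hq, hp1, hq1⟩ := s.gg.col0
  obtain ⟨U, hU⟩ := TF.Md.exists_U s.fr s.md hp hp1
  have hlU : π (y 1) ∈ U := TF.Md.lam_mem_U s.fr s.md hp hp1 hq hU
  have hUN : ∀ v ∈ U, v ∈ NB V (y 0) π → v = 0 := fun v hv hn => inf_NB s.fr s.md hp hp1 hU hv hn
  have hNs : ∀ (c : centralizer ({y 0} : Set G)), ∀ v ∈ NB V (y 0) π, c • v ∈ NB V (y 0) π :=
    fun c v hv => smul_mem_NB s.fr s.hp s.md c hv
  have hl0 : π (y 1) ≠ 0 := s.md.pt_ne_zero s.fr s.gg.col0 s.ne1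
  have hlN : π (y 1) ∉ NB V (y 0) π := fun h1 => hl0 (hUN _ hlU h1)
  have hxw : x ∈ ws V (y 0) := s.fr.mem_ws_of_col hmv.col
  have hmu : π x = h • π (y 1) := by rw [hx]; exact s.md.smul h _ s.p1_mem
  set x' := (f : G) * x * (f : G)⁻¹ with hx'
  have hxw' : x' ∈ ws V (y 0) := conj_mem_ws_of_mem f.2 hxw
  have hnu : π x' = f • π x := s.md.smul f x hxw
  have hff : f • π x' = π x := by rw [hnu, s.f_sq hf]
  set mu := π x with hmudef
  set nu := π x' with hnudef
  set lam := π (y 1) with hlam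
  have hne : nu ≠ mu := by
    intro e
    rcases (s.md.eq_iff s.fr s.hp hxw' hxw).1 e with e | e
    · exact hmv.mv e
    · exact hmv.mv' e
  have hfl : f • lam = lam := s.fix_lam hf
  -- `c = mu + nu ∈ U`
  have hcU : mu + nu ∈ U := by
    have h1 : x' * x⁻¹ ∈ ws V (y 1) := by
      have h2 := s.gg.le x hxw f hf
      have e : x' * x⁻¹ = (x * f * x⁻¹ * (f : G)⁻¹)⁻¹ := by rw [hx']; group
      rw [e]
      exact inv_mem h2
    have hxi : x⁻¹ = x := inv_eq_of_mul_eq_one_right (s.fr.pt_sq hmv.col.right)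
    rw [hxi] at h1
    have h2 : x' * x ∈ ws V (y 0) := mul_mem hxw' hxw
    rw [hU]
    refine ⟨x' * x, s.fr.mem_ii_cj hp hp1 hq hq1 s.ne1 h2 h1, ?_⟩
    rw [s.md.map_mul _ hxw' _ hxw, add_comm]
  have hcN : mu + nu ∉ NB V (y 0) π := by
    intro h1
    have h2 := hUN _ hcU h1
    apply hne
    rw [← s.sub_eq, sub_eq_zero] at h2
    exact h2.symm
  have hnuN : nu ∉ NB V (y 0) π := by
    intro h1
    apply hlN
    have h2 := hNs h⁻¹ _ (hNs f _ h1)
    rwa [hff, hmu, inv_smul_smul] at h2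
  -- (S)
  have hcolx' : Col V (y 0) x' := by
    have := hmv.col.conj (f : G)
    rwa [NO3S.Dual.conj_eq_of_comm (mem_centralizer_singleton_iff.1 f.2)] at this
  have hx'p : x' ≠ y 0 := by
    intro e
    apply hmv.ne
    have e0 : (f : G)⁻¹ * y 0 * f = y 0 := by
      have := mem_centralizer_singleton_iff.1 f.2
      rw [mul_assoc, ← this, inv_mul_cancel_left]
    calc x = (f : G)⁻¹ * x' * f := by rw [hx']; group
      _ = y 0 := by rw [e, e0]
  have hS := (s.fr.lemD hmv.col hcolx' hmv.ne hx'p).resolve_left hD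
  set P := AddSubgroup.closure {mu, nu} ⊔ NB V (y 0) π with hP
  have hmuP : mu ∈ P := (le_sup_left : _ ≤ P) (AddSubgroup.subset_closure (Or.inl rfl))
  have hnuP : nu ∈ P := (le_sup_left : _ ≤ P) (AddSubgroup.subset_closure (Or.inr rfl))
  have hNP : NB V (y 0) π ≤ P := le_sup_right
  have hpre : _root_.Subgroup.closure {x, x'} ⊔ nn (ws V (y 0)) (kq V (y 0)) ≤ pre s.md P := by
    refine sup_le ?_ fun a ha => ⟨ha.1, hNP ((mem_NB s.fr s.hp s.md).2 ⟨a, ha, rfl⟩)⟩
    rw [closure_le]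
    rintro a (rfl | rfl)
    · exact ⟨hxw, hmuP⟩
    · exact ⟨hxw', hnuP⟩
  have hgen : ∀ g : centralizer ({y 0} : Set G), (g • mu ∈ P) → (g • nu ∈ P) → ∀ v ∈ P, g • v ∈ P := by
    intro g h1 h2
    have h3 : P ≤ P.comap (DistribSMul.toAddMonoidHom M g) := by
      rw [hP, sup_le_iff, AddSubgroup.closure_le]
      refine ⟨?_, fun v hv => hNP (hNs g v hv)⟩
      rintro v (rfl | rfl)
      · exact h1
      · exact h2
    exact fun v hv => h3 hv
  have hcx : ∀ g : centralizer ({y 0} : Set G), (g : G) ∈ centralizer (ws V x : Set G) →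
      g • mu = mu ∧ g • nu ∈ P := by
    intro g hg
    have h1 := hS g ((le_sup_left : centralizer (ws V x : Set G) ≤ _) hg)
    constructor
    · rw [hmudef, ← s.md.smul g x hxw]
      congr 1
      exact NO3S.Dual.conj_eq_of_comm (mem_centralizer_iff.1 hg x (s.fr.mem_ws_self hmv.col.right)).symm
    · have h2 := (hpre h1.2).2
      rw [s.md.smul g x' hxw'] at h2
      exact h2
  have h1 : ∀ v ∈ P, f • v ∈ P := hgen f (by rw [← hnu]; exact hnuP) (by rw [hff]; exact hmuP)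
  have h2 : ∀ v ∈ P, h • f • h⁻¹ • v ∈ P := by
    intro v hv
    have hfc : (f : G) ∈ centralizer (ws V (y 1) : Set G) := by
      rw [mem_centralizer_iff]
      exact fun a ha => s.com1 a ha _ hf
    obtain ⟨h3, h4⟩ := hcx _ (cent_lift hx hfc)
    have h5 := hgen (h * f * h⁻¹) (by rw [h3]; exact hmuP) h4 v hv
    rwa [mul_smul, mul_smul] at h5
  obtain ⟨h3, h4⟩ := i.pres (s.f_sq hf) h1 h2
  have hlP : lam ∈ P := by
    have := h4 _ hmuP
    rwa [hmu, inv_smul_smul] at this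
  have hlam' : nu = mu + lam := by
    obtain ⟨w, hw, e | e | e | e⟩ := mem_sup4 two hlP
    · exact absurd (e ▸ hw) hlN
    · exfalso
      apply hcN
      have e1 : f • lam = f • mu + f • w := by rw [e, smul_add]
      rw [hfl, ← hnu] at e1
      have e2 : mu + nu = w + f • w := by
        have e3 : mu = lam + w := by rw [e, add_assoc, two, add_zero]
        have e4 : nu = lam + f • w := by rw [e1, add_assoc, two, add_zero]
        rw [e3, e4]
        calc lam + w + (lam + f • w) = (lam + lam) + (w + f • w) := by abel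
          _ = w + f • w := by rw [two, zero_add]
      rw [e2]
      exact add_mem hw (hNs f w hw)
    · exfalso
      apply hcN
      have e1 : f • lam = f • nu + f • w := by rw [e, smul_add]
      rw [hfl, hff] at e1
      have e2 : mu + nu = f • w + w := by
        have e3 : nu = lam + w := by rw [e, add_assoc, two, add_zero]
        have e4 : mu = lam + f • w := by rw [e1, add_assoc, two, add_zero]
        rw [e3, e4]
        calc lam + f • w + (lam + w) = (lam + lam) + (f • w + w) := by abel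
          _ = f • w + w := by rw [two, zero_add]
      rw [e2]
      exact add_mem (hNs f w hw) hw
    · have e1 : w = lam + (mu + nu) := by
        rw [e]
        calc w = (mu + mu) + (nu + nu) + w := by rw [two, two, zero_add, zero_add]
          _ = mu + nu + w + (mu + nu) := by abel
      have e2 : w = 0 := hUN w (by rw [e1]; exact add_mem hlU hcU) hw
      rw [e2, add_zero] at e
      rw [e]
      calc nu = (mu + mu) + nu := by rw [two, zero_add]
        _ = mu + (mu + nu) := by abel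
  refine ⟨by rw [← hnu]; exact hlam', ?_⟩
  -- `[nu, C(W_x)] ≤ ⟨mu⟩ + N`
  have h5 : ∀ g : centralizer ({y 0} : Set G), (g : G) ∈ centralizer (ws V x : Set G) →
      ∃ w ∈ NB V (y 0) π, g • nu - nu = w ∨ g • nu - nu = mu + w := by
    intro g hg
    obtain ⟨h6, h7⟩ := hcx g hg
    obtain ⟨w, hw, e | e | e | e⟩ := mem_sup4 two h7
    · exfalso
      apply hnuN
      have := hNs g⁻¹ w hw
      rwa [← e, inv_smul_smul] at this
    · exfalso
      apply hcN
      have e1 : g • (mu + nu) = w := by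
        rw [smul_add, h6, e, ← add_assoc, two, zero_add]
      have := hNs g⁻¹ w hw
      rwa [← e1, inv_smul_smul] at this
    · exact ⟨w, hw, Or.inl (by rw [e, add_sub_cancel_left])⟩
    · refine ⟨w, hw, Or.inr ?_⟩
      rw [e]
      abel
  intro g hg
  set Q := AddSubgroup.closure {lam} ⊔ NB V (y 0) π with hQ
  have hlQ : lam ∈ Q := (le_sup_left : _ ≤ Q) (AddSubgroup.subset_closure rfl)
  have hNQ : NB V (y 0) π ≤ Q := le_sup_right
  have hgl : g • lam = lam := by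
    rw [hlam, ← s.md.smul g _ s.p1_mem]
    congr 1
    exact NO3S.Dual.conj_eq_of_comm (mem_centralizer_iff.1 hg _ s.p1_mem').symm
  -- for `κ = h⁻¹ • nu`
  have h8 : g • h⁻¹ • nu - h⁻¹ • nu ∈ Q := by
    obtain ⟨w, hw, e⟩ := h5 _ (cent_lift hx hg)
    have e1 : g • h⁻¹ • nu - h⁻¹ • nu = h⁻¹ • ((h * g * h⁻¹) • nu - nu) := by
      rw [smul_sub, mul_smul, mul_smul, inv_smul_smul]
    rw [e1]
    rcases e with e | e
    · rw [e]
      exact hNQ (hNs _ w hw)
    · rw [e, smul_add, hmu, inv_smul_smul]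
      exact add_mem hlQ (hNQ (hNs _ w hw))
  have hgN : ∀ w ∈ NB V (y 0) π, g • w - w ∈ Q := fun w hw => sub_mem (hNQ (hNs g w hw)) (hNQ hw)
  obtain ⟨w, hw, e | e | e | e⟩ := mem_sup4 two (h4 _ hnuP)
  · exfalso
    apply hnuN
    have := hNs h w hw
    rwa [← e, smul_inv_smul] at this
  · rw [e] at h8
    have e1 : g • mu - mu = (g • (mu + w) - (mu + w)) - (g • w - w) := by rw [smul_add]; abel
    rw [e1]
    exact sub_mem h8 (hgN w hw)
  · rw [e, hlam'] at h8
    have e1 : g • mu - mu = (g • (mu + lam + w) - (mu + lam + w)) - (g • w - w) := by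
      rw [smul_add, smul_add, hgl]; abel
    rw [e1]
    exact sub_mem h8 (hgN w hw)
  · exfalso
    apply hcN
    have e1 : h⁻¹ • nu = lam + w := by
      rw [e, hlam']
      calc mu + (mu + lam) + w = (mu + mu) + (lam + w) := by abel
        _ = lam + w := by rw [two, zero_add]
    have e2 : nu = mu + h • w := by
      rw [hmu, ← smul_add, ← e1, smul_inv_smul]
    have e3 : mu + nu = h • w := by rw [e2, ← add_assoc, two, zero_add]
    rw [e3]
    exact hNs h w hw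

end St

end Cfsg.Agent.Omega.NOThree.LL

end

section


/-!
# (NO) for subgroups of `H_p` (THEOREM LL, #18157)

* `NoH H M U` : `|B : C_B(M)| |C_M(B)| ≤ |M|` for every subgroup `B` of `H` which centralises `U` and `M/U` (modulo the
  kernel `B` is elementary abelian);
* `noH_of` : it holds for `H = C(p)`, `M = M_p`, `U = I_l/p`, by (ML) (`ML.Final.MLK`).
-/

set_option autoImplicit false
set_option linter.unusedSectionVars false

namespace Cfsg.Agent.Omega.NOThree.LL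

open Subgroup Cfsg Cfsg.Agent.ZN Cfsg.Agent.MinSimple.Geo Cfsg.Agent.Omega.CaseL Cfsg.Agent.Omega.NO3S.TwoOne
open Cfsg.Agent.Omega.NO3S.Pt Cfsg.Agent.Omega.NOThree.TF
open Cfsg.Agent.Omega.ML.MinFrame (orb fxr orb_le smul_mem_orb_self)

universe u v

/-- **(NO) for subgroups of `H`** -/
def NoH (H : Type u) [Group H] (M : Type v) [AddCommGroup M] [DistribMulAction H M] (U : AddSubgroup M) : Prop :=
  ∀ B : Subgroup H, (∀ b ∈ B, (∀ u ∈ U, b • u = u) ∧ ∀ m : M, b • m - m ∈ U) →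
    (kerM H M).relIndex B * Nat.card (One.cv M B) ≤ Nat.card M

section

variable {H : Type u} [Group H] {M : Type v} [AddCommGroup M] [DistribMulAction H M]

/-- the action on `Multiplicative M` -/
abbrev mulAct : MulDistribMulAction H (Multiplicative M) where
  smul h m := Multiplicative.ofAdd (h • Multiplicative.toAdd m)
  one_smul m := by
    change Multiplicative.ofAdd ((1 : H) • Multiplicative.toAdd m) = m
    rw [one_smul]
    rfl
  mul_smul a b m := by
    change Multiplicative.ofAdd ((a * b) • Multiplicative.toAdd m) =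
      Multiplicative.ofAdd (a • b • Multiplicative.toAdd m)
    rw [mul_smul]
  smul_mul h a b := by
    change Multiplicative.ofAdd (h • (Multiplicative.toAdd a + Multiplicative.toAdd b)) =
      Multiplicative.ofAdd (h • Multiplicative.toAdd a + h • Multiplicative.toAdd b)
    rw [smul_add]
  smul_one h := by
    change Multiplicative.ofAdd (h • (0 : M)) = 1
    rw [smul_zero]
    rfl

/-- **(ML) ⟹ (NO)** for a module `M = ⟨λ^H⟩`, `λ` fixed by a Sylow 2-subgroup, `U` normalised by `Stab(λ)`. -/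
theorem noH_of_module [Finite H] [Finite M] (hML : ML.Final.MLK.{u, v}) (hK : IsKGroup H)
    (two : ∀ m : M, m + m = 0) {T : Subgroup H} (hT : IsPGroup 2 T) (hT2 : ¬ 2 ∣ T.index) {lam : M}
    (hlam : ∀ t ∈ T, t • lam = lam) (hspan : ∀ m : M, m ∈ AddSubgroup.closure {v | ∃ g : H, v = g • lam})
    {U : AddSubgroup M} (lamU : lam ∈ U) (hst : ∀ g : H, g • lam = lam → ∀ u ∈ U, g • u ∈ U) : NoH H M U := by
  intro B hB
  let _ : MulDistribMulAction H (Multiplicative M) := mulAct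
  have he : ∀ (g : H) (m : Multiplicative M), g • m = Multiplicative.ofAdd (g • Multiplicative.toAdd m) :=
    fun _ _ => rfl
  have he' : ∀ (g : H) (m : M), g • (Multiplicative.ofAdd m) = Multiplicative.ofAdd (g • m) := fun _ _ => rfl
  let Q : Subgroup H := (One.bb U : Subgroup H)
  have hQ2 : ∀ q ∈ Q, ∀ m : M, q • q • m = m := by
    intro q hq m
    have h1 := One.sub_mul (U := U) hq hq m
    rw [two, sub_eq_zero, mul_smul] at h1
    exact h1
  have hD : ML.Final.Dat (C := H) (V := Multiplicative M) T Q B (Multiplicative.ofAdd lam) := by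
    refine ⟨fun v => two _, hT, hT2, fun t ht => ?_, fun q hq => ⟨1, fun v => ?_⟩, fun q hq => ?_, fun g hg q hq => ?_,
      fun a ha => ⟨a, hB a ha, fun _ => rfl⟩, fun a ha v => ?_⟩
    · rw [he', hlam t ht]
    · rw [pow_one, pow_two, mul_smul]
      exact congrArg Multiplicative.ofAdd (hQ2 q hq _)
    · rw [he', One.bb_fix hq lamU]
    · rw [he'] at hg
      have hg' : g • lam = lam := hg
      have hg'' : g⁻¹ • lam = lam := by rw [inv_smul_eq_iff, hg']
      refine ⟨g * q * g⁻¹, ⟨fun u hu => ?_, fun m => ?_⟩, fun _ => rfl⟩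
      · rw [mul_smul, mul_smul, One.bb_fix hq (hst g⁻¹ hg'' u hu), smul_inv_smul]
      · have h1 := hst g hg' _ (One.bb_sub hq (g⁻¹ • m))
        rwa [smul_sub, smul_inv_smul, ← mul_smul, ← mul_smul] at h1
    · exact congrArg Multiplicative.ofAdd (hQ2 a (hB a ha) _)
  have key := hML.act hK hD
  have horb : orb (⊤ : Subgroup H) (Multiplicative.ofAdd lam) = ⊤ := by
    rw [eq_top_iff]
    intro m _
    have h1 := hspan (Multiplicative.toAdd m)
    have h2 : AddSubgroup.closure {v | ∃ g : H, v = g • lam} ≤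
        AddSubgroup.toSubgroup.symm (orb (⊤ : Subgroup H) (Multiplicative.ofAdd lam)) := by
      rw [AddSubgroup.closure_le]
      rintro _ ⟨g, rfl⟩
      exact smul_mem_orb_self (z := Multiplicative.ofAdd lam) (mem_top g)
    exact h2 h1
  rw [horb, relIndex_top_right] at key
  have h1 : (fxr H (⊤ : Subgroup (Multiplicative M))) = kerM H M := by
    ext g
    constructor
    · exact fun hg m => hg (Multiplicative.ofAdd m) (mem_top _)
    · exact fun hg m _ => hg (Multiplicative.toAdd m)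
  rw [h1] at key
  have h2 : Nat.card (One.cv M B) = Nat.card (Cfsg.Agent.ClassTwoFusion.Quad.cv (Multiplicative M) (B : Set H)) :=
    Nat.card_congr (Equiv.refl _)
  rw [h2]
  calc _ ≤ _ := Nat.mul_le_mul_right _ key
    _ = Nat.card (Multiplicative M) := by rw [mul_comm, Subgroup.card_mul_index]
    _ = Nat.card M := rfl

end

section

variable {G : Type u} [Group G] {M : Type v} [AddCommGroup M]
variable {T V : Subgroup G} {z p x g : G} [DistribMulAction (centralizer ({p} : Set G)) M] {π : G → M}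

/-- **(NO) for subgroups of `H_p`** -/
theorem noH_of [Finite G] (hML : ML.Final.MLK.{u, v}) (h : Fr T V z) (hK : IsKGroup (centralizer ({p} : Set G)))
    (md : Md V p π) (hp : p ∈ cj g V) (hp1 : p ≠ 1) (hx : x ∈ cj g V) (hx1 : x ≠ 1) (hne : x ≠ p)
    {U : AddSubgroup M} (hU : ∀ m, m ∈ U ↔ ∃ a ∈ ii (cj g V), π a = m) : NoH (centralizer ({p} : Set G)) M U := by
  have hc : Col V p x := Col.of_mem hp hx hp1 hx1
  have hfin : Finite M := by
    refine Finite.of_surjective (fun a : ws V p => π a) fun m => ?_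
    obtain ⟨a, ha, e⟩ := md.surj m
    exact ⟨⟨a, ha⟩, e⟩
  obtain ⟨T', hT', hTp, hT2, hT3, -, -⟩ := exists_T h hc hne
  have hxw := h.mem_ws_of_col hc
  refine noH_of_module hML hK (md.two h hc.left) (T := T'.subgroupOf (centralizer ({p} : Set G)))
    (hTp.of_equiv (subgroupOfEquivOfLe hT').symm) hT2 (lam := π x) (fun t ht => ?_) (span_top h md hc hne)
    (Md.lam_mem_U h md hp hp1 hx hU) fun c hcc u hu => Md.stab_U h md hp hp1 hx hx1 hne hU hcc hu
  rw [← md.smul t x hxw, md.eq_iff h hc.left (conj_mem_ws_of_mem t.2 hxw) hxw]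
  exact hT3 t (mem_subgroupOf.1 ht)

end

end Cfsg.Agent.Omega.NOThree.LL

end

section


/-!
# THEOREM LL (helper975 #18157), section 5: the count

* `Two V p q r` : every commutator `[a, b]`, `a ∈ W_p`, `b ∈ W_q`, is `1` or `r`;
* `relIndex_le_card` : `|W : C_W(f)| ≤ |S|` if all `[w, f]`, `w ∈ W`, lie in `S`;
* `Up` : `U_p = ⟨W_y : y ∼ p⟩` (abelian, normalised by `C(p)`);
* `Goal.gg` : a goal pair of `SecOne.lemM` is GOAL for `ch x y`;
* `Cnt` : the setting at `q`: `B ≤ M_q`, `M_q = B + C(A')`, the stabiliser of `r` normalises `B`;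
* `Cnt.false` : the contradiction, if `|B| ≤ |W_z : I_V|`, `q`-movers with (D) exist and `|[W_x, W_{q'}]| ≤ 2` for the
  children.
-/

set_option autoImplicit false
set_option linter.unusedSectionVars false

namespace Cfsg.Agent.Omega.NOThree.LL

open Subgroup Cfsg Cfsg.Agent.ZN Cfsg.Agent.MinSimple.Geo Cfsg.Agent.Omega.CaseL Cfsg.Agent.Omega.NO3S.TwoOne
open Cfsg.Agent.Omega.NO3S.Pt
open Cfsg.Agent.Omega.NOThree.SecOne (Exact ee mem_ee Goal)
open Cfsg.Agent.Omega.NOThree.TF (Md conj_mem_ws_of_mem)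
open Cfsg.Agent.Omega.NOThree.LemmaM (NoOver)

universe u v

variable {G : Type u} [Group G]

/-- `|W : C_W(f)| ≤ |S|` if `[W, f] ⊆ S` -/
theorem relIndex_le_card [Finite G] {W : Subgroup G} {f : G} {S : Set G}
    (h : ∀ w ∈ W, w * f * w⁻¹ * f⁻¹ ∈ S) : (W ⊓ centralizer ({f} : Set G)).relIndex W ≤ Nat.card S := by
  set K := (W ⊓ centralizer ({f} : Set G)).subgroupOf W with hK
  change Nat.card (W ⧸ K) ≤ _
  have hS : Finite S := Subtype.finite
  refine Nat.card_le_card_of_injective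
    (fun x : W ⧸ K => (⟨(x.out : G) * f * (x.out : G)⁻¹ * f⁻¹, h _ x.out.2⟩ : S)) ?_
  intro a b hab
  have h1 : (a.out : G) * f * (a.out : G)⁻¹ * f⁻¹ = (b.out : G) * f * (b.out : G)⁻¹ * f⁻¹ :=
    congrArg Subtype.val hab
  have h2 : (a.out : G) * f * (a.out : G)⁻¹ = (b.out : G) * f * (b.out : G)⁻¹ := mul_right_cancel h1
  have h3 : (a.out)⁻¹ * b.out ∈ K := by
    have h4 : (a.out : G)⁻¹ * b.out ∈ W := W.mul_mem (W.inv_mem a.out.2) b.out.2
    refine mem_subgroupOf.2 ⟨h4, ?_⟩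
    refine mem_centralizer_singleton_iff.2 ?_
    change (a.out : G)⁻¹ * b.out * f = f * ((a.out : G)⁻¹ * b.out)
    calc (a.out : G)⁻¹ * b.out * f = (a.out : G)⁻¹ * (b.out * f * (b.out : G)⁻¹) * b.out := by group
      _ = (a.out : G)⁻¹ * (a.out * f * (a.out : G)⁻¹) * b.out := by rw [h2]
      _ = f * ((a.out : G)⁻¹ * b.out) := by group
  have h4 := QuotientGroup.eq.2 h3
  exact ((QuotientGroup.out_eq' a).symm.trans h4).trans (QuotientGroup.out_eq' b)

/-- `U_p` -/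
def Up (V : Subgroup G) (p : G) : Subgroup G := _root_.Subgroup.closure {a | ∃ y, Col V p y ∧ a ∈ ws V y}

section up

variable {V : Subgroup G} {p : G} {m : ℕ}

theorem ws_le_Up {y : G} (hy : Col V p y) : ws V y ≤ Up V p := fun _ ha => subset_closure ⟨y, hy, ha⟩

theorem Up_comm (hm : Mn V (m + 3)) : ∀ a ∈ Up V p, ∀ b ∈ Up V p, a * b = b * a := by
  have h1 : Up V p ≤ centralizer ({a | ∃ y, Col V p y ∧ a ∈ ws V y} : Set G) := by
    unfold Up
    rw [closure_le]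
    rintro a ⟨y, hy, ha⟩
    rw [SetLike.mem_coe, mem_centralizer_iff]
    rintro b ⟨y', hy', hb⟩
    exact (hm 2 (by omega) y y' ((Pth.of_col hy').head hy.symm) a ha b hb).symm
  have h2 : Up V p ≤ centralizer (Up V p : Set G) := by
    conv_lhs => unfold Up
    rw [closure_le]
    intro a ha
    rw [SetLike.mem_coe, mem_centralizer_iff]
    intro b hb
    exact (mem_centralizer_iff.1 (h1 hb) a ha).symm
  intro a ha b hb
  exact (mem_centralizer_iff.1 (h2 ha) b hb).symm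

theorem conj_mem_Up {g a : G} (hg : g ∈ centralizer ({p} : Set G)) (ha : a ∈ Up V p) : g * a * g⁻¹ ∈ Up V p := by
  have h1 : Up V p ≤ cj g⁻¹ (Up V p) := by
    conv_lhs => unfold Up
    rw [closure_le]
    rintro a ⟨y, hy, ha⟩
    rw [SetLike.mem_coe, mem_cj, inv_inv]
    refine subset_closure ⟨g * y * g⁻¹, ?_, conj_mem_ws g ha⟩
    have h2 := hy.conj g
    rwa [NO3S.Dual.conj_eq_of_comm (mem_centralizer_singleton_iff.1 hg)] at h2
  have h2 := h1 ha
  rwa [mem_cj, inv_inv] at h2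

end up

/-- `[W_p, W_q] ⊆ {1, r}` -/
def Two (V : Subgroup G) (p q r : G) : Prop :=
  ∀ a ∈ ws V p, ∀ b ∈ ws V q, a * b * a⁻¹ * b⁻¹ = 1 ∨ a * b * a⁻¹ * b⁻¹ = r

section

variable {T V : Subgroup G} {z : G} {m : ℕ} {y : ℕ → G} {x f : G}

/-- the goal pair of `SecOne.lemM` -/
theorem gg_of_goal (gg : GG V (m + 3) y) (h : Goal V (m + 3) x (y 0) (y (m + 2))) : GG V (m + 3) (ch x y) where
  cr := h.crit
  path := by
    intro i hi
    cases i with
    | zero => exact h.col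
    | succ i => exact gg.path i (by omega)
  not_mem := h.not_mem
  not_mem' := h.not_mem'
  le := fun a ha b hb => (h.le a ha b hb).2

/-- `|W : C_W(q)| ≤ 2` if `[W_x, W_{q'}] ⊆ {1, r}`, `q ∈ W_{q'}` -/
theorem relIndex_le_two [Finite G] {q q' r : G} (h : Two V x q' r) (hq : q ∈ ws V q') :
    (ws V x ⊓ centralizer ({q} : Set G)).relIndex (ws V x) ≤ 2 := by
  classical
  have h1 := relIndex_le_card (W := ws V x) (f := q) (S := (({1, r} : Finset G) : Set G)) (fun w hw => by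
    rcases h w hw q hq with e | e
    · rw [e]; simp
    · rw [e]; simp)
  refine h1.trans ?_
  rw [Nat.card_coe_set_eq, Set.ncard_coe_finset]
  exact Finset.card_le_two

end

/-! ### the setting -/

section main

variable {T V : Subgroup G} {z : G} {m : ℕ} {y : ℕ → G} {r : G} {M : Type v} [AddCommGroup M]
  [DistribMulAction (centralizer ({y (m + 3)} : Set G)) M] {π : G → M} {B : AddSubgroup M}

/-- `C_M(A')`, `A' = W_p` -/
def FF (V : Subgroup G) (p q : G) (M : Type v) [AddCommGroup M] [DistribMulAction (centralizer ({q} : Set G)) M] :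
    AddSubgroup M where
  carrier := {v | ∀ a : centralizer ({q} : Set G), (a : G) ∈ ws V p → a • v = v}
  add_mem' := by
    intro x y hx hy a ha
    rw [smul_add, hx a ha, hy a ha]
  zero_mem' := fun a _ => smul_zero a
  neg_mem' := by
    intro x hx a ha
    rw [smul_neg, hx a ha]

theorem mem_FF {V : Subgroup G} {p q : G} {M : Type v} [AddCommGroup M]
    [DistribMulAction (centralizer ({q} : Set G)) M] {v : M} :
    v ∈ FF V p q M ↔ ∀ a : centralizer ({q} : Set G), (a : G) ∈ ws V p → a • v = v := Iff.rfl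

/-- the setting at `q = y (m+3)`, `p = y 0` : `[W_p, W_q] = {1, r}`, `B ≤ M_q` -/
structure Cnt (T V : Subgroup G) (z : G) (m : ℕ) (y : ℕ → G) (r : G) (M : Type v) [AddCommGroup M]
    [DistribMulAction (centralizer ({y (m + 3)} : Set G)) M] (π : G → M) (B : AddSubgroup M) : Prop where
  fr : Fr T V z
  no : NoOver (NO3S.TwoFar.inc (V := V)) NO3S.TwoFar.RR NO3S.TwoFar.WS NO3S.TwoFar.VL
  gg : GG V (m + 3) y
  md : Md V (y (m + 3)) π
  two : Two V (y 0) (y (m + 3)) r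
  /-- `M_q = B + C(A')` -/
  sup : B ⊔ FF V (y 0) (y (m + 3)) M = ⊤
  /-- the stabiliser of `r` normalises `B` -/
  stab : ∀ c : centralizer ({y (m + 3)} : Set G), c • π r = π r → ∀ b ∈ B, c • b ∈ B

namespace Cnt

theorem hp (s : Cnt T V z m y r M π B) : Col V (y 0) (y 0) := (s.gg.path 0 (by omega)).left

theorem hrq (s : Cnt T V z m y r M π B) : Col V (y (m + 2)) (y (m + 3)) :=
  s.gg.path (m + 2) (show m + 2 < m + 3 by omega)

theorem hq (s : Cnt T V z m y r M π B) : Col V (y (m + 3)) (y (m + 3)) := s.hrq.right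

theorem hpr (s : Cnt T V z m y r M π B) : Pth V (m + 2) (y 0) (y (m + 2)) := by
  have h1 : m + 2 ≤ m + 3 := by omega
  have h2 : 0 < m + 3 := by omega
  exact s.gg.pth (i := 0) (j := m + 2) (Nat.zero_le _) h1 h2

variable [Finite G] (s : Cnt T V z m y r M π B)
include s

theorem ex : Exact V (y 0) (y (m + 3)) := s.gg.exact s.fr s.no

theorem wp_le : ws V (y 0) ≤ centralizer ({y (m + 3)} : Set G) := s.gg.cr.cent s.fr

theorem wq_le : ws V (y (m + 3)) ≤ centralizer ({y 0} : Set G) := s.gg.cr.symm.cent s.fr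

theorem mem_FF_iff {f : G} (hf : f ∈ ws V (y (m + 3))) :
    π f ∈ FF V (y 0) (y (m + 3)) M ↔ f ∈ ee V (y (m + 3)) (y 0) := by
  rw [mem_FF, mem_ee]
  constructor
  · intro h
    refine ⟨hf, fun b hb => (mem_ee.1 (s.ex.cent' f hf fun w hw => ?_)).2 b hb⟩
    have h1 := h ⟨w, s.wp_le hw⟩ hw
    rw [← s.md.smul ⟨w, s.wp_le hw⟩ f hf, s.md.eq_iff s.fr s.hq (conj_mem_ws_of_mem (s.wp_le hw) hf) hf] at h1
    rw [mem_zpowers_iff_of_mul_self (s.fr.pt_sq s.hq)]
    rcases h1 with e | e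
    · left
      change w * f * w⁻¹ = f at e
      rw [e, mul_inv_cancel]
    · right
      change w * f * w⁻¹ = y (m + 3) * f at e
      rw [e, mul_inv_cancel_right]
  · rintro ⟨-, h⟩ a ha
    rw [← s.md.smul a f hf]
    congr 1
    exact NO3S.Dual.conj_eq_of_comm (h _ ha).symm

theorem not_le : ¬ B ≤ FF V (y 0) (y (m + 3)) M := by
  intro hle
  have h1 := s.sup
  rw [sup_eq_right.2 hle] at h1
  apply s.gg.cr.ne
  intro a ha b hb
  have h2 : π b ∈ FF V (y 0) (y (m + 3)) M := by rw [h1]; trivial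
  exact ((mem_ee.1 ((s.mem_FF_iff hb).1 h2)).2 a ha).symm

/-- some `f ∈ W_q - E'` lies over `B` -/
theorem exists_f : ∃ f ∈ ws V (y (m + 3)), π f ∈ B ∧ f ∉ ee V (y (m + 3)) (y 0) := by
  obtain ⟨b, hb, hbF⟩ := SetLike.not_le_iff_exists.1 s.not_le
  obtain ⟨f, hf, rfl⟩ := s.md.surj b
  exact ⟨f, hf, hb, fun h => hbF ((s.mem_FF_iff hf).2 h)⟩

omit s in
theorem finite_M (md : Md V (y (m + 3)) π) : Finite M := by
  refine Finite.of_surjective (fun a : ws V (y (m + 3)) => π a) fun v => ?_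
  obtain ⟨a, ha, e⟩ := md.surj v
  exact ⟨⟨a, ha⟩, e⟩

/-- `2 |C_B(A')| ≤ |B|` -/
theorem card_Q : 2 * Nat.card ((FF V (y 0) (y (m + 3)) M).addSubgroupOf B) ≤ Nat.card B := by
  have := finite_M s.md
  have h1 := AddSubgroup.card_mul_index ((FF V (y 0) (y (m + 3)) M).addSubgroupOf B)
  have h2 : ((FF V (y 0) (y (m + 3)) M).addSubgroupOf B).index ≠ 1 := by
    intro h
    rw [AddSubgroup.index_eq_one, AddSubgroup.addSubgroupOf_eq_top] at h
    exact s.not_le h
  have h3 : ((FF V (y 0) (y (m + 3)) M).addSubgroupOf B).index ≠ 0 := AddSubgroup.index_ne_zero_of_finite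
  have h4 : 2 ≤ ((FF V (y 0) (y (m + 3)) M).addSubgroupOf B).index := by omega
  rw [← h1, mul_comm]
  exact Nat.mul_le_mul_left _ h4

/-- `x ∼ p`, `w ∈ C_{W_x}(q)` fixes `r` -/
theorem fix_r {x w : G} (hx : Col V (y 0) x) (hw : w ∈ ws V x) (hwq : w ∈ centralizer ({y (m + 3)} : Set G)) :
    (⟨w, hwq⟩ : centralizer ({y (m + 3)} : Set G)) • π r = π r := by
  -- `r = [a, b]`
  obtain ⟨a, ha, b, hb, hab⟩ : ∃ a ∈ ws V (y 0), ∃ b ∈ ws V (y (m + 3)), a * b * a⁻¹ * b⁻¹ ≠ 1 := by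
    by_contra hcon
    push Not at hcon
    exact s.gg.cr.ne fun a ha b hb => SecOne.comm_of_comm_eq_one (hcon a ha b hb)
  have hr : a * b * a⁻¹ * b⁻¹ = r := (s.two a ha b hb).resolve_left hab
  have hrw : r ∈ ws V (y (m + 3)) := by
    rw [← hr]
    exact s.gg.cr.comm_mem_right s.fr ha hb
  rw [← s.md.smul ⟨w, hwq⟩ r hrw]
  congr 1
  change w * r * w⁻¹ = r
  have hwa : w * a * w⁻¹ = a :=
    NO3S.Dual.conj_eq_of_comm (s.gg.cr.min 1 (by omega) x (y 0) (Pth.of_col hx.symm) w hw a ha)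
  have h1 : w * r * w⁻¹ = a * (w * b * w⁻¹) * a⁻¹ * (w * b * w⁻¹)⁻¹ := by
    rw [← hr]
    calc w * (a * b * a⁻¹ * b⁻¹) * w⁻¹ = (w * a * w⁻¹) * (w * b * w⁻¹) * (w * a * w⁻¹)⁻¹ * (w * b * w⁻¹)⁻¹ := by
          group
      _ = a * (w * b * w⁻¹) * a⁻¹ * (w * b * w⁻¹)⁻¹ := by rw [hwa]
  rcases s.two a ha (w * b * w⁻¹) (conj_mem_ws_of_mem hwq hb) with e | e
  · exfalso
    rw [← h1] at e
    rw [← hr] at e
    exact hab (conj_eq_one_iff.1 e)
  · rw [h1, e]

/-- the commutators `[w, f]` -/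
theorem comm_mem {x w f : G} (hx : Col V (y 0) x) (hw : w ∈ ws V x)
    (hwq : w ∈ centralizer ({y (m + 3)} : Set G)) (hf : f ∈ ws V (y (m + 3))) (hfB : π f ∈ B) :
    w * f * w⁻¹ * f⁻¹ ∈ ws V (y (m + 3)) ∧ w * f * w⁻¹ * f⁻¹ ∈ Up V (y 0) ∧
      π (w * f * w⁻¹ * f⁻¹) ∈ B ∧ π (w * f * w⁻¹ * f⁻¹) ∈ FF V (y 0) (y (m + 3)) M := by
  have h1 : w * f * w⁻¹ ∈ ws V (y (m + 3)) := conj_mem_ws_of_mem hwq hf
  have h2 : w * f * w⁻¹ * f⁻¹ ∈ ws V (y (m + 3)) := mul_mem h1 (inv_mem hf)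
  have h3 : w * f * w⁻¹ * f⁻¹ ∈ Up V (y 0) := by
    have e : w * f * w⁻¹ * f⁻¹ = w * (f * w⁻¹ * f⁻¹) := by group
    rw [e]
    exact mul_mem (ws_le_Up hx hw) (conj_mem_Up (s.wq_le hf) (ws_le_Up hx (inv_mem hw)))
  refine ⟨h2, h3, ?_, ?_⟩
  · have hff : f⁻¹ = f := inv_eq_of_mul_eq_one_left (s.fr.ws_sq s.hq f hf)
    rw [hff, s.md.map_mul _ h1 _ hf]
    refine add_mem ?_ hfB
    have h4 := s.stab ⟨w, hwq⟩ (s.fix_r hx hw hwq) _ hfB
    rwa [← s.md.smul ⟨w, hwq⟩ f hf] at h4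
  · intro a ha
    rw [← s.md.smul a _ h2]
    congr 1
    exact NO3S.Dual.conj_eq_of_comm (Up_comm s.gg.cr.min _ (ws_le_Up s.hp ha) _ h3)

/-- the set of the commutators -/
def Sc (V : Subgroup G) (m : ℕ) (y : ℕ → G) {M : Type v} [AddCommGroup M]
    [DistribMulAction (centralizer ({y (m + 3)} : Set G)) M] (π : G → M) (B : AddSubgroup M) : Set G :=
  {c : G | c ∈ ws V (y (m + 3)) ∧ c ∈ Up V (y 0) ∧ π c ∈ B ∧ π c ∈ FF V (y 0) (y (m + 3)) M}

/-- `q ∉ U_p` -/
theorem card_le (hq : y (m + 3) ∉ Up V (y 0)) :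
    Nat.card (Sc V m y π B) ≤ Nat.card ((FF V (y 0) (y (m + 3)) M).addSubgroupOf B) := by
  have := finite_M s.md
  refine Nat.card_le_card_of_injective (fun c : Sc V m y π B => (⟨⟨π c.1, c.2.2.2.1⟩, c.2.2.2.2⟩ :
    (FF V (y 0) (y (m + 3)) M).addSubgroupOf B)) ?_
  rintro ⟨a, ha1, ha2, ha3, ha4⟩ ⟨b, hb1, hb2, hb3, hb4⟩ hab
  have h1 : π a = π b := congrArg (fun x => ((x : B) : M)) (congrArg Subtype.val hab)
  refine Subtype.ext ?_
  rcases (s.md.eq_iff s.fr s.hq ha1 hb1).1 h1 with e | e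
  · exact e
  · exfalso
    apply hq
    have e2 : y (m + 3) = a * b⁻¹ := by rw [e, mul_inv_cancel_right]
    rw [e2]
    exact mul_mem ha2 (inv_mem hb2)

/-- in general -/
theorem card_le' :
    Nat.card (Sc V m y π B) ≤ 2 * Nat.card ((FF V (y 0) (y (m + 3)) M).addSubgroupOf B) := by
  classical
  have := finite_M s.md
  choose g hg1 hg2 using s.md.surj
  have h2 : 2 * Nat.card ((FF V (y 0) (y (m + 3)) M).addSubgroupOf B) =
      Nat.card (Bool × (FF V (y 0) (y (m + 3)) M).addSubgroupOf B) := by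
    rw [Nat.card_prod]
    simp only [_root_.Nat.card_eq_fintype_card, _root_.Fintype.card_bool]
  rw [h2]
  refine Nat.card_le_card_of_injective (fun c : Sc V m y π B =>
    (decide (c.1 = g (π c.1)), (⟨⟨π c.1, c.2.2.2.1⟩, c.2.2.2.2⟩ :
      (FF V (y 0) (y (m + 3)) M).addSubgroupOf B))) ?_
  rintro ⟨a, ha1, ha2, ha3, ha4⟩ ⟨b, hb1, hb2, hb3, hb4⟩ hab
  obtain ⟨hab1, hab2⟩ := Prod.ext_iff.1 hab
  have h1 : π a = π b := congrArg (fun x => ((x : B) : M)) (congrArg Subtype.val hab2)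
  have h3 : (a = g (π a)) ↔ (b = g (π b)) := by simpa using hab1
  refine Subtype.ext ?_
  change a = b
  rw [← h1] at h3
  by_cases h4 : a = g (π a)
  · exact h4.trans (h3.1 h4).symm
  · have h5 : b ≠ g (π a) := fun h => h4 (h3.2 h)
    have h6 := hg2 (π a)
    have h7 := hg1 (π a)
    rcases (s.md.eq_iff s.fr s.hq ha1 h7).1 h6.symm with e | e
    · exact absurd e h4
    · rcases (s.md.eq_iff s.fr s.hq hb1 h7).1 (h1.symm.trans h6.symm) with e' | e'
      · exact absurd e' h5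
      · rw [e, e']

/-- **section 5** : no such pair -/
theorem false (hcard : Nat.card B ≤ (ii V).relIndex (ws V z))
    (hmv : ∀ f ∈ ws V (y (m + 3)), f ∉ ee V (y (m + 3)) (y 0) → ∃ x, Mv V (m + 3) y x f ∧ DD V (y 0) x f)
    (hch : ∀ x f, Child V m y x f → ∃ r', Two V x (y (m + 2)) r') : False := by
  obtain ⟨f, hf, hfB, hfE⟩ := s.exists_f
  obtain ⟨x, mv, hD⟩ := hmv f hf hfE
  have hr : Pth V (m + 3 - 1) (y 0) (y (m + 2)) := s.hpr
  obtain ⟨h1, h2⟩ := SecOne.lemM s.fr (by omega) s.no s.gg.cr hr s.hrq mv.col.symm hf mv.mv hD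
  have := finite_M s.md
  have hB0 : 0 < Nat.card B := Nat.card_pos
  have hqr : y (m + 3) ∈ ws V (y (m + 2)) := s.fr.mem_ws_of_col s.hrq
  -- `|W_x : C_{W_x}(q)| ≤ 2`
  have h3 : (ws V x ⊓ centralizer ({y (m + 3)} : Set G)).relIndex (ws V x) ≤ 2 := by
    rcases h2 with h2 | ⟨h2, -⟩
    · obtain ⟨r', hr'⟩ := hch x f ⟨gg_of_goal s.gg h2, mv, hD⟩
      exact relIndex_le_two hr' hqr
    · have e : ws V x ⊓ centralizer ({y (m + 3)} : Set G) = ws V x := by
        rw [inf_eq_left]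
        intro w hw
        rw [mem_centralizer_singleton_iff]
        exact h2 w hw _ hqr
      rw [e, relIndex_self]
      omega
  have hQ := s.card_Q
  set W0 := ws V x ⊓ centralizer ({y (m + 3)} : Set G) with hW0
  -- `|W_x : C_{W_x}(f)| ≤ |B|`
  have h4 : (ws V x ⊓ centralizer ({f} : Set G)).relIndex (ws V x) ≤ Nat.card B := by
    by_cases hq : y (m + 3) ∈ Up V (y 0)
    · have hle : ∀ w ∈ ws V x, w ∈ centralizer ({y (m + 3)} : Set G) := by
        intro w hw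
        rw [mem_centralizer_singleton_iff]
        exact Up_comm s.gg.cr.min w (ws_le_Up mv.col hw) _ hq
      have h5 := relIndex_le_card (W := ws V x) (f := f) (S := Sc V m y π B)
        fun w hw => s.comm_mem mv.col hw (hle w hw) hf hfB
      exact (h5.trans s.card_le').trans hQ
    · have h5 := relIndex_le_card (W := W0) (f := f) (S := Sc V m y π B)
        fun w hw => s.comm_mem mv.col hw.1 hw.2 hf hfB
      have h6 := h5.trans (s.card_le hq)
      have h7 : (W0 ⊓ centralizer ({f} : Set G)).relIndex (ws V x) =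
          (W0 ⊓ centralizer ({f} : Set G)).relIndex W0 * W0.relIndex (ws V x) :=
        (relIndex_mul_relIndex _ _ _ inf_le_left inf_le_left).symm
      have h8 : (ws V x ⊓ centralizer ({f} : Set G)).relIndex (ws V x) ≤
          (W0 ⊓ centralizer ({f} : Set G)).relIndex (ws V x) :=
        relIndex_le_of_le_left (inf_le_inf_right _ inf_le_left) index_ne_zero_of_finite
      calc (ws V x ⊓ centralizer ({f} : Set G)).relIndex (ws V x)
          ≤ (W0 ⊓ centralizer ({f} : Set G)).relIndex W0 * W0.relIndex (ws V x) := h7 ▸ h8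
        _ ≤ Nat.card ((FF V (y 0) (y (m + 3)) M).addSubgroupOf B) * 2 := Nat.mul_le_mul h6 h3
        _ = 2 * Nat.card ((FF V (y 0) (y (m + 3)) M).addSubgroupOf B) := mul_comm _ _
        _ ≤ Nat.card B := hQ
  have h9 : 0 < (ii V).relIndex (ws V z) := hB0.trans_le hcard
  omega

end Cnt

end main

end Cfsg.Agent.Omega.NOThree.LL

end

section


/-!
# TwoFar, THEOREM LL (#18157), section 4 for a GOAL pair

`y` a geodesic of a GOAL pair, no `[a, b]`, `a ∈ W_{y 0}`, `b ∈ W_{y (m+3)}`, is a point collinear with `y 0`;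
a transvection of `M_{y 0}` with centre `c ∈ U_λ`, not a line vector.

* `GG.two` : `[W_p, W_q] = {1, r}`;
* `block_of_bd` : the blocks of `M_p`.
-/

set_option autoImplicit false
set_option linter.unusedSectionVars false

namespace Cfsg.Agent.Omega.NOThree.LL

open Subgroup Cfsg Cfsg.Agent.ZN Cfsg.Agent.MinSimple.Geo Cfsg.Agent.Omega.CaseL Cfsg.Agent.Omega.NO3S.TwoOne
open Cfsg.Agent.Omega.NO3S.Pt
open Cfsg.Agent.Omega.NOThree.TF (Md conj_mem_ws_of_mem exists_T)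

universe u v

variable {G : Type u} [Group G] {T V : Subgroup G} {z : G}

section bil

variable {n : ℕ} {p q : G}

/-- the commutator is multiplicative in the first variable -/
theorem Cr.comm_mul_left [Finite G] (h : Fr T V z) (hc : Cr V (n + 1) p q) {a a' b : G} (ha : a ∈ ws V p)
    (ha' : a' ∈ ws V p) (hb : b ∈ ws V q) :
    a * a' * b * (a * a')⁻¹ * b⁻¹ = (a * b * a⁻¹ * b⁻¹) * (a' * b * a'⁻¹ * b⁻¹) := by
  have h1 := hc.comm_mem_left h ha' hb
  have hp : Col V p p := hc.path.left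
  have e1 : a * a' * b * (a * a')⁻¹ * b⁻¹ = a * (a' * b * a'⁻¹ * b⁻¹) * a⁻¹ * (a * b * a⁻¹ * b⁻¹) := by group
  have e2 : a * (a' * b * a'⁻¹ * b⁻¹) * a⁻¹ = a' * b * a'⁻¹ * b⁻¹ := by
    rw [h.ws_comm hp a ha _ h1, mul_inv_cancel_right]
  rw [e1, e2]
  exact h.ws_comm hp _ h1 _ (hc.comm_mem_left h ha hb)

/-- the commutator is multiplicative in the second variable -/
theorem Cr.comm_mul_right [Finite G] (h : Fr T V z) (hc : Cr V (n + 1) p q) {a b b' : G} (ha : a ∈ ws V p)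
    (hb : b ∈ ws V q) (hb' : b' ∈ ws V q) :
    a * (b * b') * a⁻¹ * (b * b')⁻¹ = (a * b * a⁻¹ * b⁻¹) * (a * b' * a⁻¹ * b'⁻¹) := by
  have h1 := hc.comm_mem_right h ha hb'
  have hq : Col V q q := hc.path.right
  have e1 : a * (b * b') * a⁻¹ * (b * b')⁻¹ = (a * b * a⁻¹ * b⁻¹) * (b * (a * b' * a⁻¹ * b'⁻¹) * b⁻¹) := by group
  have e2 : b * (a * b' * a⁻¹ * b'⁻¹) * b⁻¹ = a * b' * a⁻¹ * b'⁻¹ := by
    rw [h.ws_comm hq b hb _ h1, mul_inv_cancel_right]
  rw [e1, e2]

/-- a biadditive map with values in `{0, c, c + l}` has values in `{0, c}` or in `{0, c + l}` -/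
theorem bil_aux {M : Type*} [AddCommGroup M] (hs : ∀ m : M, m + m = 0) {c l x x' u v : M} (hl : l ≠ 0) (hc : c ≠ 0)
    (hcl : c ≠ l) (hx0 : x ≠ 0) (hx0' : x' ≠ 0) (hx : x = 0 ∨ x = c ∨ x = c + l) (hx' : x' = 0 ∨ x' = c ∨ x' = c + l)
    (hu : u = 0 ∨ u = c ∨ u = c + l) (hv : v = 0 ∨ v = c ∨ v = c + l)
    (h1 : x + u = 0 ∨ x + u = c ∨ x + u = c + l) (h2 : v + x' = 0 ∨ v + x' = c ∨ v + x' = c + l)
    (h3 : x + v = 0 ∨ x + v = c ∨ x + v = c + l) (h4 : u + x' = 0 ∨ u + x' = c ∨ u + x' = c + l)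
    (h5 : x + u + (v + x') = 0 ∨ x + u + (v + x') = c ∨ x + u + (v + x') = c + l) : x' = x := by
  have hn : ¬ (l = 0 ∨ l = c ∨ l = c + l) := by
    rintro (e | e | e)
    · exact hl e
    · exact hcl e.symm
    · exact hc (right_eq_add.1 e)
  have e1 : c + (c + l) = l := by rw [← add_assoc, hs, zero_add]
  have e2 : c + l + c = l := by rw [add_comm, e1]
  have key : ∀ x x' : M, x + x' = l → (x = c ∧ x' = c + l) ∨ (x = c + l ∧ x' = c) →
      ∀ u : M, (u = 0 ∨ u = c ∨ u = c + l) → (x + u = 0 ∨ x + u = c ∨ x + u = c + l) →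
      (u + x' = 0 ∨ u + x' = c ∨ u + x' = c + l) → u = 0 := by
    rintro x x' - (⟨rfl, rfl⟩ | ⟨rfl, rfl⟩) u (rfl | rfl | rfl) h1 h2
    · rfl
    · rw [e1] at h2; exact absurd h2 hn
    · rw [e1] at h1; exact absurd h1 hn
    · rfl
    · rw [e2] at h1; exact absurd h1 hn
    · rw [e2] at h2; exact absurd h2 hn
  have fin : ∀ x x' : M, x + x' = l → (x = c ∧ x' = c + l) ∨ (x = c + l ∧ x' = c) →
      (x + u = 0 ∨ x + u = c ∨ x + u = c + l) → (v + x' = 0 ∨ v + x' = c ∨ v + x' = c + l) →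
      (x + v = 0 ∨ x + v = c ∨ x + v = c + l) → (u + x' = 0 ∨ u + x' = c ∨ u + x' = c + l) →
      (x + u + (v + x') = 0 ∨ x + u + (v + x') = c ∨ x + u + (v + x') = c + l) → False := by
    intro x x' hxx hc h1 h2 h3 h4 h5
    have k1 := key x x' hxx hc u hu h1 h4
    have k2 := key x x' hxx hc v hv h3 h2
    rw [k1, k2, add_zero, zero_add, hxx] at h5
    exact hn h5
  rcases hx with rfl | rfl | rfl
  · exact absurd rfl hx0
  · rcases hx' with rfl | rfl | rfl
    · exact absurd rfl hx0'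
    · rfl
    · exact (fin _ _ e1 (Or.inl ⟨rfl, rfl⟩) h1 h2 h3 h4 h5).elim
  · rcases hx' with rfl | rfl | rfl
    · exact absurd rfl hx0'
    · exact (fin _ _ e2 (Or.inr ⟨rfl, rfl⟩) h1 h2 h3 h4 h5).elim
    · rfl

end bil

section main

variable {m : ℕ} {y : ℕ → G} {M : Type v} [AddCommGroup M] [DistribMulAction (centralizer ({y 0} : Set G)) M]
  {π : G → M} {g : G} {U : AddSubgroup M} {c : M}

/-- `W_q` acts on `M_p` as `x ↦ x + π [a, b]` -/
theorem GG.smul_add [Finite G] (h : Fr T V z) (md : Md V (y 0) π) (gg : GG V (m + 3) y) {a b : G}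
    (ha : a ∈ ws V (y 0)) (hb : b ∈ ws V (y (m + 3))) :
    (⟨b, gg.cr.symm.cent h hb⟩ : centralizer ({y 0} : Set G)) • π a + π a = π (a * b * a⁻¹ * b⁻¹) := by
  have hp : Col V (y 0) (y 0) := gg.cr.path.left
  have hbc : b ∈ centralizer ({y 0} : Set G) := gg.cr.symm.cent h hb
  have h1 : b * a * b⁻¹ ∈ ws V (y 0) := conj_mem_ws_of_mem hbc ha
  have h2 := gg.cr.comm_mem_left h ha hb
  rw [← md.smul ⟨b, hbc⟩ a ha, ← md.map_mul _ h1 _ ha]
  congr 1
  have e1 : (a * b * a⁻¹ * b⁻¹)⁻¹ = a * b * a⁻¹ * b⁻¹ := inv_eq_of_mul_eq_one_left (h.ws_sq hp _ h2)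
  have e2 : a⁻¹ = a := inv_eq_of_mul_eq_one_left (h.ws_sq hp a ha)
  change b * a * b⁻¹ * a = _
  rw [← e1]
  nth_rewrite 2 [← e2]
  group

/-- `[W_p, W_q] ≤ I_l` -/
theorem GG.comm_mem_ii [Finite G] (h : Fr T V z) (gg : GG V (m + 3) y) (hg : y 0 ∈ cj g V) (hg' : y 1 ∈ cj g V)
    {a b : G} (ha : a ∈ ws V (y 0)) (hb : b ∈ ws V (y (m + 3))) : a * b * a⁻¹ * b⁻¹ ∈ ii (cj g V) :=
  h.mem_ii_cj hg gg.cr.path.left.ne_one hg' gg.col0.symm.ne_one (gg.ne_succ (i := 0) (by omega)).symm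
    (gg.cr.comm_mem_left h ha hb) (gg.le a ha b hb)

/-- **|[W_p, W_q]| = 2** -/
theorem GG.two [Finite G] (h : Fr T V z) (md : Md V (y 0) π) (gg : GG V (m + 3) y) (hg : y 0 ∈ cj g V)
    (hg' : y 1 ∈ cj g V) (hU : ∀ m, m ∈ U ↔ ∃ a ∈ ii (cj g V), π a = m)
    (b : BD (centralizer ({y 0} : Set G)) (π (y 1)) U c)
    (free : ∀ a ∈ ws V (y 0), ∀ b ∈ ws V (y (m + 3)), ¬ Col V (y 0) (a * b * a⁻¹ * b⁻¹)) :
    ∃ r, Two V (y 0) (y (m + 3)) r := by
  have hp : Col V (y 0) (y 0) := gg.cr.path.left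
  have hp1 := hp.ne_one
  have hq1 : y 1 ≠ 1 := gg.col0.symm.ne_one
  have hne : y 1 ≠ y 0 := (gg.ne_succ (i := 0) (by omega)).symm
  have hfin := finite_Md md
  have hs := b.two
  have hcom : NO3S.Pt.Com V (y 1) (y (m + 3)) := gg.com (i := 1) (j := m + 3) (by omega) le_rfl (by omega) (by omega)
  -- the values
  have hval : ∀ a ∈ ws V (y 0), ∀ b' ∈ ws V (y (m + 3)), π (a * b' * a⁻¹ * b'⁻¹) = 0 ∨
      π (a * b' * a⁻¹ * b'⁻¹) = c ∨ π (a * b' * a⁻¹ * b'⁻¹) = c + π (y 1) := by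
    intro a ha b' hb'
    have h1 := b.comm_mem (g := ⟨b', gg.cr.symm.cent h hb'⟩)
      (fun u hu => md.fix_U h hg hg' hq1 hU hcom hb' hp1 hu) (fun w => by
        obtain ⟨a', ha', rfl⟩ := md.surj w
        rw [gg.smul_add h md ha' hb', hU]
        exact ⟨_, gg.comm_mem_ii h hg hg' ha' hb', rfl⟩) (π a)
    rw [gg.smul_add h md ha hb'] at h1
    rcases h1 with h1 | h1 | h1 | h1
    · exact Or.inl h1
    · exact Or.inr (Or.inl h1)
    · exact Or.inr (Or.inr h1)
    · exfalso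
      have hy1 : y 1 ∈ ws V (y 0) := h.mem_ws_of_col gg.col0
      rcases (md.eq_iff h hp (gg.cr.comm_mem_left h ha hb') hy1).1 h1 with e | e
      · exact free a ha b' hb' (by rw [e]; exact gg.col0)
      · refine free a ha b' hb' (Col.of_mem hg ?_ hp1 ?_)
        · rw [e]; exact mul_mem hg hg'
        · rw [e]
          intro e'
          apply hne
          calc y 1 = y 0 * y 0 * y 1 := by rw [h.pt_sq hp, one_mul]
            _ = y 0 := by rw [mul_assoc, e', mul_one]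
  -- `p ∉ R`
  have hp_not : ∀ a ∈ ws V (y 0), ∀ b' ∈ ws V (y (m + 3)), π (a * b' * a⁻¹ * b'⁻¹) = 0 →
      a * b' * a⁻¹ * b'⁻¹ = 1 := by
    intro a ha b' hb' e
    rcases (md.ker _ (gg.cr.comm_mem_left h ha hb')).1 e with e' | e'
    · exact e'
    · exfalso
      apply gg.not_mem
      rw [← e']
      exact gg.cr.comm_mem_right h ha hb'
  by_cases hall : ∀ a ∈ ws V (y 0), ∀ b' ∈ ws V (y (m + 3)), π (a * b' * a⁻¹ * b'⁻¹) = 0
  · exact ⟨1, fun a ha b' hb' => Or.inl (hp_not a ha b' hb' (hall a ha b' hb'))⟩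
  push Not at hall
  obtain ⟨a₁, ha₁, b₁, hb₁, h0⟩ := hall
  refine ⟨a₁ * b₁ * a₁⁻¹ * b₁⁻¹, fun a₂ ha₂ b₂ hb₂ => ?_⟩
  by_cases h0' : π (a₂ * b₂ * a₂⁻¹ * b₂⁻¹) = 0
  · exact Or.inl (hp_not _ ha₂ _ hb₂ h0')
  right
  have hlam : π (y 1) ≠ 0 := md.pt_ne_zero h gg.col0 hne
  -- the values at `(a₁, b₁)` and `(a₂, b₂)` agree
  have key : π (a₂ * b₂ * a₂⁻¹ * b₂⁻¹) = π (a₁ * b₁ * a₁⁻¹ * b₁⁻¹) := by
    have hl1 := fun {a a' b : G} (ha : a ∈ ws V (y 0)) (ha' : a' ∈ ws V (y 0)) (hb : b ∈ ws V (y (m + 3))) =>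
      (congrArg π (Cr.comm_mul_left h gg.cr ha ha' hb)).trans
        (md.map_mul _ (gg.cr.comm_mem_left h ha hb) _ (gg.cr.comm_mem_left h ha' hb))
    have hr1 := fun {a b b' : G} (ha : a ∈ ws V (y 0)) (hb : b ∈ ws V (y (m + 3))) (hb' : b' ∈ ws V (y (m + 3))) =>
      (congrArg π (Cr.comm_mul_right h gg.cr ha hb hb')).trans
        (md.map_mul _ (gg.cr.comm_mem_left h ha hb) _ (gg.cr.comm_mem_left h ha hb'))
    have v12 := hval _ ha₁ _ hb₂
    have v21 := hval _ ha₂ _ hb₁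
    have w1 := hval _ ha₁ _ (mul_mem hb₁ hb₂)
    have w2 := hval _ ha₂ _ (mul_mem hb₁ hb₂)
    have w3 := hval _ (mul_mem ha₁ ha₂) _ hb₁
    have w4 := hval _ (mul_mem ha₁ ha₂) _ hb₂
    have w5 := hval _ (mul_mem ha₁ ha₂) _ (mul_mem hb₁ hb₂)
    have v11 := hval _ ha₁ _ hb₁
    have v22 := hval _ ha₂ _ hb₂
    rw [hl1 ha₁ ha₂ (mul_mem hb₁ hb₂), hr1 ha₁ hb₁ hb₂, hr1 ha₂ hb₁ hb₂] at w5
    rw [hr1 ha₁ hb₁ hb₂] at w1
    rw [hr1 ha₂ hb₁ hb₂] at w2
    rw [hl1 ha₁ ha₂ hb₁] at w3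
    rw [hl1 ha₁ ha₂ hb₂] at w4
    exact bil_aux hs hlam b.c0 (fun e => b.cl 1 (by rw [one_smul, e])) h0 h0' v11 v22 v12 v21 w1 w2 w3 w4 w5
  rcases (md.eq_iff h hp (gg.cr.comm_mem_left h ha₂ hb₂) (gg.cr.comm_mem_left h ha₁ hb₁)).1 key with e | e
  · exact e
  · exfalso
    apply gg.not_mem
    have e' : y 0 = a₂ * b₂ * a₂⁻¹ * b₂⁻¹ * (a₁ * b₁ * a₁⁻¹ * b₁⁻¹)⁻¹ := by rw [e, mul_inv_cancel_right]
    rw [e']
    exact mul_mem (gg.cr.comm_mem_right h ha₂ hb₂) (inv_mem (gg.cr.comm_mem_right h ha₁ hb₁))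

/-- **the blocks** -/
theorem block_of_bd [Finite G] {p p₁ : G} {M : Type v} [AddCommGroup M]
    [DistribMulAction (centralizer ({p} : Set G)) M] {π : G → M} {U : AddSubgroup M} {c : M} (h : Fr T V z)
    (md : Md V p π) (hp : p ∈ cj g V) (hp1 : p ≠ 1) (hU : ∀ m, m ∈ U ↔ ∃ a ∈ ii (cj g V), π a = m)
    (b : BD (centralizer ({p} : Set G)) (π p₁) U c) {r : M} {t : centralizer ({p} : Set G)}
    (ht : ∃ v : M, t • v ≠ v) (ht' : ∀ v : M, t • v = v ∨ t • v = v + r) :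
    ∃ B : AddSubgroup M, (∀ c : centralizer ({p} : Set G), c • r = r → ∀ b ∈ B, c • b ∈ B) ∧
      Nat.card B ≤ (ii V).relIndex (ws V z) ∧
      ∀ v : M, ∃ v₁ ∈ B, ∃ v₂, v = v₁ + v₂ ∧
        ∀ s : centralizer ({p} : Set G), (∀ v : M, s • v = v ∨ s • v = v + r) → s • v₂ = v₂ := by
  have := finite_Md md
  obtain ⟨-, B, -, -, h1, h2, h3⟩ := b.exists_block ⟨ht', ht⟩
  refine ⟨B, h1, ?_, h3⟩
  rw [← md.index_U h hp hp1 hU]
  have h4 := U.card_mul_index
  rw [← h4, mul_comm] at h2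
  exact Nat.le_of_mul_le_mul_left h2 Nat.card_pos

end main

end Cfsg.Agent.Omega.NOThree.LL

end

section


/-!
# THEOREM LL (helper975 #18157), section 5: from a grandchild to the contradiction

* `Gr V m y` : `y` is the geodesic of a child of a child of a GOAL pair; `Gr.child`; `GG.conj`, `Child.conj`, `Gr.conj`;
* `BlockAt V z x M` : the output of section 4 at the point `x` (blocks of transvections);
* `no_gr` : there is no grandchild.
-/

set_option autoImplicit false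
set_option linter.unusedSectionVars false

namespace Cfsg.Agent.Omega.NOThree.LL

open Subgroup Cfsg Cfsg.Agent.ZN Cfsg.Agent.MinSimple.Geo Cfsg.Agent.Omega.CaseL Cfsg.Agent.Omega.NO3S.TwoOne
open Cfsg.Agent.Omega.NO3S.Pt
open Cfsg.Agent.Omega.NOThree.SecOne (Exact ee mem_ee Goal)
open Cfsg.Agent.Omega.NOThree.TF (Md conj_mem_ws_of_mem MM pim md_MM)
open Cfsg.Agent.Omega.NOThree.LemmaM (NoOver)

universe u v

variable {G : Type u} [Group G] {T V : Subgroup G} {z : G} {n m : ℕ} {y : ℕ → G} {x f : G}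

/-! ### conjugation -/

theorem mem_ws_conj {g a p : G} : a ∈ ws V (g * p * g⁻¹) ↔ g⁻¹ * a * g ∈ ws V p := by
  rw [← cj_ws, mem_cj]

theorem conj_comm {g a b : G} : g * a * g⁻¹ * (g * b * g⁻¹) * (g * a * g⁻¹)⁻¹ * (g * b * g⁻¹)⁻¹ =
    g * (a * b * a⁻¹ * b⁻¹) * g⁻¹ := by group

/-- the conjugate of a sequence -/
def cs (g : G) (y : ℕ → G) : ℕ → G := fun i => g * y i * g⁻¹

theorem cs_apply (g : G) (y : ℕ → G) (i : ℕ) : cs g y i = g * y i * g⁻¹ := rfl

theorem cs_ch (g x : G) (y : ℕ → G) : cs g (ch x y) = ch (g * x * g⁻¹) (cs g y) := by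
  funext i
  cases i with
  | zero => rfl
  | succ i => rfl

theorem GG.conj (h : GG V n y) (g : G) : GG V n (cs g y) where
  cr := h.cr.conj g
  path := fun i hi => (h.path i hi).conj g
  not_mem := by
    intro h1
    apply h.not_mem
    rw [cs_apply, cs_apply, mem_ws_conj] at h1
    have e : g⁻¹ * (g * y 0 * g⁻¹) * g = y 0 := by group
    rwa [e] at h1
  not_mem' := by
    intro h1
    apply h.not_mem'
    rw [cs_apply, cs_apply, mem_ws_conj] at h1
    have e : g⁻¹ * (g * y n * g⁻¹) * g = y n := by group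
    rwa [e] at h1
  le := by
    intro a ha b hb
    rw [cs_apply, mem_ws_conj] at ha hb ⊢
    have h1 := h.le _ ha _ hb
    have e : g⁻¹ * (a * b * a⁻¹ * b⁻¹) * g =
        g⁻¹ * a * g * (g⁻¹ * b * g) * (g⁻¹ * a * g)⁻¹ * (g⁻¹ * b * g)⁻¹ := by group
    rwa [e]

theorem Mv.conj (h : Mv V n y x f) (g : G) : Mv V n (cs g y) (g * x * g⁻¹) (g * f * g⁻¹) where
  mem := by
    rw [cs_apply]
    exact conj_mem_ws g h.mem
  col := h.col.conj g
  ne := by
    intro e
    exact h.ne (mul_left_cancel (mul_right_cancel e))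
  mv := by
    intro e
    apply h.mv
    have e1 : g * f * g⁻¹ * (g * x * g⁻¹) * (g * f * g⁻¹)⁻¹ = g * (f * x * f⁻¹) * g⁻¹ := by group
    rw [e1] at e
    exact mul_left_cancel (mul_right_cancel e)
  mv' := by
    intro e
    apply h.mv'
    have e1 : g * f * g⁻¹ * (g * x * g⁻¹) * (g * f * g⁻¹)⁻¹ = g * (f * x * f⁻¹) * g⁻¹ := by group
    have e2 : cs g y 0 * (g * x * g⁻¹) = g * (y 0 * x) * g⁻¹ := by
      rw [cs_apply]; group
    rw [e1, e2] at e
    exact mul_left_cancel (mul_right_cancel e)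
  cen := by
    intro u hu hu0 hfu
    rw [cs_apply, mem_ws_conj] at hu0 ⊢
    rw [mem_ws_conj] at hu
    refine h.cen _ hu hu0 ?_
    calc f * (g⁻¹ * u * g) = g⁻¹ * (g * f * g⁻¹ * u) * g := by group
      _ = g⁻¹ * (u * (g * f * g⁻¹)) * g := by rw [hfu]
      _ = g⁻¹ * u * g * f := by group

theorem DD.conj {p : G} (h : DD V p x f) (g : G) : DD V (g * p * g⁻¹) (g * x * g⁻¹) (g * f * g⁻¹) := by
  intro u hu
  have e1 : g * f * g⁻¹ * (g * x * g⁻¹) * (g * f * g⁻¹)⁻¹ = g * (f * x * f⁻¹) * g⁻¹ := by group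
  rw [e1, mem_inf, mem_ws_conj, mem_ws_conj] at hu
  rw [mem_ws_conj]
  exact h ⟨hu.1, hu.2⟩

theorem Child.conj (h : Child V m y x f) (g : G) : Child V m (cs g y) (g * x * g⁻¹) (g * f * g⁻¹) where
  gg := by
    rw [← cs_ch]
    exact h.gg.conj g
  mv := h.mv.conj g
  low := h.low.conj g

/-! ### grandchildren -/

/-- `y` is the geodesic of a child of a child of a GOAL pair -/
def Gr (V : Subgroup G) (m : ℕ) (y : ℕ → G) : Prop :=
  ∃ (y₀ : ℕ → G) (x f x' f' : G), GG V (m + 3) y₀ ∧ Child V m y₀ x f ∧ Child V m (ch x y₀) x' f' ∧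
    y = ch x' (ch x y₀)

theorem Gr.gg (h : Gr V m y) : GG V (m + 3) y := by
  obtain ⟨y₀, x, f, x', f', -, -, h3, rfl⟩ := h
  exact h3.gg

/-- a child of a grandchild is a grandchild -/
theorem Gr.child (h : Gr V m y) (hc : Child V m y x f) : Gr V m (ch x y) := by
  obtain ⟨y₀, x₀, f₀, x', f', h1, h2, h3, rfl⟩ := h
  exact ⟨ch x₀ y₀, x', f', x, f, h2.gg, h3, hc, rfl⟩

theorem Gr.conj (h : Gr V m y) (g : G) : Gr V m (cs g y) := by
  obtain ⟨y₀, x, f, x', f', h1, h2, h3, rfl⟩ := h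
  refine ⟨cs g y₀, g * x * g⁻¹, g * f * g⁻¹, g * x' * g⁻¹, g * f' * g⁻¹, h1.conj g, h2.conj g, ?_, ?_⟩
  · rw [← cs_ch]
    exact h3.conj g
  · rw [cs_ch, cs_ch]

/-- every point is the first point of a conjugate of the grandchild -/
theorem Gr.exists_at (hf : Fr T V z) (h : Gr V m y) (hx : Col V x x) : ∃ y', Gr V m y' ∧ y' 0 = x := by
  have h0 : Col V (y 0) (y 0) := (h.gg.path 0 (by omega)).left
  obtain ⟨g, hg⟩ := hf.exists_conj h0 hx
  exact ⟨cs g y, h.conj g, hg⟩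

/-! ### the blocks -/

/-- the output of section 4 at the point `x` -/
def BlockAt (V : Subgroup G) (z x : G) (M : Type v) [AddCommGroup M]
    [DistribMulAction (centralizer ({x} : Set G)) M] : Prop :=
  ∀ r : M, r ≠ 0 → ∀ t : centralizer ({x} : Set G), (∃ v : M, t • v ≠ v) → (∀ v : M, t • v = v ∨ t • v = v + r) →
    ∃ B : AddSubgroup M, (∀ c : centralizer ({x} : Set G), c • r = r → ∀ b ∈ B, c • b ∈ B) ∧
      Nat.card B ≤ (ii V).relIndex (ws V z) ∧
      ∀ v : M, ∃ v₁ ∈ B, ∃ v₂ : M, v = v₁ + v₂ ∧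
        ∀ s : centralizer ({x} : Set G), (∀ v : M, s • v = v ∨ s • v = v + r) → s • v₂ = v₂

section main

variable [Finite G]

/-- the setting `Cnt` -/
theorem exists_cnt (hf : Fr T V z)
    (hNO : NoOver (NO3S.TwoFar.inc (V := V)) NO3S.TwoFar.RR NO3S.TwoFar.WS NO3S.TwoFar.VL)
    (gg : GG V (m + 3) y) {r : G} (hr : Two V (y 0) (y (m + 3)) r) {M : Type v} [AddCommGroup M]
    [DistribMulAction (centralizer ({y (m + 3)} : Set G)) M] {π : G → M} (md : Md V (y (m + 3)) π)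
    (hB : BlockAt V z (y (m + 3)) M) :
    ∃ B : AddSubgroup M, Cnt T V z m y r M π B ∧ Nat.card B ≤ (ii V).relIndex (ws V z) := by
  have hq : Col V (y (m + 3)) (y (m + 3)) := (gg.path (m + 2) (show m + 2 < m + 3 by omega)).right
  have wp_le : ws V (y 0) ≤ centralizer ({y (m + 3)} : Set G) := gg.cr.cent hf
  have hex := gg.exact hf hNO
  -- `W_p` acts by transvections with centre `π r`
  have htv : ∀ a : centralizer ({y (m + 3)} : Set G), (a : G) ∈ ws V (y 0) →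
      ∀ v : M, a • v = v ∨ a • v = v + π r := by
    intro a ha v
    obtain ⟨b, hb, rfl⟩ := md.surj v
    have h1 : π ((a : G) * b * (a : G)⁻¹) = a • π b := md.smul a b hb
    rcases hr a ha b hb with e | e
    · left
      rw [← h1]
      congr 1
      exact NO3S.Dual.conj_eq_of_comm (SecOne.comm_of_comm_eq_one e)
    · right
      have hrw : r ∈ ws V (y (m + 3)) := by
        rw [← e]
        exact gg.cr.comm_mem_right hf ha hb
      rw [← h1, ← md.map_mul b hb r hrw]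
      congr 1
      have e1 : (a : G) * b * (a : G)⁻¹ = r * b := by rw [← e]; group
      rw [e1, hf.ws_comm hq r hrw b hb]
  -- some `a` moves `M`
  obtain ⟨a, ha, b, hb, hab⟩ : ∃ a ∈ ws V (y 0), ∃ b ∈ ws V (y (m + 3)),
      ∃ hac : a ∈ centralizer ({y (m + 3)} : Set G),
        (⟨a, hac⟩ : centralizer ({y (m + 3)} : Set G)) • π b ≠ π b := by
    by_contra hcon
    push Not at hcon
    apply gg.cr.ne
    intro a ha b hb
    refine ((mem_ee.1 (hex.cent' b hb fun w hw => ?_)).2 a ha).symm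
    have h1 := hcon w hw b hb (wp_le hw)
    rw [← md.smul ⟨w, wp_le hw⟩ b hb, md.eq_iff hf hq (conj_mem_ws_of_mem (wp_le hw) hb) hb] at h1
    rw [mem_zpowers_iff_of_mul_self (hf.pt_sq hq)]
    rcases h1 with e | e
    · left
      change w * b * w⁻¹ = b at e
      rw [e, mul_inv_cancel]
    · right
      change w * b * w⁻¹ = y (m + 3) * b at e
      rw [e, mul_inv_cancel_right]
  obtain ⟨hac, hab⟩ := hab
  have hr0 : π r ≠ 0 := by
    intro e
    rcases htv ⟨a, hac⟩ ha (π b) with h1 | h1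
    · exact hab h1
    · rw [e, add_zero] at h1
      exact hab h1
  obtain ⟨B, hB1, hB2, hB3⟩ := hB (π r) hr0 ⟨a, hac⟩ ⟨π b, hab⟩ (htv _ ha)
  refine ⟨B, ⟨hf, hNO, gg, md, hr, ?_, hB1⟩, hB2⟩
  rw [eq_top_iff]
  intro v _
  obtain ⟨v₁, hv₁, v₂, rfl, hv₂⟩ := hB3 v
  exact AddSubgroup.mem_sup.2 ⟨v₁, hv₁, v₂, fun s hs => hv₂ s (htv s hs), rfl⟩

/-- **there is no grandchild** -/
theorem no_gr (hf : Fr T V z)
    (hNO : NoOver (NO3S.TwoFar.inc (V := V)) NO3S.TwoFar.RR NO3S.TwoFar.WS NO3S.TwoFar.VL)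
    (hB : ∀ y, Gr V m y → BlockAt V z (y 0) (MM V (y 0)))
    (hT : ∀ y, Gr V m y → ∃ r, Two V (y 0) (y (m + 3)) r)
    (hM : ∀ y, Gr V m y → ∀ f ∈ ws V (y (m + 3)), f ∉ ee V (y (m + 3)) (y 0) →
      ∃ x, Mv V (m + 3) y x f ∧ DD V (y 0) x f) (y : ℕ → G) : ¬ Gr V m y := by
  intro h
  have hq : Col V (y (m + 3)) (y (m + 3)) := (h.gg.path (m + 2) (show m + 2 < m + 3 by omega)).right
  obtain ⟨r, hr⟩ := hT y h
  have key : ∀ x, Col V x x → BlockAt V z x (MM V x) := by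
    intro x hx
    obtain ⟨y', h1, rfl⟩ := h.exists_at hf hx
    exact hB y' h1
  have hBq := key _ hq
  have hmd := md_MM hf hq
  obtain ⟨B, hc, hcard⟩ := exists_cnt hf hNO h.gg hr hmd hBq
  have hM' := hM y h
  have hch' : ∀ x f, Child V m y x f → ∃ r', Two V x (y (m + 2)) r' := by
    intro x f hch
    obtain ⟨r', hr'⟩ := hT (ch x y) (h.child hch)
    exact ⟨r', hr'⟩
  exact Cnt.false hc hcard hM' hch'

end main

end Cfsg.Agent.Omega.NOThree.LL

end

section


/-!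
# TwoFar, THEOREM LL (#18157), section 4 for the pairs of `no_gr`

* `TrAt V y` : some element of `W_q` induces on `M_p` a transvection with centre `c ∈ U_λ`, `c` not a line vector
  (the output of THEOREM ONE);
* `blockAt_of_tr`, `two_of_tr`.
-/

set_option autoImplicit false
set_option linter.unusedSectionVars false

namespace Cfsg.Agent.Omega.NOThree.LL

open Subgroup Cfsg Cfsg.Agent.ZN Cfsg.Agent.MinSimple.Geo Cfsg.Agent.Omega.CaseL Cfsg.Agent.Omega.NO3S.TwoOne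
open Cfsg.Agent.Omega.NO3S.Pt
open Cfsg.Agent.Omega.NOThree.TF (Md conj_mem_ws_of_mem MM pim md_MM)

universe u

variable {G : Type u} [Group G] {T V : Subgroup G} {z : G} {m : ℕ} {y : ℕ → G}

/-- the output of THEOREM ONE at `p = y 0`: a transvection in the image of `W_q`, its centre `c ∈ U_λ` is not a line
vector -/
def TrAt (V : Subgroup G) (m : ℕ) (y : ℕ → G) : Prop :=
  ∃ (g : G) (t : centralizer ({y 0} : Set G)) (c : MM V (y 0)), y 0 ∈ cj g V ∧ y 1 ∈ cj g V ∧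
    (t : G) ∈ ws V (y (m + 3)) ∧ Tr c t ∧ (∃ a ∈ ii (cj g V), pim V (y 0) a = c) ∧
    ∀ k : centralizer ({y 0} : Set G), k • pim V (y 0) (y 1) ≠ c

/-- the data of section 4 -/
theorem exists_bd [Finite G] (h : Fr T V z) (gg : GG V (m + 3) y) (ht : TrAt V m y) :
    ∃ (g : G) (U : AddSubgroup (MM V (y 0))) (c : MM V (y 0)), y 0 ∈ cj g V ∧ y 1 ∈ cj g V ∧
      (∀ m, m ∈ U ↔ ∃ a ∈ ii (cj g V), pim V (y 0) a = m) ∧
      BD (centralizer ({y 0} : Set G)) (pim V (y 0) (y 1)) U c := by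
  obtain ⟨g, t, c, hp, hq, htq, htr, hc, hcl⟩ := ht
  have hpp : Col V (y 0) (y 0) := gg.cr.path.left
  have hp1 := hpp.ne_one
  have hq1 := gg.col0.symm.ne_one
  have hmd := md_MM h hpp
  obtain ⟨U, hU⟩ := TF.Md.exists_U h hmd hp hp1
  have hcom : NO3S.Pt.Com V (y 1) (y (m + 3)) := gg.com (i := 1) (j := m + 3) (by omega) le_rfl (by omega) (by omega)
  refine ⟨g, U, c, hp, hq, hU, bd_of_tr h hmd hp hp1 hq hq1 (gg.ne_succ (i := 0) (by omega)).symm hU ?_ hcl
    ⟨t, htr, fun u hu => hmd.fix_U h hp hq hq1 hU hcom htq hp1 hu⟩⟩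
  rw [hU]
  exact hc

/-- **hB** -/
theorem blockAt_of_tr [Finite G] (h : Fr T V z) (gg : GG V (m + 3) y) (ht : TrAt V m y) :
    BlockAt V z (y 0) (MM V (y 0)) := by
  obtain ⟨g, U, c, hp, -, hU, b⟩ := exists_bd h gg ht
  have hpp : Col V (y 0) (y 0) := gg.cr.path.left
  intro r _ t ht ht'
  exact block_of_bd h (md_MM h hpp) hp hpp.ne_one hU b ht ht'

/-- **hT** -/
theorem two_of_tr [Finite G] (h : Fr T V z) (gg : GG V (m + 3) y) (ht : TrAt V m y)
    (free : ∀ a ∈ ws V (y 0), ∀ b ∈ ws V (y (m + 3)), ¬ Col V (y 0) (a * b * a⁻¹ * b⁻¹)) :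
    ∃ r, Two V (y 0) (y (m + 3)) r := by
  obtain ⟨g, U, c, hp, hq, hU, b⟩ := exists_bd h gg ht
  have hpp : Col V (y 0) (y 0) := gg.cr.path.left
  exact GG.two h (md_MM h hpp) gg hp hq hU b free

end Cfsg.Agent.Omega.NOThree.LL

end

end
end

-- part: Mrg/Omega/NOThree/LL/InstOne
section
/-!
# THEOREM ONE for `M_p = W_p/p` (THEOREM LL, #18157)

* `LamS V p π` : the line vectors of `M_p`; `UU V p π ν = U_ν`, `mem_UU`;
* `NoHP V p π` : (NO) for the subgroups of `H_p` in all `B_ν`; `noHP_of` : from (ML);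
* `sys` : `One.Sys` holds for the image of `C(p)` on `M_p`;
* `exists_tr` : in a goal pair with `R = [W_p, W_q]` free of points `∼ p` some `t ∈ W_q` is a transvection of `M_p` with
  centre `c ∈ U_λ`, `c ∉ λ^H`.
-/

set_option autoImplicit false
set_option linter.unusedSectionVars false

namespace Cfsg.Agent.Omega.NOThree.LL

open Subgroup Cfsg Cfsg.Agent.ZN Cfsg.Agent.MinSimple.Geo Cfsg.Agent.Omega.CaseL Cfsg.Agent.Omega.NO3S.TwoOne
open Cfsg.Agent.Omega.NO3S.Pt Cfsg.Agent.Omega.NOThree.TF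
open Cfsg.Agent.Omega.NOThree.SecOne (ee mem_ee ee_le)
open Cfsg.Agent.ZN.Block (conj_mem_of_normalizer conj_mem_of_normalizer' le_normalizer_of_forall mem_normalizer_of)
open Cfsg.Agent.Omega.NO3S.Dual (nn mem_nn)

universe u v

variable {G : Type u} [Group G] {M : Type v} [AddCommGroup M]
variable {T V : Subgroup G} {z p x g : G} [DistribMulAction (centralizer ({p} : Set G)) M] {π : G → M}

/-- the line vectors of `M_p` -/
def LamS (V : Subgroup G) (p : G) (π : G → M) : Set M := {v | ∃ x, Col V p x ∧ x ≠ p ∧ π x = v}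

/-- `U_ν` -/
def UU (V : Subgroup G) (p : G) (π : G → M) (ν : M) : AddSubgroup M :=
  AddSubgroup.closure {m | ∃ g x a : G, p ∈ cj g V ∧ x ∈ cj g V ∧ p ≠ 1 ∧ x ≠ 1 ∧ x ≠ p ∧ π x = ν ∧ a ∈ ii (cj g V) ∧
    π a = m}

/-- two points determine the line; `x` and `p x` are on the same line on `p` -/
theorem line_eq (h : Fr T V z) (md : Md V p π) {g g' x x' : G} (hp : p ∈ cj g V) (hx : x ∈ cj g V) (hp1 : p ≠ 1)
    (hx1 : x ≠ 1) (hne : x ≠ p) (hp' : p ∈ cj g' V) (hx' : x' ∈ cj g' V) (hx1' : x' ≠ 1) (hne' : x' ≠ p)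
    (e : π x' = π x) : cj g' V = cj g V := by
  have hpc : Col V p p := Col.of_mem hp hp hp1 hp1
  have hxw : x ∈ ws V p := h.mem_ws_of_col (Col.of_mem hp hx hp1 hx1)
  have hxw' : x' ∈ ws V p := h.mem_ws_of_col (Col.of_mem hp' hx' hp1 hx1')
  have key : ∀ (g g' x x' : G), p ∈ cj g V → x ∈ cj g V → x ≠ 1 → x ≠ p → p ∈ cj g' V → x' ∈ cj g' V → x' ≠ 1 →
      x' ≠ p → x' ∈ ws V p → x ∈ ws V p → π x' = π x → cj g' V ≤ cj g V := by
    intro g g' x x' hp hx hx1 hne hp' hx' hx1' hne' hxw' hxw e a ha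
    have h1 : x' ∈ cj g V := by
      rcases (md.eq_iff h hpc hxw' hxw).1 e with e | e
      · rw [e]; exact hx
      · rw [e]; exact mul_mem hp hx
    rcases Md.four_cj h hp' hp1 hx' hx1' hne' ha with e | e | e | e
    · rw [e]; exact one_mem _
    · rw [e]; exact hp
    · rw [e]; exact h1
    · rw [e]; exact mul_mem hp h1
  exact le_antisymm (key g g' x x' hp hx hx1 hne hp' hx' hx1' hne' hxw' hxw e)
    (key g' g x' x hp' hx' hx1' hne' hp hx hx1 hne hxw hxw' e.symm)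

theorem mem_UU (h : Fr T V z) (md : Md V p π) (hp : p ∈ cj g V) (hp1 : p ≠ 1) (hx : x ∈ cj g V) (hx1 : x ≠ 1)
    (hne : x ≠ p) (m : M) : m ∈ UU V p π (π x) ↔ ∃ a ∈ ii (cj g V), π a = m := by
  obtain ⟨U, hU⟩ := Md.exists_U h md hp hp1
  have e : UU V p π (π x) = U := by
    apply le_antisymm
    · unfold UU
      rw [AddSubgroup.closure_le]
      rintro m ⟨g', x', a, hp', hx', -, hx1', hne', e, ha, rfl⟩
      rw [SetLike.mem_coe, hU]
      rw [line_eq h md hp hx hp1 hx1 hne hp' hx' hx1' hne' e] at ha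
      exact ⟨a, ha, rfl⟩
    · intro m hm
      obtain ⟨a, ha, rfl⟩ := (hU m).1 hm
      exact AddSubgroup.subset_closure ⟨g, x, a, hp, hx, hp1, hx1, hne, rfl, ha, rfl⟩
  rw [e, hU]

/-- **(NO) for the subgroups of `H_p`** in `B_ν`, all line vectors `ν` -/
def NoHP (V : Subgroup G) (p : G) [DistribMulAction (centralizer ({p} : Set G)) M] (π : G → M) : Prop :=
  ∀ (g x : G) (U : AddSubgroup M), p ∈ cj g V → p ≠ 1 → x ∈ cj g V → x ≠ 1 → x ≠ p →
    (∀ m, m ∈ U ↔ ∃ a ∈ ii (cj g V), π a = m) → NoH (centralizer ({p} : Set G)) M U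

theorem noHP_of [Finite G] (hML : ML.Final.MLK.{u, v}) (h : Fr T V z) (hK : IsKGroup (centralizer ({p} : Set G)))
    (md : Md V p π) : NoHP V p π := fun _ _ _ hp hp1 hx hx1 hne hU => noH_of hML h hK md hp hp1 hx hx1 hne hU

/-- **(F2')**, functional form -/
theorem f2_functional [Finite G] (h : Fr T V z) (md : Md V p π) (hp : p ∈ cj g V) (hp1 : p ≠ 1) (hx : x ∈ cj g V)
    (hx1 : x ≠ 1) {U : AddSubgroup M} (hU : ∀ m, m ∈ U ↔ ∃ a ∈ ii (cj g V), π a = m)
    (φ : M →+ ZMod 2) (hφ : φ (π x) = 0) :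
    ∃ k : centralizer ({p} : Set G), k • π x = π x ∧ ∀ u ∈ U, (φ u = 0 → k • u = u) ∧ (φ u ≠ 0 → k • u = u + π x) := by
  have hpc : Col V p p := Col.of_mem hp hp hp1 hp1
  have hxc : Col V x x := Col.of_mem hx hx hx1 hx1
  have hcx : Col V p x := Col.of_mem hp hx hp1 hx1
  have hle := h.ii_cj_le hp hp1
  have hlex := h.ii_cj_le hx hx1
  have hxw : x ∈ ws V p := h.mem_ws_of_col hcx
  have hpw : p ∈ ws V p := h.mem_ws_self hpc
  have hVi : cj g V ≤ ii (cj g V) := by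
    intro a ha r hr hr1
    rw [ws_cj]
    exact h.line_le_ws hr ha
  by_cases h0 : ∀ u ∈ U, φ u = 0
  · exact ⟨1, one_smul _ _, fun u hu => ⟨fun _ => one_smul _ _, fun hn => absurd (h0 u hu) hn⟩⟩
  push Not at h0
  obtain ⟨u0, hu0, hφ0⟩ := h0
  obtain ⟨a0, ha0, rfl⟩ := (hU u0).1 hu0
  have hmul : ∀ a ∈ ii (cj g V), ∀ b ∈ ii (cj g V), φ (π (a * b)) = φ (π a) + φ (π b) := fun a ha b hb => by
    rw [md.map_mul a (hle ha) b (hle hb), map_add]
  let U' : Subgroup G :=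
    { carrier := {a | a ∈ ii (cj g V) ∧ φ (π a) = 0}
      mul_mem' := fun {a b} ha hb => ⟨mul_mem ha.1 hb.1, by rw [hmul a ha.1 b hb.1, ha.2, hb.2, add_zero]⟩
      one_mem' := ⟨one_mem _, by rw [md.map_one, map_zero]⟩
      inv_mem' := fun {a} ha => ⟨inv_mem ha.1, by
        have e := hmul a ha.1 a⁻¹ (inv_mem ha.1)
        rw [mul_inv_cancel, md.map_one, map_zero, ha.2, zero_add] at e
        exact e.symm⟩ }
  have hU' : U' ≤ ws V x := fun a ha => hlex ha.1
  have hxU' : x ∈ U' := ⟨hVi hx, hφ⟩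
  have hpU' : p ∈ U' := ⟨hVi hp, by rw [md.map_p h hpc, map_zero]⟩
  have ha0x : a0 ∈ ws V x := hlex ha0
  have hnot : a0 ∉ U' ⊔ nn (ws V x) (kq V x) := by
    intro hmem
    obtain ⟨a, ha, b, hb, e⟩ := NO3S.Dual.mem_sup_of_comm (h.ws_comm hxc) hU'
      (inf_le_left : nn (ws V x) (kq V x) ≤ ws V x) hmem
    have hbi : b ∈ ii (cj g V) := by
      have e1 : b = a⁻¹ * a0 := by rw [e]; group
      rw [e1]
      exact mul_mem (inv_mem ha.1) ha0
    have hb' := (mem_nn.1 hb).2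
    have key : ∀ k ∈ kq V x, k * b * k⁻¹ ≠ x * b := by
      intro k hk e
      rw [NO3S.Dual.conj_eq_of_comm (hb' k hk)] at e
      exact hx1 (by simpa using e.symm)
    have hbV : b ∈ cj g V := by
      by_contra hbV
      obtain ⟨k, hk, -, hkb⟩ := h.fu_cj hbi hbV hx hx1
      exact key k hk hkb
    have hbU : b ∈ U' := by
      by_cases hb1 : b = 1
      · rw [hb1]; exact one_mem _
      by_cases hbx : b = x
      · rw [hbx]; exact hxU'
      obtain ⟨k, hk, -, hkm⟩ := h.mover_cj hx hx1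
      exact absurd (hkm b hbV hb1 hbx) (key k hk)
    have : a0 ∈ U' := by rw [e]; exact mul_mem ha hbU
    exact hφ0 this.2
  obtain ⟨k, -, hkU, hka⟩ := (h.dw hxc).exists_mover hU' ha0x hnot
  have hkp : k ∈ centralizer ({p} : Set G) := by
    rw [mem_centralizer_singleton_iff]
    exact hkU p hpU'
  have hfix : ∀ a ∈ U', (⟨k, hkp⟩ : centralizer ({p} : Set G)) • π a = π a := by
    intro a ha
    rw [← md.smul ⟨k, hkp⟩ a (hle ha.1)]
    congr 1
    exact NO3S.Dual.conj_eq_of_comm (hkU a ha)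
  refine ⟨⟨k, hkp⟩, hfix x hxU', fun u hu => ?_⟩
  obtain ⟨a, ha, rfl⟩ := (hU u).1 hu
  refine ⟨fun h1 => hfix a ⟨ha, h1⟩, fun h1 => ?_⟩
  have hz : ∀ t : ZMod 2, t ≠ 0 → t = 1 := by decide
  have hb : a0⁻¹ * a ∈ U' := by
    refine ⟨mul_mem (inv_mem ha0) ha, ?_⟩
    have e0 : a0⁻¹ = a0 := inv_eq_of_mul_eq_one_left (h.ws_sq hxc a0 ha0x)
    rw [e0, hmul a0 ha0 a ha, hz _ hφ0, hz _ h1]
    decide
  rw [← md.smul ⟨k, hkp⟩ a (hle ha), ← add_comm, ← md.map_mul x hxw a (hle ha)]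
  congr 1
  change k * a * k⁻¹ = x * a
  have e1 : k * (a0⁻¹ * a) * k⁻¹ = a0⁻¹ * a := NO3S.Dual.conj_eq_of_comm (hkU _ hb)
  calc k * a * k⁻¹ = (k * a0 * k⁻¹) * (k * (a0⁻¹ * a) * k⁻¹) := by group
    _ = x * a := by rw [hka, e1]; group

/-- **the instance of `One.Sys`**: the image of `C(p)` on `M_p` -/
theorem sys [Finite G] [Finite M] (h : Fr T V z) (hpc : ∃ x, Col V p x ∧ x ≠ p) (md : Md V p π)
    (hno : NoHP V p π) : One.Sys (Im (centralizer ({p} : Set G)) M) (LamS V p π) (UU V p π) := by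
  obtain ⟨x0, hx0, hx0p⟩ := hpc
  have hpp := hx0.left
  have hred := redM_md h md hx0 hx0p
  have two := md.two h hpp
  have hcol : ∀ (c : centralizer ({p} : Set G)) {x : G}, Col V p x → x ≠ p →
      Col V p ((c : G) * x * (c : G)⁻¹) ∧ (c : G) * x * (c : G)⁻¹ ≠ p ∧ π ((c : G) * x * (c : G)⁻¹) = c • π x := by
    intro c x hx hxp
    have hc : (c : G) * p = p * c := mem_centralizer_singleton_iff.1 c.2
    have e0 : (c : G) * p * (c : G)⁻¹ = p := NO3S.Dual.conj_eq_of_comm hc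
    refine ⟨?_, ?_, md.smul c x (h.mem_ws_of_col hx)⟩
    · have := hx.conj (c : G)
      rwa [e0] at this
    · intro e
      apply hxp
      calc x = (c : G)⁻¹ * ((c : G) * x * (c : G)⁻¹) * c := by group
        _ = p := by rw [e, mul_assoc, ← hc]; group
  refine ⟨two, fun k hk => ?_, ?_, ?_, ?_, ?_, ?_, ?_, ?_⟩
  · exact Subtype.ext (Equiv.ext fun m => hk m)
  · rintro ⟨x, hx, hxp, e⟩
    exact md.pt_ne_zero h hx hxp e
  · rintro k ν ⟨x, hx, hxp, rfl⟩
    obtain ⟨c, rfl⟩ := toIm_surj k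
    obtain ⟨h1, h2, h3⟩ := hcol c hx hxp
    exact ⟨_, h1, h2, h3⟩
  · rintro ν ⟨x, ⟨g, hp, hx, hp1, hx1⟩, hxp, rfl⟩
    rw [mem_UU h md hp hp1 hx hx1 hxp]
    refine ⟨x, ?_, rfl⟩
    intro r hr hr1
    rw [ws_cj]
    exact h.line_le_ws hr hx
  · rintro k ν u ⟨x, ⟨g, hp, hx, hp1, hx1⟩, hxp, rfl⟩ hu
    obtain ⟨c, rfl⟩ := toIm_surj k
    rw [mem_UU h md hp hp1 hx hx1 hxp] at hu
    obtain ⟨a, ha, rfl⟩ := hu
    have hcx : Col V p x := ⟨g, hp, hx, hp1, hx1⟩
    obtain ⟨h1, h2, h3⟩ := hcol c hcx hxp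
    have hc : (c : G) * p = p * c := mem_centralizer_singleton_iff.1 c.2
    have e0 : (c : G) * p * (c : G)⁻¹ = p := NO3S.Dual.conj_eq_of_comm hc
    have f1 : p ∈ cj ((c : G) * g) V := by
      rw [← cj_cj]
      have := conj_mem_cj (g := (c : G)) hp
      rwa [e0] at this
    have f2 : (c : G) * x * (c : G)⁻¹ ∈ cj ((c : G) * g) V := by
      rw [← cj_cj]
      exact conj_mem_cj hx
    rw [toIm_smul, toIm_smul, ← h3, mem_UU h md f1 hp1 f2 h1.right.ne_one h2]
    have hle := h.ii_cj_le hp hp1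
    refine ⟨(c : G) * a * (c : G)⁻¹, ?_, md.smul c a (hle ha)⟩
    have f3 : a ∈ ws V p := hle ha
    have f4 : a ∈ ws V x := h.ii_cj_le hx hx1 ha
    refine h.mem_ii_cj f1 hp1 f2 h1.right.ne_one h2 ?_ ?_
    · have := conj_mem_ws (c : G) f3
      rwa [e0] at this
    · exact conj_mem_ws (c : G) f4
  · rintro ν ⟨x, ⟨g, hp, hx, hp1, hx1⟩, hxp, rfl⟩ φ hφ
    obtain ⟨k, hk1, hk2⟩ := f2_functional h md hp hp1 hx hx1 (mem_UU h md hp hp1 hx hx1 hxp) φ hφ
    exact ⟨toIm k, hk1, hk2⟩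
  · rintro ν ⟨x, ⟨g, hp, hx, hp1, hx1⟩, hxp, rfl⟩ A hA
    have h1 := hno g x (UU V p π (π x)) hp hp1 hx hx1 hxp (mem_UU h md hp hp1 hx hx1 hxp) (A.comap toIm)
      fun b hb => hA hb
    have h2 : kerM (centralizer ({p} : Set G)) M = (toIm : centralizer ({p} : Set G) →* Im _ M).ker := by
      ext c
      rw [mem_kerM, MonoidHom.mem_ker]
      constructor
      · exact fun hc => Subtype.ext (Equiv.ext hc)
      · intro hc m
        rw [← toIm_smul, hc, one_smul]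
    have h3 : (A.comap (toIm : centralizer ({p} : Set G) →* Im _ M)).map toIm = A :=
      map_comap_eq_self_of_surjective (fun y => toIm_surj y) A
    rw [h2, relIndex_ker, h3] at h1
    have h4 : One.cv M (A.comap (toIm : centralizer ({p} : Set G) →* Im _ M)) = One.cv M A := by
      ext m
      constructor
      · intro hm a ha
        obtain ⟨c, rfl⟩ := toIm_surj a
        exact hm c ha
      · exact fun hm c hc => hm (toIm c) hc
    rwa [h4] at h1
  · rintro ν - f hf hf1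
    obtain ⟨c, rfl⟩ := toIm_surj f
    have e1 : ∀ m : M, c • c • m = m := by
      intro m
      have h1 := One.sub_mul hf hf m
      rw [two, sub_eq_zero, mul_smul] at h1
      exact h1
    have e2 : ∃ m : M, c • m ≠ m := by
      by_contra hcon
      push Not at hcon
      exact hf1 (Subtype.ext (Equiv.ext hcon))
    obtain ⟨k, hk⟩ := exists_inv hred e1 e2
    refine ⟨toIm k, ?_, ?_, ?_⟩
    · intro e
      obtain ⟨m, hm⟩ := hk.ne
      apply hm
      rw [← toIm_smul, e, one_smul]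
    · obtain ⟨j, hj, hj'⟩ := hk.odd
      have h1 : (toIm k : Im (centralizer ({p} : Set G)) M) ^ j = 1 := by
        rw [← map_pow]
        exact Subtype.ext (Equiv.ext hj')
      exact Odd.of_dvd_nat hj (orderOf_dvd_of_pow_eq_one h1)
    · rw [← map_inv, ← map_inv, ← map_mul, ← map_mul]
      exact Subtype.ext (Equiv.ext hk.inv)

/-! ### Goal pairs -/

namespace St

variable {m : ℕ} {y : ℕ → G} [DistribMulAction (centralizer ({y 0} : Set G)) M] {π : G → M}
  (s : St T V z m y π)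
include s

/-- the image `A` of `W_q` in the image of `C(p)` -/
def AA (_ : St T V z m y π) : Subgroup (Im (centralizer ({y 0} : Set G)) M) :=
  ((ws V (y (m + 3))).subgroupOf (centralizer ({y 0} : Set G))).map toIm

theorem mem_AA {a : Im (centralizer ({y 0} : Set G)) M} :
    a ∈ s.AA ↔ ∃ t : centralizer ({y 0} : Set G), (t : G) ∈ ws V (y (m + 3)) ∧ toIm t = a := by
  unfold AA
  rw [mem_map]
  exact Iff.rfl

theorem finM [Finite G] : Finite M := by
  refine Finite.of_surjective (fun a : ws V (y 0) => π a) fun m => ?_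
  obtain ⟨a, ha, e⟩ := s.md.surj m
  exact ⟨⟨a, ha⟩, e⟩

theorem AA_le [Finite G] (hp : y 0 ∈ cj g V) (hx : y 1 ∈ cj g V) {U : AddSubgroup M}
    (hU : ∀ m, m ∈ U ↔ ∃ a ∈ ii (cj g V), π a = m) : s.AA ≤ One.bb U := by
  intro a ha
  obtain ⟨t, ht, rfl⟩ := s.mem_AA.1 ha
  have hp1 : y 0 ≠ 1 := s.hp.ne_one
  have hx1 : y 1 ≠ 1 := s.gg.col0.right.ne_one
  refine ⟨fun u hu => Md.fix_U s.fr s.md hp hx hx1 hU s.com1 ht hp1 hu, fun v => ?_⟩
  obtain ⟨w, hw, rfl⟩ := s.md.surj v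
  have hc : (t : G) * w * (t : G)⁻¹ ∈ ws V (y 0) := conj_mem_ws_of_mem t.2 hw
  rw [toIm_smul, ← s.md.smul t w hw, s.sub_eq, ← s.md.map_mul _ hc _ hw, hU]
  have e : (t : G) * w * (t : G)⁻¹ * w = (w * t * w⁻¹ * (t : G)⁻¹)⁻¹ := by
    have e1 : w⁻¹ = w := inv_eq_of_mul_eq_one_left (s.fr.ws_sq s.hp w hw)
    rw [mul_inv_rev, mul_inv_rev, mul_inv_rev, inv_inv, inv_inv, e1]
    group
  refine ⟨_, ?_, rfl⟩
  refine s.fr.mem_ii_cj hp hp1 hx hx1 s.ne1 (mul_mem hc hw) ?_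
  rw [e]
  exact inv_mem (s.gg.le w hw t ht)

/-- exactness: `|A| |C_M(A)| = |M|` -/
theorem card_AA [Finite G] : Nat.card s.AA * Nat.card (One.cv M s.AA) = Nat.card M := by
  have hfin := s.finM
  have hex := s.gg.exact s.fr s.no
  -- `|A| = |W_q : E'|`
  have h1 : Nat.card s.AA = (ee V (y (m + 3)) (y 0)).relIndex (ws V (y (m + 3))) := by
    unfold AA
    rw [← relIndex_ker, ← relIndex_subgroupOf s.wq_le, ← inf_relIndex_right, ← inf_relIndex_right
      ((ee V (y (m + 3)) (y 0)).subgroupOf (centralizer ({y 0} : Set G)))]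
    congr 1
    ext t
    rw [mem_inf, mem_inf, MonoidHom.mem_ker, mem_subgroupOf, mem_subgroupOf]
    refine and_congr_left fun ht => ?_
    constructor
    · intro hk
      refine hex.kq _ ht ((s.md.mem_kq_iff s.fr s.hp t).2 fun v => ?_)
      rw [← toIm_smul, hk, one_smul]
    · intro hk
      refine Subtype.ext (Equiv.ext fun v => ?_)
      obtain ⟨w, hw, rfl⟩ := s.md.surj v
      change t • π w = π w
      rw [← s.md.smul t w hw]
      congr 1
      exact NO3S.Dual.conj_eq_of_comm ((mem_ee.1 hk).2 w hw)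
  -- `|M : C_M(A)| = |W_p : E|`
  have h2 : (One.cv M s.AA).index = (ee V (y 0) (y (m + 3))).relIndex (ws V (y 0)) := by
    refine s.md.index_eq_relIndex fun w hw => ?_
    constructor
    · intro hc
      refine hex.cent w hw fun b hb => ?_
      have hb' : b ∈ centralizer ({y 0} : Set G) := s.wq_le hb
      have h3 := hc (toIm ⟨b, hb'⟩) (s.mem_AA.2 ⟨⟨b, hb'⟩, hb, rfl⟩)
      rw [toIm_smul, ← s.md.smul ⟨b, hb'⟩ w hw, s.md.eq_iff s.fr s.hp (conj_mem_ws_of_mem hb' hw) hw] at h3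
      rw [mem_zpowers_iff_of_mul_self (s.fr.pt_sq s.hp)]
      rcases h3 with e | e
      · left
        change b * w * b⁻¹ = w at e
        rw [e, mul_inv_cancel]
      · right
        change b * w * b⁻¹ = y 0 * w at e
        rw [e, mul_inv_cancel_right]
    · intro hc a ha
      obtain ⟨t, ht, rfl⟩ := s.mem_AA.1 ha
      rw [toIm_smul, ← s.md.smul t w hw]
      congr 1
      exact NO3S.Dual.conj_eq_of_comm ((mem_ee.1 hc).2 t ht).symm
  rw [h1, ← hex.card, ← h2, mul_comm]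
  exact AddSubgroup.card_mul_index _

/-- `[M, A]` is the image of `[W_p, W_q]` -/
theorem exists_of_cm [Finite G] {r : M} (hr : r ∈ One.cm M s.AA) :
    ∃ e ∈ NO3S.TwoMid.rr V (y 0) (y (m + 3)), e ∈ ws V (y 0) ∧ π e = r := by
  have hpp := s.hp
  let D : AddSubgroup M :=
    { carrier := {v | ∃ e ∈ NO3S.TwoMid.rr V (y 0) (y (m + 3)), e ∈ ws V (y 0) ∧ π e = v}
      add_mem' := by
        rintro _ _ ⟨a, ha, ha', rfl⟩ ⟨b, hb, hb', rfl⟩
        exact ⟨a * b, mul_mem ha hb, mul_mem ha' hb', s.md.map_mul a ha' b hb'⟩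
      zero_mem' := ⟨1, one_mem _, one_mem _, s.md.map_one⟩
      neg_mem' := by
        rintro _ ⟨a, ha, ha', rfl⟩
        exact ⟨a, ha, ha', (s.md.neg_eq s.fr hpp _).symm⟩ }
  have h1 : One.cm M s.AA ≤ D := by
    refine One.cm_le fun a ha v => ?_
    obtain ⟨t, ht, rfl⟩ := s.mem_AA.1 ha
    obtain ⟨w, hw, rfl⟩ := s.md.surj v
    have hc : (t : G) * w * (t : G)⁻¹ ∈ ws V (y 0) := conj_mem_ws_of_mem t.2 hw
    have e : (t : G) * w * (t : G)⁻¹ * w = (w * t * w⁻¹ * (t : G)⁻¹)⁻¹ := by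
      have e1 : w⁻¹ = w := inv_eq_of_mul_eq_one_left (s.fr.ws_sq s.hp w hw)
      rw [mul_inv_rev, mul_inv_rev, mul_inv_rev, inv_inv, inv_inv, e1]
      group
    refine ⟨(t : G) * w * (t : G)⁻¹ * w, ?_, mul_mem hc hw, ?_⟩
    · rw [e]
      exact inv_mem (NO3S.TwoMid.comm_mem_rr hw ht)
    · rw [toIm_smul, ← s.md.smul t w hw, s.sub_eq, ← s.md.map_mul _ hc _ hw]
  exact h1 hr

/-- **THEOREM ONE for goal pairs**: if `R = [W_p, W_q]` contains no point `∼ p`, some `t ∈ W_q` is a transvection of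
`M_p` with centre `c ∈ U_λ`, `c ∉ λ^H`. -/
theorem exists_tr [Finite G] (hno : NoHP V (y 0) π)
    (free : ∀ e ∈ NO3S.TwoMid.rr V (y 0) (y (m + 3)), ¬ Col V (y 0) e) (hp : y 0 ∈ cj g V) (hx : y 1 ∈ cj g V)
    {U : AddSubgroup M} (hU : ∀ m, m ∈ U ↔ ∃ a ∈ ii (cj g V), π a = m) :
    ∃ (t : centralizer ({y 0} : Set G)) (c : M), (t : G) ∈ ws V (y (m + 3)) ∧ Tr c t ∧ c ∈ U ∧
      ∀ g : centralizer ({y 0} : Set G), g • π (y 1) ≠ c := by
  have hfin := s.finM
  have hp1 : y 0 ≠ 1 := s.hp.ne_one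
  have hx1 : y 1 ≠ 1 := s.gg.col0.right.ne_one
  have S := sys s.fr ⟨y 1, s.gg.col0, s.ne1⟩ s.md hno
  have hlam : π (y 1) ∈ LamS V (y 0) π := ⟨y 1, s.gg.col0, s.ne1, rfl⟩
  have hUU := mem_UU s.fr s.md hp hp1 hx hx1 s.ne1
  have hAle : s.AA ≤ One.bb (UU V (y 0) π (π (y 1))) := s.AA_le hp hx hUU
  have hUeq : UU V (y 0) π (π (y 1)) = U := by
    ext v
    rw [hUU, hU]
  have hAne : s.AA ≠ ⊥ := by
    intro e
    apply s.gg.cr.ne
    intro a ha b hb
    by_contra hcon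
    have hb' : b ∈ centralizer ({y 0} : Set G) := s.wq_le hb
    obtain ⟨v, hv⟩ := s.moves_of_not_mem (f := ⟨b, hb'⟩) hb (by
      rw [mem_centralizer_iff]
      exact fun h => hcon (h a ha))
    apply hv
    have h1 : toIm (⟨b, hb'⟩ : centralizer ({y 0} : Set G)) ∈ s.AA := s.mem_AA.2 ⟨⟨b, hb'⟩, hb, rfl⟩
    rw [e, mem_bot] at h1
    rw [← toIm_smul, h1, one_smul]
  -- a minimal exact subgroup
  obtain ⟨A1, ⟨hA1, hA1b, hA1e⟩, hmin⟩ := (Set.toFinite {B : Subgroup (Im (centralizer ({y 0} : Set G)) M) |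
    B ≤ s.AA ∧ B ≠ ⊥ ∧ Nat.card B * Nat.card (One.cv M B) = Nat.card M}).exists_minimal
      ⟨s.AA, le_rfl, hAne, s.card_AA⟩
  have me : One.ME (UU V (y 0) π) (π (y 1)) A1 := by
    refine ⟨hA1.trans hAle, hA1b, hA1e, fun B hB h1 h2 => ?_⟩
    refine lt_of_le_of_ne (S.no hlam B (hB.trans (hA1.trans hAle))) fun h3 => ?_
    exact h2 (le_antisymm hB (hmin ⟨hB.trans hA1, h1, h3⟩ hB))
  have hfree : ∀ r ∈ One.cm M A1, r ∉ LamS V (y 0) π := by
    rintro r hr ⟨x, hxc, hxp, rfl⟩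
    obtain ⟨e, he, hew, h1⟩ := s.exists_of_cm (One.cm_mono hA1 hr)
    have hxw := s.fr.mem_ws_of_col hxc
    apply free e he
    rcases (s.md.eq_iff s.fr s.hp hew hxw).1 h1 with e1 | e1
    · rw [e1]; exact hxc
    · obtain ⟨g', f1, f2, f3, f4⟩ := id hxc
      rw [e1]
      refine ⟨g', f1, mul_mem f1 f2, f3, fun e2 => hxp ?_⟩
      calc x = y 0 * y 0 * x := by rw [s.fr.pt_sq s.hp, one_mul]
        _ = y 0 := by rw [mul_assoc, e2, mul_one]
  obtain ⟨f, hfA, hf1, -, c, -, hc0, hcU, hcL, hfc⟩ := One.one' S hlam me hfree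
  obtain ⟨t, ht, rfl⟩ := s.mem_AA.1 (hA1 hfA)
  refine ⟨t, c, ht, ⟨hfc, ?_⟩, hUeq ▸ hcU, fun k hk => hcL ?_⟩
  · by_contra hcon
    push Not at hcon
    exact hf1 (Subtype.ext (Equiv.ext hcon))
  · rw [← hk]
    exact S.smul (toIm k) hlam

end St

end Cfsg.Agent.Omega.NOThree.LL
end
end

-- part: Mrg/Omega/NO3S/Far/Flag
section
prune_inst 0xc01000001022000000000000000022000000000000230001e140000001000101a04507001040120011002a30200a8000021000490038000020008a0000000000040020c09008100001000040c801180c00000000000000000000000000000000000000000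
set_option linter.all false
open scoped Cfsg.Agent.FastGrp


/-!
# NO-3S, `q = 2`: flags `(z, V)`, `|V| = 4`, `W_z` abelian, (F1)

`Ab T V z` : `CaseL.Ln T V z` (flag with common Sylow 2-subgroup `T`), `W_z = ws V z` abelian and (F1): some element of
`K_z = kq V z` moves `V`.  No hypothesis on the critical distance (`TwoOne.One` without the field `nc`).

* `Ab.point`, `Ab.line` : every point `p` of every line `g V g⁻¹` is as good as `z`;
* `Ab.mem_ii` : `ii V` is the intersection of any two of the `W_p`, `p ∈ V#`;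
* `Ab.fu` (FU) : for `u ∈ ii V`, `u ∉ V` and every point `p` of `V` some `k ∈ K_p ∩ C_G(V)` has `k u k⁻¹ = p u`;
* `Ab.ftwo` (F2) : `N_G(V) ∩ C_G(u)` is transitive on the points of `V`;
* `Ab.mem_V_of_comm` (L1) : an element of `ii V` centralised by `T ∩ C_G(V)` lies in `V`.
-/

set_option autoImplicit false
set_option linter.unusedSectionVars false

namespace Cfsg.Agent.Omega.NO3S.Far

open Subgroup Cfsg Cfsg.Agent.ZN Cfsg.Agent.MinSimple.Geo Cfsg.Agent.Omega.CaseL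
open Cfsg.Agent.Omega.NO3S.TwoOne (kq_le_centralizer kq_comm cj_kq conj_mem_kq centralizer_le_normalizer_kq
  kq_cj ws_sq ii ii_le normalizer_le_normalizer_ii)
open Cfsg.Agent.ZN.Block (conj_mem_of_normalizer conj_mem_of_normalizer' le_normalizer_of_forall
  mem_normalizer_of)

universe u

variable {G : Type u} [Group G]

/-- a flag with `W_z` abelian and (F1) -/
structure Ab (T V : Subgroup G) (z : G) : Prop where
  ln : Ln T V z
  ab : ∀ a ∈ ws V z, ∀ b ∈ ws V z, a * b = b * a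
  f1 : ∃ k ∈ kq V z, k ∉ centralizer (V : Set G)

namespace Ab

variable {T V : Subgroup G} {z : G}

theorem conj (h : Ab T V z) (g : G) : Ab (cj g T) (cj g V) (g * z * g⁻¹) where
  ln := h.ln.conj g
  ab := by
    rw [ws_cj, ← cj_ws]
    intro a ha b hb
    have := h.ab _ (mem_of_cj ha) _ (mem_of_cj hb)
    calc a * b = g * ((g⁻¹ * a * g) * (g⁻¹ * b * g)) * g⁻¹ := by group
      _ = g * ((g⁻¹ * b * g) * (g⁻¹ * a * g)) * g⁻¹ := by rw [this]
      _ = b * a := by group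
  f1 := by
    obtain ⟨k, hk, hk1⟩ := h.f1
    refine ⟨g * k * g⁻¹, ?_, ?_⟩
    · rw [kq_cj]; exact conj_mem_kq g hk
    · intro e
      apply hk1
      rw [mem_centralizer_iff] at e ⊢
      intro v hv
      have := e _ (conj_mem_cj hv)
      calc v * k = g⁻¹ * ((g * v * g⁻¹) * (g * k * g⁻¹)) * g := by group
        _ = g⁻¹ * ((g * k * g⁻¹) * (g * v * g⁻¹)) * g := by rw [this]
        _ = k * v := by group

theorem point (h : Ab T V z) {p : G} (hp : p ∈ V) (hp1 : p ≠ 1) :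
    ∃ g ∈ normalizer (V : Set G), g * z * g⁻¹ = p ∧ Ab (cj g T) V p := by
  obtain ⟨g, hg, rfl⟩ := h.ln.trans p hp hp1
  refine ⟨g, hg, rfl, ?_⟩
  have := h.conj g
  rwa [cj_eq_of_mem_normalizer hg] at this

theorem sqz (h : Ab T V z) : ∀ a ∈ ws V z, a * a = 1 := ws_sq h.ln h.ab

/-! ### all points of `V` -/

section points

variable {p q : G}

theorem sq (h : Ab T V z) (hp : p ∈ V) (hp1 : p ≠ 1) : ∀ a ∈ ws V p, a * a = 1 := by
  obtain ⟨g, -, -, hg⟩ := h.point hp hp1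
  exact hg.sqz

theorem comm (h : Ab T V z) (hp : p ∈ V) (hp1 : p ≠ 1) : ∀ a ∈ ws V p, ∀ b ∈ ws V p, a * b = b * a := by
  obtain ⟨g, -, -, hg⟩ := h.point hp hp1
  exact hg.ab

theorem V_le (h : Ab T V z) (hp : p ∈ V) (hp1 : p ≠ 1) : V ≤ ws V p := by
  obtain ⟨g, -, -, hg⟩ := h.point hp hp1
  exact hg.ln.V_le_ws

theorem ws_le_centralizer_V (h : Ab T V z) (hp : p ∈ V) (hp1 : p ≠ 1) :
    ws V p ≤ centralizer (V : Set G) := by
  intro a ha
  rw [mem_centralizer_iff]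
  intro v hv
  exact h.comm hp hp1 v (h.V_le hp hp1 hv) a ha

theorem V_comm (_ : Ab T V z) {v c : G} (hv : v ∈ V) (hc : c ∈ centralizer (V : Set G)) :
    v * c = c * v := mem_centralizer_iff.mp hc v hv

theorem cent_le_centralizer (_ : Ab T V z) (hp : p ∈ V) :
    centralizer (V : Set G) ≤ centralizer ({p} : Set G) := by
  intro c hc
  rw [mem_centralizer_singleton_iff]
  exact (mem_centralizer_iff.mp hc p hp).symm

/-- `C_G(V)` normalizes `W_p` -/
theorem cent_norm (h : Ab T V z) (hp : p ∈ V) :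
    centralizer (V : Set G) ≤ normalizer ((ws V p : Subgroup G) : Set G) :=
  (h.cent_le_centralizer hp).trans (centralizer_le_normalizer_ws V p)

theorem mul_ne_one (h : Ab T V z) (hq : q ∈ V) (hpq : p ≠ q) : p * q ≠ 1 := fun e =>
  hpq (by rw [mul_eq_one_iff_eq_inv.mp e, h.ln.inv_eq hq])

theorem mem_centralizer_of (h : Ab T V z) (hp : p ∈ V) (hp1 : p ≠ 1) (hq : q ∈ V) (hq1 : q ≠ 1)
    (hqp : q ≠ p) {g : G} (h1 : g * p = p * g) (h2 : g * q = q * g) :
    g ∈ centralizer (V : Set G) := by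
  obtain ⟨g, -, -, hg⟩ := h.point hp hp1
  exact hg.ln.mem_centralizer_V hq hq1 hqp h1 h2

theorem exists_q (h : Ab T V z) (hp : p ∈ V) (hp1 : p ≠ 1) : ∃ q ∈ V, q ≠ 1 ∧ q ≠ p := by
  obtain ⟨g, -, -, hg⟩ := h.point hp hp1
  exact hg.ln.exists_y

/-- elements of `K_p` act on `W_p` by multiplication with `1` or `p` -/
theorem kq_cases (h : Ab T V z) (hp : p ∈ V) {k w : G} (hk : k ∈ kq V p) (hw : w ∈ ws V p) :
    k * w * k⁻¹ = w ∨ k * w * k⁻¹ = p * w := by
  rcases (mem_zpowers_iff_of_mul_self (h.ln.sq p hp)).mp (kq_comm hk hw) with e | e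
  · left
    calc k * w * k⁻¹ = (k * w * k⁻¹ * w⁻¹) * w := by group
      _ = w := by rw [e, one_mul]
  · right
    calc k * w * k⁻¹ = (k * w * k⁻¹ * w⁻¹) * w := by group
      _ = p * w := by rw [e]

theorem kq_p (_ : Ab T V z) {k : G} (hk : k ∈ kq V p) : k * p = p * k :=
  mem_centralizer_singleton_iff.mp (kq_le_centralizer V p hk)

/-- `K_p` normalizes `V` -/
theorem kq_le_normalizer (h : Ab T V z) (hp : p ∈ V) (hp1 : p ≠ 1) :
    kq V p ≤ normalizer (V : Set G) := by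
  refine le_normalizer_of_forall fun k hk v hv => ?_
  rcases h.kq_cases hp hk (h.V_le hp hp1 hv) with e | e
  · rw [e]; exact hv
  · rw [e]; exact mul_mem hp hv

/-- (F1) at every point -/
theorem exists_mover (h : Ab T V z) (hp : p ∈ V) (hp1 : p ≠ 1) :
    ∃ k ∈ kq V p, k ∉ centralizer (V : Set G) := by
  obtain ⟨g, -, -, hg⟩ := h.point hp hp1
  exact hg.f1

/-- a mover of `K_p` moves the points `q ≠ p` to `p q` -/
theorem move (h : Ab T V z) (hp : p ∈ V) (hp1 : p ≠ 1) (hq : q ∈ V) (hq1 : q ≠ 1) (hqp : q ≠ p)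
    {k : G} (hk : k ∈ kq V p) (hk1 : k ∉ centralizer (V : Set G)) : k * q * k⁻¹ = p * q := by
  rcases h.kq_cases hp hk (h.V_le hp hp1 hq) with e | e
  · exfalso
    exact hk1 (h.mem_centralizer_of hp hp1 hq hq1 hqp (h.kq_p hk) (comm_of_conj_eq e))
  · exact e

/-- the movers of `K_p` form one coset of `K_p ∩ C_G(V)` -/
theorem mover_coset (h : Ab T V z) (hp : p ∈ V) (hp1 : p ≠ 1) {k k' : G} (hk : k ∈ kq V p)
    (hk1 : k ∉ centralizer (V : Set G)) (hk' : k' ∈ kq V p) (hk1' : k' ∉ centralizer (V : Set G)) :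
    k' * k⁻¹ ∈ centralizer (V : Set G) := by
  obtain ⟨q, hq, hq1, hqp⟩ := h.exists_q hp hp1
  refine h.mem_centralizer_of hp hp1 (mul_mem hp hq) (h.mul_ne_one hq (Ne.symm hqp)) ?_ ?_ ?_
  · intro e'
    exact hq1 (by simpa using e')
  · exact mul_comm_of (h.kq_p hk') (inv_comm_of (h.kq_p hk))
  · refine comm_of_conj_eq ?_
    have e1 := h.move hp hp1 hq hq1 hqp hk hk1
    have e2 := h.move hp hp1 hq hq1 hqp hk' hk1'
    calc k' * k⁻¹ * (p * q) * (k' * k⁻¹)⁻¹ = k' * (k⁻¹ * (p * q) * k) * k'⁻¹ := by group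
      _ = k' * (k⁻¹ * (k * q * k⁻¹) * k) * k'⁻¹ := by rw [e1]
      _ = k' * q * k'⁻¹ := by group
      _ = p * q := e2

end points

end Ab

namespace Ab

variable {T V : Subgroup G} {z : G}

theorem V_le_ii (h : Ab T V z) : V ≤ ii V := fun _ hv _ hp hp1 => h.V_le hp hp1 hv

theorem ii_le_centralizer (h : Ab T V z) : ii V ≤ centralizer (V : Set G) :=
  (ii_le h.ln.z_mem h.ln.z_ne).trans (h.ws_le_centralizer_V h.ln.z_mem h.ln.z_ne)

/-- `ii V` is the intersection of any two of the `W_p`. -/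
theorem mem_ii (h : Ab T V z) {p q u : G} (hp : p ∈ V) (hp1 : p ≠ 1) (hq : q ∈ V) (hq1 : q ≠ 1)
    (hqp : q ≠ p) (h1 : u ∈ ws V p) (h2 : u ∈ ws V q) : u ∈ ii V := by
  intro r hr hr1
  obtain ⟨g, -, -, hg⟩ := h.point hp hp1
  rcases hg.ln.four hp hq hp1 hq1 (Ne.symm hqp) hr with e | e | e | e
  · exact absurd e hr1
  · rw [e]; exact h1
  · rw [e]; exact h2
  · obtain ⟨k, hk, hk1⟩ := h.exists_mover hp hp1
    have e1 := h.move hp hp1 hq hq1 hqp hk hk1
    have h3 := conj_mem_ws k h2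
    rw [e1, ← e] at h3
    rcases h.kq_cases hp hk h1 with e2 | e2
    · rwa [e2] at h3
    · rw [e2] at h3
      have h4 := mul_mem (h.V_le hr hr1 hp) h3
      rwa [← mul_assoc, h.ln.sq p hp, one_mul] at h4

/-- the fixed points of all `K_p` on `ii V` are trivial -/
theorem fix_triv [Finite G] (h : Ab T V z) {u : G} (hu : u ∈ ii V)
    (hf : ∀ p ∈ V, p ≠ 1 → ∀ k ∈ kq V p, k * u = u * k) : u = 1 := by
  let D : Subgroup G :=
    { carrier := {d | d ∈ ii V ∧ ∀ p ∈ V, p ≠ 1 → ∀ k ∈ kq V p, k * d = d * k}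
      mul_mem' := by
        rintro a b ⟨ha, ha1⟩ ⟨hb, hb1⟩
        exact ⟨mul_mem ha hb, fun p hp hp1 k hk => comm_mul_of (ha1 p hp hp1 k hk) (hb1 p hp hp1 k hk)⟩
      one_mem' := ⟨one_mem _, fun p hp hp1 k hk => by simp⟩
      inv_mem' := by
        rintro a ⟨ha, ha1⟩
        exact ⟨inv_mem ha, fun p hp hp1 k hk => comm_inv_of (ha1 p hp hp1 k hk)⟩ }
  have hDn : D ≤ normalizer (V : Set G) := fun d hd =>
    centralizer_le_normalizer _ (h.ii_le_centralizer hd.1)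
  have hN : normalizer (V : Set G) ≤ normalizer (D : Set G) := by
    refine le_normalizer_of_forall fun g hg d hd => ?_
    refine ⟨conj_mem_of_normalizer (normalizer_le_normalizer_ii V) hg hd.1, fun p hp hp1 k hk => ?_⟩
    have hp' : g⁻¹ * p * g ∈ V := (mem_normalizer_iff''.mp hg p).mp hp
    have hp1' : g⁻¹ * p * g ≠ 1 := fun e => hp1 (by
      have : p = g * (g⁻¹ * p * g) * g⁻¹ := by group
      rw [this, e]; group)
    have hk' : g⁻¹ * k * g ∈ kq V (g⁻¹ * p * g) := by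
      have := conj_mem_kq g⁻¹ hk
      rwa [inv_inv] at this
    have := hd.2 _ hp' hp1' _ hk'
    calc k * (g * d * g⁻¹) = g * ((g⁻¹ * k * g) * d) * g⁻¹ := by group
      _ = g * (d * (g⁻¹ * k * g)) * g⁻¹ := by rw [this]
      _ = g * d * g⁻¹ * k := by group
  have hD : D = ⊥ := by
    by_contra hne
    have hz := h.ln.z_mem_of_normal hDn hN hne
    obtain ⟨y, hy, hy1, hyz⟩ := h.ln.exists_y
    obtain ⟨k, hk, hk1⟩ := h.exists_mover hy hy1
    have e1 := h.move hy hy1 h.ln.z_mem h.ln.z_ne (Ne.symm hyz) hk hk1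
    have e2 := hz.2 y hy hy1 k hk
    rw [conj_eq_of_comm e2] at e1
    exact hy1 (by simpa using e1.symm)
  have : u ∈ D := ⟨hu, hf⟩
  rw [hD] at this
  exact mem_bot.mp this

/-- (FU), for some point -/
theorem fu_aux [Finite G] (h : Ab T V z) {u : G} (hu : u ∈ ii V) (huV : u ∉ V) :
    ∃ p ∈ V, p ≠ 1 ∧ ∃ k ∈ kq V p, k ∈ centralizer (V : Set G) ∧ k * u * k⁻¹ = p * u := by
  by_contra hcon
  push Not at hcon
  have hcent : ∀ p ∈ V, p ≠ 1 → ∀ k ∈ kq V p, k ∈ centralizer (V : Set G) → k * u = u * k := by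
    intro p hp hp1 k hk hkV
    rcases h.kq_cases hp hk (hu p hp hp1) with e | e
    · exact comm_of_conj_eq e
    · exact absurd e (hcon p hp hp1 k hk hkV)
  have hz := h.ln.z_mem
  have hz1 := h.ln.z_ne
  have hzz := h.ln.zz
  obtain ⟨y, hy, hy1, hyz⟩ := h.ln.exists_y
  have hyy := h.ln.sq y hy
  obtain ⟨s, hs, hs1⟩ := h.exists_mover hz hz1
  obtain ⟨t, ht, ht1⟩ := h.exists_mover hy hy1
  have hzy := h.ln.comm hz hy
  have hsy := h.move hz hz1 hy hy1 hyz hs hs1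
  have htz := h.move hy hy1 hz hz1 (Ne.symm hyz) ht ht1
  have hsz : s * z * s⁻¹ = z := conj_eq_of_comm (h.kq_p hs)
  have hty : t * y * t⁻¹ = y := conj_eq_of_comm (h.kq_p ht)
  have huc := h.ii_le_centralizer hu
  have huz := h.V_comm hz huc
  have huy := h.V_comm hy huc
  -- a point of `u V` fixed by `s` and `t`
  obtain ⟨v, hv, hsv, htv⟩ : ∃ v ∈ V, s * (v * u) * s⁻¹ = v * u ∧ t * (v * u) * t⁻¹ = v * u := by
    have es : ∀ v, s * (v * u) * s⁻¹ = (s * v * s⁻¹) * (s * u * s⁻¹) := fun v => by group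
    have et : ∀ v, t * (v * u) * t⁻¹ = (t * v * t⁻¹) * (t * u * t⁻¹) := fun v => by group
    rcases h.kq_cases hz hs (hu z hz hz1) with e1 | e1 <;>
      rcases h.kq_cases hy ht (hu y hy hy1) with e2 | e2
    · exact ⟨1, one_mem _, by simpa using e1, by simpa using e2⟩
    · -- `v = z`
      refine ⟨z, hz, ?_, ?_⟩
      · rw [es, hsz, e1]
      · rw [et, htz, e2]
        calc y * z * (y * u) = y * (z * y) * u := by group
          _ = (y * y) * (z * u) := by rw [hzy]; group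
          _ = z * u := by rw [hyy, one_mul]
    · refine ⟨y, hy, ?_, ?_⟩
      · rw [es, hsy, e1]
        calc z * y * (z * u) = z * (y * z) * u := by group
          _ = (z * z) * (y * u) := by rw [← hzy]; group
          _ = y * u := by rw [hzz, one_mul]
      · rw [et, hty, e2]
    · refine ⟨y * z, mul_mem hy hz, ?_, ?_⟩
      · have : s * (y * z) * s⁻¹ = (s * y * s⁻¹) * (s * z * s⁻¹) := by group
        rw [es, this, hsy, hsz, e1]
        calc z * y * z * (z * u) = z * y * (z * z) * u := by group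
          _ = z * y * u := by rw [hzz, mul_one]
          _ = y * z * u := by rw [hzy]
      · have : t * (y * z) * t⁻¹ = (t * y * t⁻¹) * (t * z * t⁻¹) := by group
        rw [et, this, hty, htz, e2]
        calc y * (y * z) * (y * u) = (y * y) * (z * y) * u := by group
          _ = (z * y) * u := by rw [hyy, one_mul]
          _ = y * z * u := by rw [hzy]
  set a := v * u with ha
  have hai : a ∈ ii V := mul_mem (h.V_le_ii hv) hu
  have hacent : ∀ p ∈ V, p ≠ 1 → ∀ k ∈ kq V p, k ∈ centralizer (V : Set G) → k * a = a * k :=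
    fun p hp hp1 k hk hkV => comm_mul_of (h.V_comm hv hkV).symm (hcent p hp hp1 k hk hkV)
  -- one mover which fixes `a` is enough
  have hone : ∀ p ∈ V, p ≠ 1 → ∀ m ∈ kq V p, m ∉ centralizer (V : Set G) → m * a = a * m →
      ∀ k ∈ kq V p, k * a = a * k := by
    intro p hp hp1 m hm hm1 hma k hk
    by_cases hk1 : k ∈ centralizer (V : Set G)
    · exact hacent p hp hp1 k hk hk1
    · have h1 := hacent p hp hp1 _ (mul_mem hk (inv_mem hm)) (h.mover_coset hp hp1 hm hm1 hk hk1)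
      have h2 := mul_comm_of h1 hma
      simpa using h2
  have ha1 : a = 1 := by
    refine h.fix_triv hai fun p hp hp1 => ?_
    rcases h.ln.four hz hy hz1 hy1 (Ne.symm hyz) hp with e | e | e | e
    · exact absurd e hp1
    · subst e; exact hone _ hz hz1 s hs hs1 (comm_of_conj_eq hsv)
    · subst e; exact hone _ hy hy1 t ht ht1 (comm_of_conj_eq htv)
    · have hm := conj_mem_kq s ht
      rw [hsy, ← e] at hm
      refine hone p hp hp1 (s * t * s⁻¹) hm ?_ ?_
      · intro hc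
        apply ht1
        have := conj_mem_of_normalizer' (normalizer_le_normalizer_centralizer V)
          (h.kq_le_normalizer hz hz1 hs) hc
        have e' : s⁻¹ * (s * t * s⁻¹) * s = t := by group
        rwa [e'] at this
      · have h1 := comm_of_conj_eq hsv
        have h2 := comm_of_conj_eq htv
        exact mul_comm_of (mul_comm_of h1 h2) (inv_comm_of h1)
  apply huV
  have : u = v⁻¹ * a := by rw [ha]; group
  rw [this, ha1, mul_one]
  exact inv_mem hv

/-- (FU): for `u ∈ I - V` and every point `p` some element of `K_p ∩ C_G(V)` moves `u` to `p u`. -/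
theorem fu [Finite G] (h : Ab T V z) {u : G} (hu : u ∈ ii V) (huV : u ∉ V) {p : G} (hp : p ∈ V)
    (hp1 : p ≠ 1) : ∃ k ∈ kq V p, k ∈ centralizer (V : Set G) ∧ k * u * k⁻¹ = p * u := by
  obtain ⟨q, hq, hq1, k, hk, hkV, hku⟩ := h.fu_aux hu huV
  by_cases hpq : p = q
  · subst hpq; exact ⟨k, hk, hkV, hku⟩
  have hw : p * q ∈ V := mul_mem hp hq
  have hw1 : p * q ≠ 1 := h.mul_ne_one hq hpq
  have hqw : q ≠ p * q := fun e => hp1 (by simpa using e.symm)
  obtain ⟨t, ht, ht1⟩ := h.exists_mover hw hw1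
  have e1 := h.move hw hw1 hq hq1 hqw ht ht1
  have e2 : p * q * q = p := by rw [mul_assoc, h.ln.sq q hq, mul_one]
  rw [e2] at e1
  have htn := h.kq_le_normalizer hw hw1 ht
  refine ⟨t * k * t⁻¹, ?_, conj_mem_of_normalizer (normalizer_le_normalizer_centralizer V) htn hkV, ?_⟩
  · have := conj_mem_kq t hk
    rwa [e1] at this
  · have htw : t * (p * q) * t⁻¹ = p * q := conj_eq_of_comm (h.kq_p ht)
    have huc := h.ii_le_centralizer hu
    have hkw : k * (p * q) * k⁻¹ = p * q := conj_eq_of_comm (h.V_comm hw hkV).symm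
    rcases h.kq_cases hw ht (hu _ hw hw1) with e3 | e3
    · have e4 : t⁻¹ * u * t = u := by
        calc t⁻¹ * u * t = t⁻¹ * (t * u * t⁻¹) * t := by rw [e3]
          _ = u := by group
      calc t * k * t⁻¹ * u * (t * k * t⁻¹)⁻¹ = t * (k * (t⁻¹ * u * t) * k⁻¹) * t⁻¹ := by group
        _ = t * (q * u) * t⁻¹ := by rw [e4, hku]
        _ = (t * q * t⁻¹) * (t * u * t⁻¹) := by group
        _ = p * u := by rw [e1, e3]
    · have e4 : t⁻¹ * u * t = p * q * u := by
        have h5 : t * (p * q * u) * t⁻¹ = u := by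
          calc t * (p * q * u) * t⁻¹ = (t * (p * q) * t⁻¹) * (t * u * t⁻¹) := by group
            _ = (p * q) * (p * q) * u := by rw [htw, e3]; group
            _ = u := by rw [h.ln.sq _ hw, one_mul]
        calc t⁻¹ * u * t = t⁻¹ * (t * (p * q * u) * t⁻¹) * t := by rw [h5]
          _ = p * q * u := by group
      calc t * k * t⁻¹ * u * (t * k * t⁻¹)⁻¹ = t * (k * (t⁻¹ * u * t) * k⁻¹) * t⁻¹ := by group
        _ = t * ((k * (p * q) * k⁻¹) * (k * u * k⁻¹)) * t⁻¹ := by rw [e4]; group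
        _ = t * (p * q * (q * u)) * t⁻¹ := by rw [hkw, hku]
        _ = (t * (p * q) * t⁻¹) * (t * q * t⁻¹) * (t * u * t⁻¹) := by group
        _ = (p * q) * p * (p * q * u) := by rw [htw, e1, e3]
        _ = (p * q) * (p * p) * (q * u) := by group
        _ = p * (q * q) * u := by rw [h.ln.sq p hp, mul_one]; group
        _ = p * u := by rw [h.ln.sq q hq, mul_one]

/-- (F2): for `u ∈ I - V` the group `N_G(V) ∩ C_G(u)` is transitive on the points of `V`. -/
theorem ftwo [Finite G] (h : Ab T V z) {u : G} (hu : u ∈ ii V) (huV : u ∉ V) {p q : G} (hp : p ∈ V)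
    (hp1 : p ≠ 1) (hq : q ∈ V) (hq1 : q ≠ 1) :
    ∃ g ∈ normalizer (V : Set G), g * u = u * g ∧ g * p * g⁻¹ = q := by
  by_cases hpq : p = q
  · subst hpq
    exact ⟨1, one_mem _, by simp, by simp⟩
  have hw : q * p ∈ V := mul_mem hq hp
  have hw1 : q * p ≠ 1 := h.mul_ne_one hp (Ne.symm hpq)
  have hpw : p ≠ q * p := fun e => hq1 (by simpa using e.symm)
  obtain ⟨t, ht, ht1⟩ := h.exists_mover hw hw1
  have e1 := h.move hw hw1 hp hp1 hpw ht ht1
  have e2 : q * p * p = q := by rw [mul_assoc, h.ln.sq p hp, mul_one]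
  rw [e2] at e1
  have htn := h.kq_le_normalizer hw hw1 ht
  rcases h.kq_cases hw ht (hu _ hw hw1) with e3 | e3
  · exact ⟨t, htn, comm_of_conj_eq e3, e1⟩
  · obtain ⟨k, hk, hkV, hku⟩ := h.fu hu huV hw hw1
    refine ⟨k * t, mul_mem (h.kq_le_normalizer hw hw1 hk) htn, comm_of_conj_eq ?_, ?_⟩
    · have hkw : k * (q * p) * k⁻¹ = q * p := conj_eq_of_comm (h.V_comm hw hkV).symm
      calc k * t * u * (k * t)⁻¹ = k * (t * u * t⁻¹) * k⁻¹ := by group
        _ = (k * (q * p) * k⁻¹) * (k * u * k⁻¹) := by rw [e3]; group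
        _ = (q * p) * (q * p) * u := by rw [hkw, hku]; group
        _ = u := by rw [h.ln.sq _ hw, one_mul]
    · calc k * t * p * (k * t)⁻¹ = k * (t * p * t⁻¹) * k⁻¹ := by group
        _ = k * q * k⁻¹ := by rw [e1]
        _ = q := conj_eq_of_comm (h.V_comm hq hkV).symm

end Ab

/-! ### (L1) -/

/-- the group generated by the `K_p ∩ C_G(V)`, `p ∈ V#` -/
def xc (V : Subgroup G) : Subgroup G :=
  ⨆ p : {p : G // p ∈ V ∧ p ≠ 1}, kq V p ⊓ centralizer (V : Set G)

theorem kq_le_xc {V : Subgroup G} {p : G} (hp : p ∈ V) (hp1 : p ≠ 1) :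
    kq V p ⊓ centralizer (V : Set G) ≤ xc V :=
  le_iSup (fun p : {p : G // p ∈ V ∧ p ≠ 1} => kq V p ⊓ centralizer (V : Set G)) ⟨p, hp, hp1⟩

theorem xc_le_centralizer (V : Subgroup G) : xc V ≤ centralizer (V : Set G) :=
  iSup_le fun _ => inf_le_right

theorem normalizer_le_normalizer_xc (V : Subgroup G) :
    normalizer (V : Set G) ≤ normalizer ((xc V : Subgroup G) : Set G) := by
  have key : ∀ g ∈ normalizer (V : Set G), cj g (xc V) ≤ xc V := by
    intro g hg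
    rw [cj_le_iff]
    refine iSup_le fun p => ?_
    rw [← cj_le_iff, cj_inf, cj_kq, cj_eq_of_mem_normalizer (normalizer_le_normalizer_centralizer V hg)]
    refine kq_le_xc ((mem_normalizer_iff.mp hg p).mp p.2.1) (fun e => p.2.2 ?_)
    exact conj_eq_one_iff.mp e
  intro g hg
  rw [mem_normalizer_iff_cj]
  refine le_antisymm (key g hg) ?_
  have := key g⁻¹ (inv_mem hg)
  rwa [cj_le_iff, inv_inv] at this

/-- a Sylow subgroup meets a normal subgroup in a Sylow subgroup -/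
theorem not_dvd_relIndex_of_normal [Finite G] {N X T : Subgroup G} (_ : T ≤ N) (hT : IsPGroup 2 T)
    (hs : ¬ 2 ∣ T.relIndex N) (hX : X ≤ N) (hn : N ≤ normalizer (X : Set G)) : ¬ 2 ∣ T.relIndex X := by
  have : Fact (Nat.Prime 2) := ⟨Nat.prime_two⟩
  have hT' : IsPGroup 2 (T.subgroupOf N) := hT.comap_of_injective _ N.subtype_injective
  have : (X.subgroupOf N).Normal := normal_subgroupOf_of_le_normalizer hn
  have h1 := Lib.SylowNormalInf.not_dvd_relIndex (hT'.toSylow hs) (X.subgroupOf N)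
  have h2 : (((hT'.toSylow hs : Sylow 2 N) : Subgroup N)).relIndex (X.subgroupOf N) = T.relIndex X := by
    change (T.subgroupOf N).relIndex (X.subgroupOf N) = T.relIndex X
    rw [Subgroup.relIndex_subgroupOf hX]
  rwa [h2] at h1

namespace Ab

variable {T V : Subgroup G} {z : G}

/-- `[ii V, xc V] ≤ V` -/
theorem xc_ii (h : Ab T V z) {x u : G} (hx : x ∈ xc V) (hu : u ∈ ii V) : x * u * x⁻¹ * u⁻¹ ∈ V := by
  let A : Subgroup G :=
    { carrier := {g | g ∈ centralizer (V : Set G) ∧ ∀ d ∈ ii V, g * d * g⁻¹ * d⁻¹ ∈ V}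
      mul_mem' := by
        rintro a b ⟨ha, ha1⟩ ⟨hb, hb1⟩
        refine ⟨mul_mem ha hb, fun d hd => ?_⟩
        have e : a * b * d * (a * b)⁻¹ * d⁻¹ =
            (a * (b * d * b⁻¹ * d⁻¹) * a⁻¹) * (a * d * a⁻¹ * d⁻¹) := by group
        rw [e]
        exact mul_mem ((mem_normalizer_iff.mp (centralizer_le_normalizer _ ha) _).mp (hb1 d hd)) (ha1 d hd)
      one_mem' := ⟨one_mem _, fun d _ => by simp⟩
      inv_mem' := by
        rintro a ⟨ha, ha1⟩
        refine ⟨inv_mem ha, fun d hd => ?_⟩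
        have hd' : a⁻¹ * d * a ∈ ii V := conj_mem_of_normalizer' (normalizer_le_normalizer_ii V)
          (centralizer_le_normalizer _ ha) hd
        have h1 := inv_mem (ha1 _ hd')
        have e : (a * (a⁻¹ * d * a) * a⁻¹ * (a⁻¹ * d * a)⁻¹)⁻¹ = a⁻¹ * d * a⁻¹⁻¹ * d⁻¹ := by group
        rwa [e] at h1 }
  have hA : xc V ≤ A := by
    refine iSup_le fun p k hk => ⟨hk.2, fun d hd => ?_⟩
    rcases h.kq_cases p.2.1 hk.1 (hd p p.2.1 p.2.2) with e | e
    · rw [e, mul_inv_cancel]; exact one_mem _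
    · rw [e, mul_inv_cancel_right]; exact p.2.1
  exact (hA hx).2 u hu

/-- **(L1)** for `u ∈ ii V`, `u ∉ V` the group `T ∩ xc V` maps `u` onto all of `V u` -/
theorem exists_T [Finite G] (h : Ab T V z) {u : G} (hu : u ∈ ii V) (huV : u ∉ V) {v : G} (hv : v ∈ V) :
    ∃ t ∈ T, t ∈ xc V ∧ t * u * t⁻¹ = v * u := by
  by_cases hv1 : v = 1
  · exact ⟨1, one_mem _, one_mem _, by rw [hv1]; simp⟩
  obtain ⟨x, hx, hxV, hxu⟩ := h.fu hu huV hv hv1
  have hxX : x ∈ xc V := kq_le_xc hv hv1 ⟨hx, hxV⟩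
  have hXN : xc V ≤ normalizer (V : Set G) := (xc_le_centralizer V).trans (centralizer_le_normalizer _)
  have hs := not_dvd_relIndex_of_normal h.ln.T_norm h.ln.two h.ln.T_syl' hXN
    (normalizer_le_normalizer_xc V)
  -- the kernel
  let K : Subgroup G := xc V ⊓ centralizer ({u} : Set G)
  have hphi : ∀ y ∈ xc V, ∃ w ∈ V, y * u * y⁻¹ = w * u := fun y hy =>
    ⟨_, h.xc_ii hy hu, by group⟩
  have hVc : ∀ w ∈ V, ∀ y ∈ xc V, y * w = w * y := fun w hw y hy =>
    (h.V_comm hw (xc_le_centralizer V hy)).symm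
  have huc := h.ii_le_centralizer hu
  have hKn : xc V ≤ normalizer (K : Set G) := by
    refine le_normalizer_of_forall fun y hy k hk => ?_
    refine mem_inf.mpr ⟨mul_mem (mul_mem hy hk.1) (inv_mem hy), ?_⟩
    rw [mem_centralizer_singleton_iff]
    have hk2 := mem_centralizer_singleton_iff.mp hk.2
    obtain ⟨w, hw, hyw⟩ := hphi _ (inv_mem hy)
    have e1 : y⁻¹ * u * y = w * u := by rw [← hyw]; group
    have e2 : k * (w * u) * k⁻¹ = w * u := by
      calc k * (w * u) * k⁻¹ = (k * w * k⁻¹) * (k * u * k⁻¹) := by group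
        _ = w * u := by rw [conj_eq_of_comm (hVc w hw k hk.1), conj_eq_of_comm hk2]
    apply comm_of_conj_eq
    calc y * k * y⁻¹ * u * (y * k * y⁻¹)⁻¹ = y * (k * (y⁻¹ * u * y) * k⁻¹) * y⁻¹ := by group
      _ = y * (y⁻¹ * u * y) * y⁻¹ := by rw [e1, e2]
      _ = u := by group
  have hsup := MinSimple.BTwoB.le_sup_inf_of_pow (C := xc V) (T := T ⊓ xc V) (N := xc V) (K := K)
    inf_le_right (h.ln.two.to_le inf_le_left) (by rwa [inf_relIndex_right]) le_rfl le_normalizer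
    inf_le_left hKn (fun y hy => ⟨1, by
      rw [pow_one, pow_two]
      refine mem_inf.mpr ⟨mul_mem hy hy, ?_⟩
      rw [mem_centralizer_singleton_iff]
      obtain ⟨w, hw, hyw⟩ := hphi y hy
      apply comm_of_conj_eq
      calc y * y * u * (y * y)⁻¹ = y * (y * u * y⁻¹) * y⁻¹ := by group
        _ = y * (w * u) * y⁻¹ := by rw [hyw]
        _ = (y * w * y⁻¹) * (y * u * y⁻¹) := by group
        _ = w * (w * u) := by rw [conj_eq_of_comm (hVc w hw y hy), hyw]
        _ = (w * w) * u := by group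
        _ = u := by rw [h.ln.sq w hw, one_mul]⟩)
  have hx2 := hsup hxX
  rw [inf_assoc, inf_idem] at hx2
  have hn2 : T ⊓ xc V ≤ normalizer (K : Set G) := inf_le_right.trans hKn
  rw [← SetLike.mem_coe, coe_mul_of_right_le_normalizer_left _ _ hn2] at hx2
  obtain ⟨k, hk, t, ht, hkt⟩ := hx2
  have hkt' : k * t = x := hkt
  have hk' : k ∈ K := hk
  have ht' : t ∈ T ⊓ xc V := ht
  refine ⟨t, ht'.1, ht'.2, ?_⟩
  have hk2 := mem_centralizer_singleton_iff.mp hk'.2
  have e1 : t = k⁻¹ * x := by rw [← hkt']; group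
  have e3 : k⁻¹ * u * k = u := by
    rw [mul_assoc, ← hk2, inv_mul_cancel_left]
  calc t * u * t⁻¹ = k⁻¹ * (x * u * x⁻¹) * k := by rw [e1]; group
    _ = k⁻¹ * (v * u) * k := by rw [hxu]
    _ = (k⁻¹ * v * k⁻¹⁻¹) * (k⁻¹ * u * k) := by group
    _ = v * u := by rw [conj_eq_of_comm (hVc v hv k⁻¹ (inv_mem hk'.1)), e3]

/-- (L1): an element of `ii V` fixed by `T` modulo `⟨z⟩` lies in `V` -/
theorem mem_V_of_T [Finite G] (h : Ab T V z) {u : G} (hu : u ∈ ii V)
    (hT : ∀ t ∈ T, t * u * t⁻¹ = u ∨ t * u * t⁻¹ = z * u) : u ∈ V := by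
  by_contra huV
  obtain ⟨y, hy, hy1, hyz⟩ := h.ln.exists_y
  obtain ⟨t, ht, -, e⟩ := h.exists_T hu huV hy
  rcases hT t ht with e' | e' <;> rw [e'] at e
  · exact hy1 (by simpa using e.symm)
  · exact hyz (mul_right_cancel e).symm

/-- (F1), Sylow form: some element of `T ∩ K_z` interchanges the two points of `V` different from `z` -/
theorem exists_T_kq [Finite G] (h : Ab T V z) :
    ∃ t ∈ T, t ∈ kq V z ∧ ∀ q ∈ V, q ≠ 1 → q ≠ z → t * q * t⁻¹ = z * q := by
  have hz := h.ln.z_mem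
  have hz1 := h.ln.z_ne
  have hs := not_dvd_relIndex_of_normal h.ln.T_le h.ln.two h.ln.T_syl (kq_le_centralizer V z)
    (centralizer_le_normalizer_kq V z)
  have hKN := h.kq_le_normalizer hz hz1
  have hsup := MinSimple.BTwoB.le_sup_inf_of_pow (C := kq V z) (T := T ⊓ kq V z) (N := kq V z)
    (K := kq V z ⊓ centralizer (V : Set G))
    inf_le_right (h.ln.two.to_le inf_le_left) (by rwa [inf_relIndex_right]) le_rfl le_normalizer
    inf_le_left (by
      refine le_normalizer_of_forall fun y hy k hk => ?_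
      exact mem_inf.mpr ⟨mul_mem (mul_mem hy hk.1) (inv_mem hy), conj_mem_of_normalizer
        (normalizer_le_normalizer_centralizer V) (hKN hy) hk.2⟩) (fun y hy => ⟨1, by
      rw [pow_one, pow_two]
      refine mem_inf.mpr ⟨mul_mem hy hy, ?_⟩
      rw [mem_centralizer_iff]
      intro v hv
      have h1 : y * y * v * (y * y)⁻¹ = v := by
        calc y * y * v * (y * y)⁻¹ = y * (y * v * y⁻¹) * y⁻¹ := by group
          _ = v := by
            rcases h.kq_cases hz hy (h.V_le hz hz1 hv) with e | e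
            · rw [e, e]
            · have e2 : y * (z * v) * y⁻¹ = (y * z * y⁻¹) * (y * v * y⁻¹) := by group
              rw [e, e2, conj_eq_of_comm (h.kq_p hy), e, ← mul_assoc, h.ln.zz, one_mul]
      exact (comm_of_conj_eq h1).symm⟩)
  by_contra hcon
  obtain ⟨k, hk, hk1⟩ := h.f1
  have hle : T ⊓ kq V z ≤ centralizer (V : Set G) := by
    intro t ht
    by_contra htV
    exact hcon ⟨t, ht.1, ht.2, fun q hq hq1 hqz => h.move hz hz1 hq hq1 hqz ht.2 htV⟩
  refine hk1 ((hsup.trans (sup_le inf_le_right ?_)) hk)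
  rw [inf_assoc, inf_idem]
  exact hle

/-- each point of each line is as good as `z` -/
theorem line (h : Ab T V z) {g x : G} (hx : x ∈ cj g V) (hx1 : x ≠ 1) :
    ∃ T' : Subgroup G, Ab T' (cj g V) x := by
  obtain ⟨k, -, -, hk⟩ := (h.conj g).point hx hx1
  exact ⟨_, hk⟩

end Ab

end Cfsg.Agent.Omega.NO3S.Far
end
end
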